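import Cfsg.Agent.S0144
import Cfsg.Agent.S1221
import Cfsg.Agent.Lib.Solvable.Cores
import Cfsg.Agent.Lib.Fusion.Abelian
import Cfsg.Agent.Lib.OddOrder.PStable
import Cfsg.Agent.Lib.LocalEven.StronglyEmbedded
import Cfsg.Agent.Lib.Involution.Basic

/-!
Groups all whose elements have prime order or order `2 q`: element and centraliser lemmas, and a
criterion for strongly embedded subgroups when the Sylow 2-subgroups are abelian.
-/

set_option autoImplicit false
set_option linter.unusedSectionVars false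

open Subgroup

namespace CfsgLib.Recognition.OneComposite

universe u

/-- Every nontrivial element has prime order or order `2 q`. -/
structure Hyp (G : Type u) [Group G] (q : ℕ) : Prop where
  prime : q.Prime
  ne_two : q ≠ 2
  ord : ∀ g : G, g ≠ 1 → (orderOf g).Prime ∨ orderOf g = 2 * q

variable {G : Type u} [Group G] [Finite G] {q : ℕ}

/-- The largest normal subgroup of odd order of a subgroup, as a subgroup of `G`. -/
def cr (N : Subgroup G) : Subgroup G := (Cfsg.oddCore ↥N).map N.subtype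

theorem cr_le (N : Subgroup G) : cr N ≤ N := map_subtype_le _

theorem odd_card_cr (N : Subgroup G) : Odd (Nat.card ↥(cr N)) := by
  rw [cr, card_map_of_injective N.subtype_injective]
  exact Nat.coprime_two_right.1 (CfsgLib.Solvable.Cores.coprime_card_pPrimeCore (G := ↥N) 2)

theorem normalizer_le_normalizer_cr (N : Subgroup G) :
    normalizer (N : Set G) ≤ normalizer (cr N : Set G) := by
  haveI : (Cfsg.oddCore ↥N).Characteristic :=
    CfsgLib.Solvable.Cores.pPrimeCore_characteristic 2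
  exact CfsgLib.OddOrder.PStable.normalizer_le_normalizer_map N _

theorem conj_mem_of_normalizer {N : Subgroup G} {g x : G} (hg : g ∈ normalizer (N : Set G))
    (hx : x ∈ N) : g * x * g⁻¹ ∈ N :=
  (mem_normalizer_iff.1 hg x).1 hx

theorem mem_C {t g : G} : g ∈ centralizer ({t} : Set G) ↔ g * t = t * g :=
  mem_centralizer_singleton_iff

theorem comm_of_sq {S : Subgroup G} (hS : ∀ x ∈ S, x ^ 2 = 1) {x y : G} (hx : x ∈ S) (hy : y ∈ S) :
    x * y = y * x := by
  have h : ∀ z ∈ S, z⁻¹ = z := fun z hz => inv_eq_of_mul_eq_one_right (by rw [← pow_two, hS z hz])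
  calc x * y = (x * y)⁻¹ := (h _ (mul_mem hx hy)).symm
    _ = y⁻¹ * x⁻¹ := mul_inv_rev x y
    _ = y * x := by rw [h x hx, h y hy]

theorem orderOf_two_of_sq {S : Subgroup G} (hS : ∀ x ∈ S, x ^ 2 = 1) {x : G} (hx : x ∈ S)
    (hx1 : x ≠ 1) : orderOf x = 2 :=
  orderOf_eq_prime (hS x hx) hx1

namespace Hyp

variable (h : Hyp G q)
include h

theorem sylow_sq (S : Sylow 2 G) : ∀ x ∈ (S : Subgroup G), x ^ 2 = 1 := by
  intro x hx
  obtain ⟨k, hk⟩ := S.isPGroup' ⟨x, hx⟩
  have hk' : x ^ 2 ^ k = 1 := congrArg Subtype.val hk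
  obtain ⟨j, -, hj⟩ := (Nat.dvd_prime_pow Nat.prime_two).1 (orderOf_dvd_of_pow_eq_one hk')
  rcases eq_or_ne x 1 with rfl | hx1
  · exact one_pow 2
  rcases h.ord x hx1 with hp | he
  · rw [hj] at hp
    have := (Nat.Prime.pow_eq_iff hp).1 rfl
    rw [← pow_orderOf_eq_one x, hj, this.2, pow_one]
  · rw [hj] at he
    have hd : q ∣ 2 ^ j := ⟨2, by rw [he, mul_comm]⟩
    exact absurd ((Nat.prime_dvd_prime_iff_eq h.prime Nat.prime_two).1
      (h.prime.dvd_of_dvd_pow hd)) h.ne_two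

theorem orderOf_odd {x : G} (hx : Odd (orderOf x)) (hx1 : x ≠ 1) :
    (orderOf x).Prime ∧ orderOf x ≠ 2 := by
  refine ⟨?_, fun e => by rw [e] at hx; exact absurd hx (by decide)⟩
  rcases h.ord x hx1 with hp | he
  · exact hp
  · rw [he] at hx
    exact absurd (even_two_mul q) (Nat.not_even_iff_odd.2 hx)

/-- An element of odd prime order in the centraliser of an involution has order `q`. -/
theorem eq_q_of_commute_invol {t x : G} {r : ℕ} (ht : orderOf t = 2) (hx : orderOf x = r)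
    (hr : r.Prime) (hr2 : r ≠ 2) (hc : t * x = x * t) : r = q := by
  have ho : orderOf (t * x) = 2 * r := by
    rw [Commute.orderOf_mul_eq_mul_orderOf_of_coprime hc, ht, hx]
    rw [ht, hx]
    exact (Nat.coprime_primes Nat.prime_two hr).2 hr2.symm
  have h1 : t * x ≠ 1 := fun e => by rw [e, orderOf_one] at ho; omega
  rcases h.ord _ h1 with hp | he
  · rw [ho] at hp
    exact absurd hp (Nat.not_prime_mul (by norm_num) hr.one_lt.ne')
  · omega

/-- Two commuting elements of odd prime orders have the same order. -/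
theorem eq_of_commute {x y : G} {r s : ℕ} (hx : orderOf x = r) (hy : orderOf y = s) (hr : r.Prime)
    (hs : s.Prime) (hr2 : r ≠ 2) (hs2 : s ≠ 2) (hc : x * y = y * x) : r = s := by
  by_contra hne
  have ho : orderOf (x * y) = r * s := by
    rw [Commute.orderOf_mul_eq_mul_orderOf_of_coprime hc, hx, hy]
    rw [hx, hy]
    exact (Nat.coprime_primes hr hs).2 hne
  have h1 : x * y ≠ 1 := fun e => by
    rw [e, orderOf_one] at ho
    exact hr.ne_one (Nat.eq_one_of_mul_eq_one_right ho.symm)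
  rcases h.ord _ h1 with hp | he
  · rw [ho] at hp
    exact absurd hp (Nat.not_prime_mul hr.one_lt.ne' hs.one_lt.ne')
  · rw [ho] at he
    exact hr2 ((Nat.prime_dvd_prime_iff_eq Nat.prime_two hr).1
      (((Nat.Prime.dvd_mul Nat.prime_two).1 (he ▸ dvd_mul_right 2 q)).resolve_right fun h2 =>
        hs2 ((Nat.prime_dvd_prime_iff_eq Nat.prime_two hs).1 h2).symm)).symm

theorem orderOf_eq_q {x : G} (hx : Odd (orderOf x)) (hx1 : x ≠ 1) {t : G} (ht : orderOf t = 2)
    (hc : t * x = x * t) : orderOf x = q :=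
  h.eq_q_of_commute_invol ht rfl (h.orderOf_odd hx hx1).1 (h.orderOf_odd hx hx1).2 hc

theorem primeFactors_centralizer {t : G} (ht : orderOf t = 2) :
    ∀ r ∈ (Nat.card ↥(centralizer ({t} : Set G))).primeFactors, r = 2 ∨ r = q := by
  intro r hr
  obtain ⟨hp, hd, -⟩ := Nat.mem_primeFactors.1 hr
  by_cases hr2 : r = 2
  · exact Or.inl hr2
  haveI := Fact.mk hp
  obtain ⟨⟨x, hxC⟩, hx⟩ := exists_prime_orderOf_dvd_card' r hd
  rw [Subgroup.orderOf_mk] at hx
  exact Or.inr (h.eq_q_of_commute_invol ht hx hp hr2 (mem_C.1 hxC).symm)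

theorem primeFactors_centralizer_q {y : G} (hy : orderOf y = q) :
    ∀ r ∈ (Nat.card ↥(centralizer ({y} : Set G))).primeFactors, r = 2 ∨ r = q := by
  intro r hr
  obtain ⟨hp, hd, -⟩ := Nat.mem_primeFactors.1 hr
  by_cases hr2 : r = 2
  · exact Or.inl hr2
  haveI := Fact.mk hp
  obtain ⟨⟨x, hxC⟩, hx⟩ := exists_prime_orderOf_dvd_card' r hd
  rw [Subgroup.orderOf_mk] at hx
  exact Or.inr (h.eq_of_commute hx hy hp h.prime hr2 h.ne_two (mem_C.1 hxC))

omit h in
theorem isSolvable_of_primes {K : Subgroup G}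
    (hK : ∀ r ∈ (Nat.card ↥K).primeFactors, r = 2 ∨ r = q) (hq : q.Prime) (hq2 : q ≠ 2) :
    Group.IsSolvable ↥K := by
  have hn : Nat.card ↥K ≠ 0 := Nat.card_pos.ne'
  have hprod := Nat.prod_factorization_pow_eq_self hn
  rw [Finsupp.prod, Nat.support_factorization] at hprod
  refine Cfsg.Agent.S0144.result 2 q ((Nat.card ↥K).factorization 2)
    ((Nat.card ↥K).factorization q) Nat.prime_two hq ?_
  conv_lhs => rw [← hprod]
  rw [← Finset.prod_pair (f := fun p => p ^ (Nat.card ↥K).factorization p) hq2.symm]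
  refine Finset.prod_subset (fun r hr => ?_) fun r _ hr => ?_
  · simp only [Finset.mem_insert, Finset.mem_singleton]
    exact hK r hr
  · rw [← Nat.support_factorization, Finsupp.notMem_support_iff] at hr
    rw [hr, pow_zero]

theorem isSolvable_centralizer {t : G} (ht : orderOf t = 2) :
    Group.IsSolvable ↥(centralizer ({t} : Set G)) :=
  isSolvable_of_primes (h.primeFactors_centralizer ht) h.prime h.ne_two

theorem isSolvable_centralizer_q {y : G} (hy : orderOf y = q) :
    Group.IsSolvable ↥(centralizer ({y} : Set G)) :=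
  isSolvable_of_primes (h.primeFactors_centralizer_q hy) h.prime h.ne_two

/-- A subgroup of odd order whose prime divisors are among `2, q` is a `q`-group. -/
theorem isPGroup_q {K L : Subgroup G} (hKL : K ≤ L) (hodd : Odd (Nat.card ↥K))
    (hL : ∀ r ∈ (Nat.card ↥L).primeFactors, r = 2 ∨ r = q) : IsPGroup q ↥K := by
  haveI := Fact.mk h.prime
  intro x
  rcases eq_or_ne x 1 with rfl | hx1
  · exact ⟨0, one_pow _⟩
  have hd : orderOf x ∣ Nat.card ↥K := orderOf_dvd_natCard x
  have hxo : Odd (orderOf (x : G)) := by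
    rw [Subgroup.orderOf_coe]
    exact Odd.of_dvd_nat hodd hd
  obtain ⟨hp, hp2⟩ := h.orderOf_odd hxo fun e => hx1 (Subtype.ext e)
  rw [Subgroup.orderOf_coe] at hp hp2
  have := (hL (orderOf x) (Nat.mem_primeFactors.2
    ⟨hp, hd.trans (card_dvd_of_le hKL), Nat.card_pos.ne'⟩)).resolve_left hp2
  exact ⟨1, by rw [pow_one, ← this, pow_orderOf_eq_one]⟩

theorem pow_q {K : Subgroup G} (hK : IsPGroup q ↥K) {x : G} (hx : x ∈ K) : x ^ q = 1 := by
  haveI := Fact.mk h.prime
  rcases eq_or_ne x 1 with rfl | hx1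
  · exact one_pow _
  obtain ⟨j, hj⟩ := IsPGroup.iff_orderOf.1 hK ⟨x, hx⟩
  rw [Subgroup.orderOf_mk] at hj
  rcases h.ord x hx1 with hp | he
  · rw [hj] at hp
    obtain ⟨-, rfl⟩ := (Nat.Prime.pow_eq_iff hp).1 rfl
    rw [pow_one] at hj
    rw [← hj, pow_orderOf_eq_one]
  · rw [hj] at he
    exact absurd ((Nat.prime_dvd_prime_iff_eq Nat.prime_two h.prime).1
      (Nat.prime_two.dvd_of_dvd_pow (he ▸ dvd_mul_right 2 q))).symm h.ne_two

end Hyp

/-- A normal 2-complement of `N` holds every element of odd order and all commutators. -/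
theorem cr_of_npc {N : Subgroup G} (P : Sylow 2 ↥N)
    (hle : normalizer ((P : Subgroup ↥N) : Set ↥N) ≤ centralizer ((P : Subgroup ↥N) : Set ↥N)) :
    (∀ x ∈ N, Odd (orderOf x) → x ∈ cr N) ∧
      ∀ x ∈ N, ∀ y ∈ N, x * y * x⁻¹ * y⁻¹ ∈ cr N := by
  haveI : Fact (Nat.Prime 2) := ⟨Nat.prime_two⟩
  have hK := MonoidHom.ker_transferSylow_isComplement' P hle
  set f := MonoidHom.transferSylow P hle with hf
  have hKle : f.ker ≤ Cfsg.oddCore ↥N := by
    refine CfsgLib.Solvable.Cores.le_pPrimeCore ?_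
    have h2 : ¬ 2 ∣ Nat.card ↥f.ker := by
      rw [← hK.index_eq_card]
      exact P.not_dvd_index
    exact ((Nat.Prime.coprime_iff_not_dvd Nat.prime_two).2 h2).symm
  refine ⟨fun x hx hodd => ⟨⟨x, hx⟩, hKle ?_, rfl⟩, fun x hx y hy =>
    ⟨⟨x, hx⟩ * ⟨y, hy⟩ * ⟨x, hx⟩⁻¹ * ⟨y, hy⟩⁻¹, hKle ?_, rfl⟩⟩
  · rw [MonoidHom.mem_ker, ← orderOf_eq_one_iff]
    obtain ⟨k, hk⟩ := IsPGroup.iff_orderOf.1 P.isPGroup' (f ⟨x, hx⟩)
    have hd := orderOf_map_dvd f ⟨x, hx⟩
    rw [hk, Subgroup.orderOf_mk] at hd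
    rw [hk]
    rcases Nat.eq_zero_or_pos k with rfl | hk0
    · exact pow_zero 2
    · exact absurd (((dvd_pow_self 2 hk0.ne').trans hd)) hodd.not_two_dvd_nat
  · have hc : ∀ u w : ↥(P : Subgroup ↥N), u * w = w * u := fun u w =>
      Subtype.ext (mem_centralizer_iff.1 (hle (le_normalizer w.2)) u u.2)
    rw [MonoidHom.mem_ker, map_mul, map_mul, map_mul, map_inv, map_inv, hc (f ⟨x, hx⟩) (f ⟨y, hy⟩)]
    group

/-- A normal 2-complement of `N` holds every element of odd order. -/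
theorem mem_cr_of_odd (V : Sylow 2 G) {N : Subgroup G} (hVN : (V : Subgroup G) ≤ N)
    (hc : ∀ n ∈ N, n ∈ normalizer ((V : Subgroup G) : Set G) →
      n ∈ centralizer ((V : Subgroup G) : Set G))
    {x : G} (hx : x ∈ N) (hodd : Odd (orderOf x)) : x ∈ cr N := by
  haveI : Fact (Nat.Prime 2) := ⟨Nat.prime_two⟩
  refine (cr_of_npc (V.subtype hVN) ?_).1 x hx hodd
  intro n hn
  have h1 : (n : G) ∈ normalizer ((V : Subgroup G) : Set G) := by
    refine mem_normalizer_iff.2 fun y => ⟨fun hy => ?_, fun hy => ?_⟩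
    · exact mem_subgroupOf.1 ((mem_normalizer_iff.1 hn ⟨y, hVN hy⟩).1 (mem_subgroupOf.2 hy))
    · have hyN : y ∈ N := by
        have := mul_mem (mul_mem (inv_mem n.2) (hVN hy)) n.2
        simpa [mul_assoc] using this
      exact mem_subgroupOf.1 ((mem_normalizer_iff.1 hn ⟨y, hyN⟩).2 (mem_subgroupOf.2 hy))
  refine mem_centralizer_iff.2 fun y hy => Subtype.ext ?_
  exact mem_centralizer_iff.1 (hc n n.2 h1) y (mem_subgroupOf.1 hy)

theorem oddCore_eq_bot_of_simple [IsSimpleGroup G] (h2 : 2 ∣ Nat.card G) :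
    Cfsg.oddCore G = ⊥ := by
  rcases IsSimpleGroup.eq_bot_or_eq_top_of_normal (Cfsg.oddCore G)
    (CfsgLib.Solvable.Cores.pPrimeCore_normal 2) with h | h
  · exact h
  · have := CfsgLib.Solvable.Cores.coprime_card_pPrimeCore (G := G) 2
    rw [show Cfsg.pPrimeCore 2 G = ⊤ from h, card_top] at this
    exact absurd h2 ((Nat.Prime.coprime_iff_not_dvd Nat.prime_two).1 this.symm)

/-- Centralisers of the involutions of an abelian Sylow subgroup and its normaliser. -/
theorem stronglyEmbedded_of (S : Sylow 2 G) (hS1 : (S : Subgroup G) ≠ ⊥) {H : Subgroup G}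
    (hH : H ≠ ⊤) (hN : normalizer ((S : Subgroup G) : Set G) ≤ H)
    (hC : ∀ x ∈ (S : Subgroup G), orderOf x = 2 → centralizer ({x} : Set G) ≤ H) :
    Cfsg.IsStronglyEmbedded H := by
  haveI : Fact (Nat.Prime 2) := ⟨Nat.prime_two⟩
  have hSH : (S : Subgroup G) ≤ H := le_normalizer.trans hN
  obtain ⟨-, -, hm⟩ := CfsgLib.LocalEven.StronglyEmbedded.of_centralizer (p := 2) hH
    (S := (S : Subgroup G)) ⟨hSH, S.isPGroup', fun U _ hU hle => S.is_maximal' hU hle⟩ hC hN
  obtain ⟨x, hxS, hx⟩ := CfsgLib.LocalEven.StronglyEmbedded.exists_order_p S.isPGroup' hS1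
  refine ⟨hH, even_iff_two_dvd.2 (hx ▸ Subgroup.orderOf_dvd_natCard H (hSH hxS)), fun g hg => ?_⟩
  rw [← Nat.not_even_iff_odd]
  intro he
  obtain ⟨y, ⟨hyH, z, hzH, hzy⟩, hy⟩ := CfsgLib.Involution.Basic.exists_involution_of_even _ he
  refine hg (inv_inv g ▸ inv_mem (hm y g⁻¹ hyH hy ?_))
  rw [← hzy]
  simpa [mul_assoc] using hzH

/-- No nontrivial odd-order subgroup is normalised by `N(S)` and the involution centralisers. -/
theorem no_odd_invariant [IsSimpleGroup G] (S : Sylow 2 G) (hS1 : (S : Subgroup G) ≠ ⊥)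
    {M : Subgroup G} (hM : Odd (Nat.card ↥M))
    (hN : normalizer ((S : Subgroup G) : Set G) ≤ normalizer (M : Set G))
    (hC : ∀ x ∈ (S : Subgroup G), orderOf x = 2 →
      centralizer ({x} : Set G) ≤ normalizer (M : Set G)) : M = ⊥ := by
  haveI : Fact (Nat.Prime 2) := ⟨Nat.prime_two⟩
  obtain ⟨x, hxS, hx⟩ := CfsgLib.LocalEven.StronglyEmbedded.exists_order_p S.isPGroup' hS1
  have h2 : 2 ∣ Nat.card G := hx ▸ orderOf_dvd_natCard x
  by_cases hH : normalizer (M : Set G) = ⊤
  · haveI : M.Normal := normalizer_eq_top_iff.1 hH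
    rcases IsSimpleGroup.eq_bot_or_eq_top_of_normal M inferInstance with e | e
    · exact e
    · rw [e, card_top] at hM
      exact absurd h2 hM.not_two_dvd_nat
  have hse := stronglyEmbedded_of S hS1 hH hN hC
  have h1 := Cfsg.Agent.S1221.result _ hse
  rw [oddCore_eq_bot_of_simple h2, le_bot_iff] at h1
  haveI : (M.subgroupOf (normalizer (M : Set G))).Normal := inferInstance
  have h3 : M.subgroupOf (normalizer (M : Set G)) ≤ Cfsg.oddCore ↥(normalizer (M : Set G)) := by
    refine CfsgLib.Solvable.Cores.le_pPrimeCore ?_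
    rw [Nat.card_congr (subgroupOfEquivOfLe le_normalizer).toEquiv]
    exact Nat.coprime_two_right.2 hM
  refine eq_bot_iff.2 fun m hm => ?_
  rw [← h1]
  exact ⟨⟨m, le_normalizer hm⟩, h3 (mem_subgroupOf.2 hm), rfl⟩

end CfsgLib.Recognition.OneComposite
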