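import Cfsg.Agent.Lib.Recognition.OneComposite.Basic
import Cfsg.Agent.Lib.Coprime.Generation
import Cfsg.Agent.Lib.PGroup.Frattini

/-!
A four group permuted cyclically by an element normalising a `q`-subgroup centralises it.
-/

set_option autoImplicit false

open Subgroup
open scoped commutatorElement

namespace CfsgLib.Recognition.OneComposite

universe u

variable {G : Type u} [Group G] [Finite G] {q : ℕ}

theorem exists_mul_pow {D : Subgroup G} {σ r : G} (hσ : σ ∈ normalizer (D : Set G)) (hr : r ∈ D)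
    (k : ℕ) : ∃ d ∈ D, (r * σ) ^ k = d * σ ^ k := by
  induction k with
  | zero => exact ⟨1, one_mem _, by simp⟩
  | succ k ih =>
    obtain ⟨d, hd, e⟩ := ih
    refine ⟨d * (σ ^ k * r * (σ ^ k)⁻¹),
      mul_mem hd (conj_mem_of_normalizer (pow_mem hσ k) hr), ?_⟩
    rw [pow_succ, e, pow_succ]
    group

theorem eq_of_sq_eq {Q : Type*} [Group Q] (hc : ∀ x y : Q, x * y = y * x) (hq : Odd q)
    (he : ∀ x : Q, x ^ q = 1) {u v w u' v' w' : Q} (h1 : u * v * w = 1) (h2 : u * v' * w' = 1)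
    (h3 : u' * v * w' = 1) (h4 : u' * v' * w = 1) : u' = u := by
  letI : CommGroup Q := { ‹Group Q› with mul_comm := hc }
  have e1 : (u * u) * (v * w * v' * w') = (u * v * w) * (u * v' * w') := by ac_rfl
  have e2 : (u' * u') * (v * w * v' * w') = (u' * v * w') * (u' * v' * w) := by ac_rfl
  rw [h1, h2] at e1
  rw [h3, h4] at e2
  have hsq : u' ^ 2 = u ^ 2 := by rw [pow_two, pow_two]; exact mul_right_cancel (e2.trans e1.symm)
  obtain ⟨k, hk⟩ := hq
  have h5 := he u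
  have h6 := he u'
  rw [hk, pow_succ, pow_mul] at h5 h6
  rw [hsq] at h6
  exact mul_left_cancel (h6.trans h5.symm)

omit [Finite G] in
/-- The cyclic action of `σ` on a four group. -/
theorem cycle_pow {a b σ : G} (hab : a ≠ b) (hb1 : b ≠ 1) (ha2 : a * a = 1) (hb2 : b * b = 1)
    (hc : a * b = b * a) (h1 : σ * a * σ⁻¹ = b) (h2 : σ * b * σ⁻¹ = a * b) {k : ℕ}
    (hfix : σ ^ k * a * (σ ^ k)⁻¹ = a) : 3 ∣ k := by
  have h3 : σ * (a * b) * σ⁻¹ = a := by
    rw [show σ * (a * b) * σ⁻¹ = (σ * a * σ⁻¹) * (σ * b * σ⁻¹) by group, h1, h2, hc, ← mul_assoc,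
      hb2, one_mul]
  have hstep : ∀ j, σ ^ (3 * j) * a * (σ ^ (3 * j))⁻¹ = a := by
    intro j
    induction j with
    | zero => simp
    | succ j ih =>
      calc σ ^ (3 * (j + 1)) * a * (σ ^ (3 * (j + 1)))⁻¹
          = σ * (σ * (σ * (σ ^ (3 * j) * a * (σ ^ (3 * j))⁻¹) * σ⁻¹) * σ⁻¹) * σ⁻¹ := by
            rw [show 3 * (j + 1) = 1 + (1 + (1 + 3 * j)) by ring, pow_add, pow_add, pow_add, pow_one]
            group
        _ = a := by rw [ih, h1, h2, h3]
  rcases (show k % 3 = 0 ∨ k % 3 = 1 ∨ k % 3 = 2 by omega) with e | e | e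
  · exact Nat.dvd_of_mod_eq_zero e
  · exfalso
    refine hab ?_
    calc a = σ ^ k * a * (σ ^ k)⁻¹ := hfix.symm
      _ = σ * (σ ^ (3 * (k / 3)) * a * (σ ^ (3 * (k / 3)))⁻¹) * σ⁻¹ := by
        rw [show σ ^ k = σ * σ ^ (3 * (k / 3)) by rw [← pow_succ']; congr 1; omega]
        group
      _ = b := by rw [hstep, h1]
  · exfalso
    refine hb1 ?_
    have : a = a * b := by
      calc a = σ ^ k * a * (σ ^ k)⁻¹ := hfix.symm
        _ = σ * (σ * (σ ^ (3 * (k / 3)) * a * (σ ^ (3 * (k / 3)))⁻¹) * σ⁻¹) * σ⁻¹ := by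
          rw [show σ ^ k = σ * (σ * σ ^ (3 * (k / 3))) by rw [← pow_succ', ← pow_succ']; congr 1; omega]
          group
        _ = a * b := by rw [hstep, h1, h2]
    exact left_eq_mul.1 this

/-- An element cycling a four group can be taken with cube one. -/
theorem exists_cycle_three (h : Hyp G q) {K : Subgroup G} {a b σ : G} (hab : a ≠ b) (hb1 : b ≠ 1)
    (ha2 : a * a = 1) (hb2 : b * b = 1) (hc : a * b = b * a) (hσ : σ ∈ K)
    (h1 : σ * a * σ⁻¹ = b) (h2 : σ * b * σ⁻¹ = a * b) :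
    ∃ τ ∈ K, τ ^ 3 = 1 ∧ τ * a * τ⁻¹ = b ∧ τ * b * τ⁻¹ = a * b := by
  have h3 : 3 ∣ orderOf σ :=
    cycle_pow hab hb1 ha2 hb2 hc h1 h2 (by rw [pow_orderOf_eq_one]; group)
  have hσ1 : σ ≠ 1 := fun e => by
    rw [e, orderOf_one] at h3
    exact absurd h3 (by norm_num)
  rcases h.ord σ hσ1 with hp | he
  · have e3 : 3 = orderOf σ := (Nat.prime_dvd_prime_iff_eq Nat.prime_three hp).1 h3
    exact ⟨σ, hσ, by rw [e3, pow_orderOf_eq_one], h1, h2⟩
  · have hq3 : q = 3 := by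
      rw [he] at h3
      exact ((Nat.prime_dvd_prime_iff_eq Nat.prime_three h.prime).1
        ((Nat.Coprime.dvd_mul_left (by norm_num)).1 h3)).symm
    rw [hq3] at he
    have h6 : σ ^ 6 = 1 := by rw [← pow_orderOf_eq_one σ, he]
    have h3' : σ * (a * b) * σ⁻¹ = a := by
      rw [show σ * (a * b) * σ⁻¹ = (σ * a * σ⁻¹) * (σ * b * σ⁻¹) by group, h1, h2, hc, ← mul_assoc,
        hb2, one_mul]
    refine ⟨σ ^ 4, pow_mem hσ 4, ?_, ?_, ?_⟩
    · rw [← pow_mul, show 4 * 3 = 6 + 6 by norm_num, pow_add, h6, one_mul]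
    · calc σ ^ 4 * a * (σ ^ 4)⁻¹ = σ * (σ * (σ * (σ * a * σ⁻¹) * σ⁻¹) * σ⁻¹) * σ⁻¹ := by
              rw [show σ ^ 4 = σ * (σ * (σ * σ)) by simp only [pow_succ, pow_zero, one_mul, mul_assoc]]
              group
        _ = b := by rw [h1, h2, h3', h1]
    · calc σ ^ 4 * b * (σ ^ 4)⁻¹ = σ * (σ * (σ * (σ * b * σ⁻¹) * σ⁻¹) * σ⁻¹) * σ⁻¹ := by
              rw [show σ ^ 4 = σ * (σ * (σ * σ)) by simp only [pow_succ, pow_zero, one_mul, mul_assoc]]
              group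
        _ = a * b := by rw [h2, h3', h1, h2]

omit [Finite G] in
/-- The elements of a four group. -/
theorem mem_four {V : Subgroup G} (hVcard : Nat.card ↥V = 4) (hV2 : ∀ x ∈ V, x ^ 2 = 1) {a b : G}
    (ha : a ∈ V) (hb : b ∈ V) (ha1 : a ≠ 1) (hb1 : b ≠ 1) (hab : a ≠ b) :
    ∀ x ∈ V, x = 1 ∨ x = a ∨ x = b ∨ x = a * b := by
  intro x hx
  classical
  have hfin : (V : Set G).Finite :=
    Set.finite_coe_iff.1 (Nat.finite_of_card_ne_zero (by rw [hVcard]; norm_num) : Finite ↥V)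
  have hsub : ({1, a, b, a * b} : Finset G) ⊆ hfin.toFinset := by
    intro y hy
    simp only [Finset.mem_insert, Finset.mem_singleton] at hy
    rw [Set.Finite.mem_toFinset, SetLike.mem_coe]
    rcases hy with rfl | rfl | rfl | rfl
    exacts [one_mem _, ha, hb, mul_mem ha hb]
  have hab1 : a * b ≠ 1 := fun e => hab (by
    rw [eq_inv_of_mul_eq_one_left e, inv_eq_iff_mul_eq_one, ← pow_two, hV2 b hb])
  have hcard : ({1, a, b, a * b} : Finset G).card = 4 := by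
    rw [Finset.card_insert_of_notMem, Finset.card_insert_of_notMem, Finset.card_insert_of_notMem,
      Finset.card_singleton]
    · simp [ha1]
    · simp [hab, hb1]
    · simp [ha1.symm, hb1.symm, hab1.symm]
  have heq := Finset.eq_of_subset_of_card_le hsub (le_of_eq (by
    rw [hcard, ← hVcard, ← Set.ncard_eq_toFinset_card _ hfin]
    rfl))
  have : x ∈ ({1, a, b, a * b} : Finset G) := by
    rw [heq, Set.Finite.mem_toFinset]; exact hx
  simpa using this

/-- `V = ⟨a, b⟩` centralises every normalised `q`-subgroup on which `σ` acts as well. -/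
theorem centralize_of_cycle (h : Hyp G q) {V D : Subgroup G} (hVcard : Nat.card ↥V = 4)
    (hV2 : ∀ x ∈ V, x ^ 2 = 1) {a b σ : G} (ha : a ∈ V) (hb : b ∈ V) (ha1 : a ≠ 1) (hb1 : b ≠ 1)
    (hab : a ≠ b) (hD : IsPGroup q ↥D) (hVD : V ≤ normalizer (D : Set G))
    (hσ : σ ∈ normalizer (D : Set G)) (h1 : σ * a * σ⁻¹ = b) (h2 : σ * b * σ⁻¹ = a * b) :
    V ≤ centralizer (D : Set G) := by
  haveI := Fact.mk h.prime
  have ha2 : a * a = 1 := by rw [← pow_two]; exact hV2 a ha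
  have hb2 : b * b = 1 := by rw [← pow_two]; exact hV2 b hb
  have hc := comm_of_sq hV2 ha hb
  obtain ⟨τ, hτ, hτ3, t1, t2⟩ := exists_cycle_three h hab hb1 ha2 hb2 hc hσ h1 h2
  have hVq : (Nat.card ↥V).Coprime (Nat.card ↥D) := by
    obtain ⟨n, hn⟩ := IsPGroup.iff_card.1 hD
    rw [hVcard, hn, show 4 = 2 ^ 2 from rfl]
    exact Nat.Coprime.pow _ _ ((Nat.coprime_primes Nat.prime_two h.prime).2 h.ne_two.symm)
  have hVD1 : V ⊓ D = ⊥ := inf_eq_bot_of_coprime hVq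
  have hDodd : ∀ d ∈ D, d ^ 2 = 1 → d = 1 := fun d hd hd2 => by
    obtain ⟨k, hk⟩ := h.prime.odd_of_ne_two h.ne_two
    have := h.pow_q hD hd
    rwa [hk, pow_succ, pow_mul, hd2, one_pow, one_mul] at this
  -- the relation
  have hrel : ∀ r ∈ D, r * (τ * r * τ⁻¹) * (τ * (τ * r * τ⁻¹) * τ⁻¹) = 1 := by
    intro r hr
    have hfix : ∀ k, (r * τ) ^ k = 1 → 3 ∣ k := by
      intro k hk
      obtain ⟨d, hd, e⟩ := exists_mul_pow hτ hr k
      rw [hk] at e
      have hτk : τ ^ k = d⁻¹ := eq_inv_of_mul_eq_one_right e.symm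
      refine cycle_pow hab hb1 ha2 hb2 hc t1 t2 ?_
      rw [hτk]
      have hm : d⁻¹ * a * (d⁻¹)⁻¹ * a⁻¹ ∈ V ⊓ D := by
        constructor
        · have hV' : τ ^ k * a * (τ ^ k)⁻¹ ∈ V := by
            have ht : ∀ j, τ ^ j * a * (τ ^ j)⁻¹ = a ∨ τ ^ j * a * (τ ^ j)⁻¹ = b ∨
                τ ^ j * a * (τ ^ j)⁻¹ = a * b := by
              intro j
              induction j with
              | zero => simp
              | succ j ih =>
                have e : τ ^ (j + 1) * a * (τ ^ (j + 1))⁻¹ =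
                    τ * (τ ^ j * a * (τ ^ j)⁻¹) * τ⁻¹ := by rw [pow_succ']; group
                rw [e]
                rcases ih with i | i | i <;> rw [i]
                · exact Or.inr (Or.inl t1)
                · exact Or.inr (Or.inr t2)
                · left
                  rw [show τ * (a * b) * τ⁻¹ = (τ * a * τ⁻¹) * (τ * b * τ⁻¹) by group, t1, t2, hc,
                    ← mul_assoc, hb2, one_mul]
            rcases ht k with i | i | i <;> rw [i]
            · exact ha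
            · exact hb
            · exact mul_mem ha hb
          rw [hτk] at hV'
          exact V.mul_mem hV' (V.inv_mem ha)
        · rw [show d⁻¹ * a * (d⁻¹)⁻¹ * a⁻¹ = d⁻¹ * (a * d * a⁻¹) by group]
          exact D.mul_mem (D.inv_mem hd) (conj_mem_of_normalizer (hVD ha) hd)
      rw [hVD1, mem_bot] at hm
      exact mul_inv_eq_one.1 hm
    obtain ⟨d, hd, e⟩ := exists_mul_pow hτ hr 3
    rw [hτ3, mul_one] at e
    have hd1 : d = 1 := by
      rcases eq_or_ne (r * τ) 1 with hy | hy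
      · rw [← e, hy, one_pow]
      have h3 := hfix _ (pow_orderOf_eq_one (r * τ))
      rcases h.ord _ hy with hp | he
      · rw [← e, (Nat.prime_dvd_prime_iff_eq Nat.prime_three hp).1 h3, pow_orderOf_eq_one]
      · have hq3 : q = 3 := by
          rw [he] at h3
          exact ((Nat.prime_dvd_prime_iff_eq Nat.prime_three h.prime).1
            ((Nat.Coprime.dvd_mul_left (by norm_num)).1 h3)).symm
        refine hDodd d hd ?_
        rw [← e, ← pow_mul, show 3 * 2 = orderOf (r * τ) by rw [he, hq3], pow_orderOf_eq_one]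
    rw [hd1] at e
    have hτi : τ⁻¹ * τ⁻¹ = τ := by
      have : τ * (τ * τ) = 1 := by rw [← hτ3]; simp only [pow_succ, pow_zero, one_mul, mul_assoc]
      rw [← mul_inv_rev]
      exact (eq_inv_of_mul_eq_one_left this).symm
    calc r * (τ * r * τ⁻¹) * (τ * (τ * r * τ⁻¹) * τ⁻¹)
        = r * τ * r * τ * r * (τ⁻¹ * τ⁻¹) := by group
      _ = r * τ * r * τ * r * τ := by rw [hτi]
      _ = (r * τ) ^ 3 := by simp only [pow_succ, pow_zero, one_mul, mul_assoc]
      _ = 1 := e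
  -- the quotient by the Frattini subgroup
  set Φ := frattini ↥D
  have hQc := CfsgLib.PGroup.Frattini.quotient_mul_comm hD
  have hQq := CfsgLib.PGroup.Frattini.quotient_pow_eq_one hD
  let π : ↥D →* ↥D ⧸ Φ := QuotientGroup.mk' Φ
  have hVV : ∀ x ∈ V, ∀ d ∈ D, x * d * x⁻¹ ∈ D := fun x hx d hd =>
    conj_mem_of_normalizer (hVD hx) hd
  have key : ∀ (x y z : G) (hx : x ∈ V) (hy : y ∈ V), x * y = z → τ * x * τ⁻¹ = y →
      τ * y * τ⁻¹ = z → ∀ (r : G) (hr : r ∈ D), r * x = x * r →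
      π ⟨y * r * y⁻¹, hVV y hy r hr⟩ = π ⟨r, hr⟩ := by
    intro x y z hx hy hz hxy hyz r hr hcx
    have hcxy := comm_of_sq hV2 hx hy
    have hxi : x * x = 1 := by rw [← pow_two]; exact hV2 x hx
    have hyi : y * y = 1 := by rw [← pow_two]; exact hV2 y hy
    set r1 := τ * r * τ⁻¹ with hr1
    set r2 := τ * r1 * τ⁻¹ with hr2
    have hr1D : r1 ∈ D := conj_mem_of_normalizer hτ hr
    have hr2D : r2 ∈ D := conj_mem_of_normalizer hτ hr1D
    have c1 : r1 * y = y * r1 := by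
      rw [hr1, ← hxy]
      calc τ * r * τ⁻¹ * (τ * x * τ⁻¹) = τ * (r * x) * τ⁻¹ := by group
        _ = τ * (x * r) * τ⁻¹ := by rw [hcx]
        _ = τ * x * τ⁻¹ * (τ * r * τ⁻¹) := by group
    have c2 : r2 * z = z * r2 := by
      rw [hr2, ← hyz]
      calc τ * r1 * τ⁻¹ * (τ * y * τ⁻¹) = τ * (r1 * y) * τ⁻¹ := by group
        _ = τ * (y * r1) * τ⁻¹ := by rw [c1]
        _ = τ * y * τ⁻¹ * (τ * r1 * τ⁻¹) := by group
    have hzV : z ∈ V := hz ▸ mul_mem hx hy
    have hswap : y * r2 * y⁻¹ = x * r2 * x⁻¹ := by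
      have hy' : y = x * z := by rw [← hz, ← mul_assoc, hxi, one_mul]
      rw [hy']
      calc x * z * r2 * (x * z)⁻¹ = x * (z * r2) * z⁻¹ * x⁻¹ := by group
        _ = x * (r2 * z) * z⁻¹ * x⁻¹ := by rw [c2]
        _ = x * r2 * x⁻¹ := by group
    have hrel' := hrel r hr
    have mk3 : ∀ (p₁ p₂ p₃ : G) (m₁ : p₁ ∈ D) (m₂ : p₂ ∈ D) (m₃ : p₃ ∈ D), p₁ * p₂ * p₃ = 1 →
        π ⟨p₁, m₁⟩ * π ⟨p₂, m₂⟩ * π ⟨p₃, m₃⟩ = 1 := by
      intro p₁ p₂ p₃ m₁ m₂ m₃ hp
      rw [← map_mul, ← map_mul]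
      refine (congrArg π (Subtype.ext ?_)).trans (map_one π)
      exact hp
    have hconj : ∀ g : G, (g * r * g⁻¹) * (g * r1 * g⁻¹) * (g * r2 * g⁻¹) = 1 := fun g => by
      calc (g * r * g⁻¹) * (g * r1 * g⁻¹) * (g * r2 * g⁻¹) = g * (r * r1 * r2) * g⁻¹ := by group
        _ = 1 := by rw [hrel']; group
    have ex : x * r * x⁻¹ = r := by rw [← hcx]; group
    have ey : y * r1 * y⁻¹ = r1 := by rw [← c1]; group
    have ez : z * r2 * z⁻¹ = r2 := by rw [← c2]; group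
    refine eq_of_sq_eq hQc (h.prime.odd_of_ne_two h.ne_two) hQq
      (v := π ⟨r1, hr1D⟩) (w := π ⟨r2, hr2D⟩) (v' := π ⟨x * r1 * x⁻¹, hVV x hx _ hr1D⟩)
      (w' := π ⟨x * r2 * x⁻¹, hVV x hx _ hr2D⟩)
      (mk3 _ _ _ _ _ _ hrel') (mk3 _ _ _ _ _ _ ?_) (mk3 _ _ _ _ _ _ ?_) (mk3 _ _ _ _ _ _ ?_)
    · have := hconj x
      rwa [ex] at this
    · have := hconj y
      rwa [ey, hswap] at this
    · have := hconj z
      have e1 : z * r * z⁻¹ = y * r * y⁻¹ := by
        rw [← hz, hcxy]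
        calc y * x * r * (y * x)⁻¹ = y * (x * r * x⁻¹) * y⁻¹ := by group
          _ = y * r * y⁻¹ := by rw [ex]
      have e2 : z * r1 * z⁻¹ = x * r1 * x⁻¹ := by
        rw [← hz]
        calc x * y * r1 * (x * y)⁻¹ = x * (y * r1 * y⁻¹) * x⁻¹ := by group
          _ = x * r1 * x⁻¹ := by rw [ey]
      rwa [e1, e2, ez] at this
  have hmem := mem_four hVcard hV2 ha hb ha1 hb1 hab
  have hab' : a * (a * b) = b := by rw [← mul_assoc, ha2, one_mul]
  have hbab : b * (a * b) = a := by rw [hc, ← mul_assoc, hb2, one_mul]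
  have t3 : τ * (a * b) * τ⁻¹ = a := by
    rw [show τ * (a * b) * τ⁻¹ = (τ * a * τ⁻¹) * (τ * b * τ⁻¹) by group, t1, t2, hbab]
  have hfix : ∀ (x y : G) (hx : x ∈ V) (_ : x ≠ 1) (hy : y ∈ V) (r : G) (hr : r ∈ D),
      r * x = x * r → π ⟨y * r * y⁻¹, hVV y hy r hr⟩ = π ⟨r, hr⟩ := by
    intro x y hx hx1 hy r hr hcx
    obtain ⟨y', z', hy', hy1', hxy', hxy, hyz, hz⟩ : ∃ y' z', y' ∈ V ∧ y' ≠ 1 ∧ x ≠ y' ∧
        x * y' = z' ∧ τ * x * τ⁻¹ = y' ∧ τ * y' * τ⁻¹ = z' := by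
      rcases hmem x hx with rfl | rfl | rfl | rfl
      · exact absurd rfl hx1
      · exact ⟨b, x * b, hb, hb1, hab, rfl, t1, t2⟩
      · refine ⟨a * x, a, mul_mem ha hb, fun e => hab ?_, fun e => ha1 ?_, hbab, t2, t3⟩
        · rw [eq_inv_of_mul_eq_one_left e, inv_eq_iff_mul_eq_one, hb2]
        · exact right_eq_mul.1 e
      · exact ⟨a, b, ha, ha1, fun e => hb1 (mul_eq_left.1 e), by rw [hc, mul_assoc, ha2, mul_one],
          t3, t1⟩
    have hz' : z' ∈ V := hxy ▸ mul_mem hx hy'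
    have ky := key x y' z' hx hy' hxy hyz hz r hr hcx
    have ex : x * r * x⁻¹ = r := by rw [← hcx]; group
    rcases mem_four hVcard hV2 hx hy' hx1 hy1' hxy' y hy with i | i | i | i
    · exact congrArg π (Subtype.ext (show y * r * y⁻¹ = r by rw [i]; group))
    · exact congrArg π (Subtype.ext (show y * r * y⁻¹ = r by rw [i]; exact ex))
    · subst i; exact ky
    · refine (congrArg π (Subtype.ext ?_)).trans ky
      show y * r * y⁻¹ = y' * r * y'⁻¹
      rw [i, comm_of_sq hV2 hx hy']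
      calc y' * x * r * (y' * x)⁻¹ = y' * (x * r * x⁻¹) * y'⁻¹ := by group
        _ = y' * r * y'⁻¹ := by rw [ex]
  haveI : IsMulCommutative ↥V :=
    ⟨⟨fun x y => Subtype.ext (comm_of_sq hV2 x.2 y.2)⟩⟩
  have hnc : ¬ IsCyclic ↥V := by
    intro hcyc
    obtain ⟨g, hg⟩ := hcyc.exists_generator
    have := orderOf_eq_card_of_forall_mem_zpowers hg
    rw [hVcard] at this
    have := this ▸ orderOf_dvd_of_pow_eq_one (Subtype.ext (hV2 g g.2) : g ^ 2 = 1)
    exact absurd this (by norm_num)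
  refine CfsgLib.Coprime.le_centralizer_of_frattini hVD ?_ ?_
  · exact hVq.coprime_dvd_right (card_subgroup_dvd_card _)
  intro y hy k hk
  let F : Subgroup G :=
    { carrier := {d | ∃ hd : d ∈ D, π ⟨y * d * y⁻¹, hVV y hy d hd⟩ = π ⟨d, hd⟩}
      one_mem' := ⟨one_mem D, congrArg π (Subtype.ext (by group))⟩
      mul_mem' := by
        rintro d e ⟨hd, ed⟩ ⟨he, ee⟩
        refine ⟨mul_mem hd he, ?_⟩
        rw [show (⟨d * e, mul_mem hd he⟩ : ↥D) = ⟨d, hd⟩ * ⟨e, he⟩ from rfl, map_mul, ← ed, ← ee,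
          ← map_mul]
        exact congrArg π (Subtype.ext (by simp only [Subgroup.coe_mul]; group))
      inv_mem' := by
        rintro d ⟨hd, ed⟩
        refine ⟨inv_mem hd, ?_⟩
        rw [show (⟨d⁻¹, inv_mem hd⟩ : ↥D) = (⟨d, hd⟩ : ↥D)⁻¹ from rfl, map_inv, ← ed, ← map_inv]
        exact congrArg π (Subtype.ext (by simp only [Subgroup.coe_inv]; group)) }
  have hDF : D ≤ F := by
    calc D = ⨆ x ∈ {x : G | x ∈ V ∧ x ≠ 1}, D ⊓ centralizer {x} :=
          (CfsgLib.Coprime.iSup_centralizer_singleton hnc hVD hVq).symm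
      _ ≤ F := iSup₂_le fun x hx r hr => ⟨hr.1, hfix x y hx.1 hx.2 hy r hr.1 (mem_C.1 hr.2)⟩
  obtain ⟨hkD, ek⟩ := hDF hk
  refine ⟨⟨y * k * y⁻¹, hVV y hy k hkD⟩ * ⟨k, hkD⟩⁻¹, ?_, ?_⟩
  · have h0 : π (⟨y * k * y⁻¹, hVV y hy k hkD⟩ * ⟨k, hkD⟩⁻¹) = 1 := by
      rw [map_mul, map_inv, ek, mul_inv_cancel]
    exact (QuotientGroup.eq_one_iff _).1 h0
  · simp [commutatorElement_def]

end CfsgLib.Recognition.OneComposite
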