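import Cfsg.Agent.Lib.Recognition.OneComposite.Frame
import Cfsg.Agent.S1220
import Cfsg.Agent.Lib.PGroup.HallWielandt
import Mathlib.GroupTheory.SchurZassenhaus
import Mathlib.GroupTheory.Abelianization.Defs

/-!
Rank at least three is impossible: transfer at the prime three.
-/

set_option autoImplicit false
set_option linter.unusedSectionVars false

open Subgroup

namespace CfsgLib.Recognition.OneComposite

universe u

variable {G : Type u} [Group G] [Finite G] {q : ℕ}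

theorem inter_eq_one {A B : Subgroup G} (hA : IsPGroup 2 ↥A) (hB : Odd (Nat.card ↥B)) {x : G}
    (hxA : x ∈ A) (hxB : x ∈ B) : x = 1 := by
  haveI : Fact (Nat.Prime 2) := ⟨Nat.prime_two⟩
  obtain ⟨k, hk⟩ := IsPGroup.iff_card.1 hA
  exact orderOf_eq_one_iff.1 (Nat.eq_one_of_dvd_coprimes
    ((Nat.coprime_two_left.2 hB).pow_left k) (hk ▸ Subgroup.orderOf_dvd_natCard A hxA)
    (Subgroup.orderOf_dvd_natCard B hxB))

/-- A complement of `S` in its normaliser with the data of `frame_structure`. -/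
structure Frame (S : Sylow 2 G) (q : ℕ) (E : Subgroup G) (a c t : G) (p : ℕ) : Prop where
  le : E ≤ normalizer ((S : Subgroup G) : Set G)
  odd : Odd (Nat.card ↥E)
  decomp : ∀ h ∈ normalizer ((S : Subgroup G) : Set G), ∃ s ∈ (S : Subgroup G), ∃ e ∈ E, h = s * e
  hp : p.Prime
  succ : p + 1 = Nat.card ↥(S : Subgroup G)
  ne : p ≠ q
  card : Nat.card ↥E = p * q
  haE : a ∈ E
  hcE : c ∈ E
  oa : orderOf a = p
  oc : orderOf c = q
  fpf : ∀ v ∈ (S : Subgroup G), a * v = v * a → v = 1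
  norm : ∀ x ∈ E, x * a * x⁻¹ ∈ zpowers a
  ht : t ∈ (S : Subgroup G)
  ht1 : t ≠ 1
  comm : c * t = t * c

variable [IsSimpleGroup G] {S : Sylow 2 G}

namespace Big

variable (B : Big G q S)
include B

theorem mem_of_invol {i : G} (hi : i ^ 2 = 1) (hiH : i ∈ normalizer ((S : Subgroup G) : Set G)) :
    i ∈ (S : Subgroup G) :=
  mem_of_normalizes S hi hiH

theorem exists_q_fixing : ∃ x y : G, x ∈ (S : Subgroup G) ∧ x ≠ 1 ∧ orderOf y = q ∧
    y * x = x * y := by
  haveI : Fact (Nat.Prime 2) := ⟨Nat.prime_two⟩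
  obtain ⟨g, hg⟩ := B.ex
  have hi : orderOf (g ^ q) = 2 := by
    rw [orderOf_pow' g B.hyp.prime.ne_zero, hg, Nat.gcd_eq_right (dvd_mul_left q 2),
      Nat.mul_div_cancel _ B.hyp.prime.pos]
  obtain ⟨P, hP⟩ := (IsPGroup.of_card (n := 1) (by rw [Nat.card_zpowers, hi, pow_one]) :
    IsPGroup 2 ↥(zpowers (g ^ q))).exists_le_sylow
  obtain ⟨c, hc'⟩ := MulAction.exists_smul_eq G P S
  refine ⟨c * g ^ q * c⁻¹, c * g ^ 2 * c⁻¹, ?_, fun e => ?_, ?_, ?_⟩
  · rw [← hc']
    exact ⟨g ^ q, hP (mem_zpowers _), rfl⟩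
  · rw [conj_eq_one_iff] at e
    rw [e, orderOf_one] at hi
    norm_num at hi
  · rw [← MulAut.conj_apply, MulEquiv.orderOf_eq, orderOf_pow' g (by norm_num), hg,
      Nat.gcd_eq_right (dvd_mul_right 2 q), Nat.mul_div_cancel_left q (by norm_num)]
  · calc c * g ^ 2 * c⁻¹ * (c * g ^ q * c⁻¹) = c * (g ^ 2 * g ^ q) * c⁻¹ := by group
      _ = c * (g ^ q * g ^ 2) * c⁻¹ := by rw [← pow_add, ← pow_add, add_comm]
      _ = _ := by group

theorem exists_frame : ∃ (p : ℕ) (E : Subgroup G) (a c t : G), Frame S q E a c t p ∧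
    Nat.card ↥(normalizer ((S : Subgroup G) : Set G)) = Nat.card ↥(S : Subgroup G) * (p * q) := by
  haveI : Fact (Nat.Prime 2) := ⟨Nat.prime_two⟩
  set H := normalizer ((S : Subgroup G) : Set G) with hH
  have hle : (S : Subgroup G) ≤ H := le_normalizer
  haveI hn : ((S : Subgroup G).subgroupOf H).Normal :=
    (normal_subgroupOf_iff_le_normalizer hle).2 le_rfl
  have hcop : (Nat.card ↥((S : Subgroup G).subgroupOf H)).Coprime
      ((S : Subgroup G).subgroupOf H).index := by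
    obtain ⟨k, hk⟩ := IsPGroup.iff_card.1 (S.subtype hle).isPGroup'
    rw [Sylow.coe_subtype] at hk
    rw [hk]
    refine Nat.Coprime.pow_left k ((Nat.Prime.coprime_iff_not_dvd Nat.prime_two).2 ?_)
    have := (S.subtype hle).not_dvd_index
    rwa [Sylow.coe_subtype] at this
  obtain ⟨K, hK⟩ := exists_right_complement'_of_coprime hcop
  set E := K.map H.subtype with hE
  have hEle : E ≤ H := map_subtype_le K
  have hEcard : Nat.card ↥E = ((S : Subgroup G).subgroupOf H).index := by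
    rw [hE, card_map_of_injective H.subtype_injective, hK.symm.index_eq_card]
  have hEodd : Odd (Nat.card ↥E) := by
    rw [hEcard, ← Nat.not_even_iff_odd, even_iff_two_dvd]
    have := (S.subtype hle).not_dvd_index
    rwa [Sylow.coe_subtype] at this
  have hdec : ∀ h ∈ H, ∃ s ∈ (S : Subgroup G), ∃ e ∈ E, h = s * e := by
    intro h hh
    obtain ⟨⟨x, y⟩, hxy, -⟩ := hK.existsUnique (⟨h, hh⟩ : ↥H)
    exact ⟨((x : ↥H) : G), mem_subgroupOf.1 x.2, ((y : ↥H) : G), ⟨y, y.2, rfl⟩,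
      (congrArg Subtype.val hxy).symm⟩
  obtain ⟨u, hu, huH⟩ := B.exists_outside_invol
  have htrans : ∀ x ∈ (S : Subgroup G), x ≠ 1 → ∀ y ∈ (S : Subgroup G), y ≠ 1 →
      ∃ e ∈ E, e * x * e⁻¹ = y := by
    intro x hx hx1 y hy hy1
    obtain ⟨d, hd, rfl⟩ := B.transitive hu huH hx hx1 hy hy1
    obtain ⟨s, hs, e, he, rfl⟩ := hdec d hd.1
    refine ⟨e, he, ?_⟩
    have hex : e * x * e⁻¹ ∈ (S : Subgroup G) := conj_mem_of_normalizer (hEle he) hx
    calc e * x * e⁻¹ = s * (e * x * e⁻¹) * s⁻¹ := by rw [B.comm hs hex]; group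
      _ = s * e * x * (s * e)⁻¹ := by group
  obtain ⟨x, y, hx, hx1, hy, hyx⟩ := B.exists_q_fixing
  obtain ⟨s, hs, e, he, rfl⟩ := hdec y (B.centralizer_le hx hx1 (mem_C.2 hyx))
  have hex : e * x = x * e := by
    have h1 : s * (e * x) = s * (x * e) := by
      rw [← mul_assoc, hyx, ← mul_assoc, B.comm hx hs, mul_assoc]
    exact mul_left_cancel h1
  have he1 : e ≠ 1 := fun e1 => by
    rw [e1, mul_one] at hy
    have h2 := orderOf_dvd_of_pow_eq_one (B.sq hs)
    rw [hy] at h2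
    exact B.hyp.ne_two ((Nat.prime_dvd_prime_iff_eq B.hyp.prime Nat.prime_two).1 h2)
  obtain ⟨p, a, hp, hsucc, hne, hcard, haE, hoa, hoc, hfpf, hnorm⟩ :=
    frame_structure B hEle hEodd htrans hx hx1 he he1 hex
  refine ⟨p, E, a, e, x, ⟨hEle, hEodd, hdec, hp, hsucc, hne, hcard, haE, he, hoa, hoc, hfpf, hnorm,
    hx, hx1, hex⟩, ?_⟩
  rw [← Subgroup.card_mul_index ((S : Subgroup G).subgroupOf H), ← hEcard, hcard,
    Nat.card_congr (subgroupOfEquivOfLe hle).toEquiv]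

variable {E : Subgroup G} {a c t : G} {p : ℕ} (F : Frame S q E a c t p)
include F

theorem eq_one_of_SE {x : G} (h1 : x ∈ (S : Subgroup G)) (h2 : x ∈ E) : x = 1 :=
  inter_eq_one S.isPGroup' F.odd h1 h2

theorem fixed_c {v : G} (hv : v ∈ (S : Subgroup G)) (hcv : c * v = v * c) : v = 1 ∨ v = t := by
  classical
  haveI := Fact.mk F.hp
  by_cases hv1 : v = 1
  · exact Or.inl hv1
  refine Or.inr ?_
  let Φ : ↥(zpowers a) → {y : ↥(S : Subgroup G) // y ≠ 1} := fun z =>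
    ⟨⟨(z : G) * t * (z : G)⁻¹,
      conj_mem_of_normalizer (F.le (zpowers_le.2 F.haE z.2)) F.ht⟩,
      fun h => F.ht1 (conj_eq_one_iff.1 (congrArg Subtype.val h))⟩
  have hfix : ∀ z ∈ zpowers a, z * t = t * z → z = 1 := by
    intro z hz hzt
    by_contra hz1
    have hzo : orderOf z = p := by
      refine orderOf_eq_prime ?_ hz1
      obtain ⟨k, rfl⟩ := mem_zpowers_iff.1 hz
      rw [← zpow_natCast, ← zpow_mul, mul_comm, zpow_mul, zpow_natCast, ← F.oa, pow_orderOf_eq_one,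
        one_zpow]
    have heq : zpowers z = zpowers a := eq_of_le_of_card_ge (zpowers_le.2 hz)
      (by rw [Nat.card_zpowers, Nat.card_zpowers, hzo, F.oa])
    obtain ⟨k, hk⟩ := mem_zpowers_iff.1 (heq ▸ mem_zpowers a : a ∈ zpowers z)
    have := Commute.zpow_left hzt k
    rw [hk] at this
    exact F.ht1 (F.fpf t F.ht this)
  have hinj : Function.Injective Φ := by
    intro z w hzw
    have h1 : (z : G) * t * (z : G)⁻¹ = (w : G) * t * (w : G)⁻¹ :=
      congrArg (fun y => ((y.1 : ↥(S : Subgroup G)) : G)) hzw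
    refine Subtype.ext (inv_mul_eq_one.1 (hfix _ (mul_mem (inv_mem z.2) w.2) ?_))
    calc (z : G)⁻¹ * w * t = (z : G)⁻¹ * ((w : G) * t * (w : G)⁻¹) * w := by group
      _ = t * ((z : G)⁻¹ * w) := by rw [← h1]; group
  have hbij : Function.Bijective Φ := by
    refine (Nat.bijective_iff_injective_and_card Φ).2 ⟨hinj, ?_⟩
    haveI := Fintype.ofFinite ↥(S : Subgroup G)
    rw [Nat.card_zpowers, F.oa, Nat.card_eq_fintype_card (α := {y : ↥(S : Subgroup G) // y ≠ 1}),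
      Fintype.card_subtype_compl, Fintype.card_subtype_eq, ← Nat.card_eq_fintype_card, ← F.succ]
    omega
  obtain ⟨z, hz⟩ := hbij.2 ⟨⟨v, hv⟩, fun h => hv1 (congrArg Subtype.val h)⟩
  have hzv : (z : G) * t * (z : G)⁻¹ = v :=
    congrArg (fun y => ((y.1 : ↥(S : Subgroup G)) : G)) hz
  have hcz : c * z * c⁻¹ ∈ zpowers a := by
    obtain ⟨k, hk⟩ := mem_zpowers_iff.1 z.2
    rw [← hk, ← conj_zpow]
    exact zpow_mem (F.norm c F.hcE) k
  have heq : (⟨c * z * c⁻¹, hcz⟩ : ↥(zpowers a)) = z := by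
    refine hinj (Subtype.ext (Subtype.ext ?_))
    show c * z * c⁻¹ * t * (c * z * c⁻¹)⁻¹ = (z : G) * t * (z : G)⁻¹
    calc c * z * c⁻¹ * t * (c * z * c⁻¹)⁻¹ = c * z * (c⁻¹ * (t * c)) * (z : G)⁻¹ * c⁻¹ := by group
      _ = c * z * (c⁻¹ * (c * t)) * (z : G)⁻¹ * c⁻¹ := by rw [F.comm]
      _ = c * ((z : G) * t * (z : G)⁻¹) * c⁻¹ := by group
      _ = (z : G) * t * (z : G)⁻¹ := by rw [hzv, hcv]; group
  have hcomm : c * (z : G) = z * c := mul_inv_eq_iff_eq_mul.1 (congrArg Subtype.val heq)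
  by_contra hvt
  have hz1 : (z : G) ≠ 1 := fun e => hvt (by rw [← hzv, e]; group)
  have hzo : orderOf (z : G) = p := by
    refine orderOf_eq_prime ?_ hz1
    obtain ⟨k, hk⟩ := mem_zpowers_iff.1 z.2
    rw [← hk, ← zpow_natCast, ← zpow_mul, mul_comm, zpow_mul, zpow_natCast, ← F.oa,
      pow_orderOf_eq_one, one_zpow]
  refine F.ne (B.hyp.eq_of_commute hzo F.oc F.hp B.hyp.prime ?_ B.hyp.ne_two hcomm.symm)
  intro e
  have := B.eight
  rw [← F.succ, e] at this
  omega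

theorem cent_c {h : G} (hh : h ∈ normalizer ((S : Subgroup G) : Set G)) (hc : h * c = c * h) :
    ∃ s, (s = 1 ∨ s = t) ∧ ∃ e ∈ zpowers c, h = s * e := by
  haveI := Fact.mk B.hyp.prime
  obtain ⟨s, hs, e, he, rfl⟩ := F.decomp h hh
  have hkey : c⁻¹ * s⁻¹ * c * s = c⁻¹ * (e * c * e⁻¹) := by
    calc c⁻¹ * s⁻¹ * c * s = c⁻¹ * s⁻¹ * (c * (s * e)) * e⁻¹ := by group
      _ = c⁻¹ * s⁻¹ * ((s * e) * c) * e⁻¹ := by rw [hc]
      _ = c⁻¹ * (e * c * e⁻¹) := by group
  have h1 : c⁻¹ * s⁻¹ * c * s = 1 := by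
    refine eq_one_of_SE B F (mul_mem ?_ hs) ?_
    · simpa using conj_mem_of_normalizer (inv_mem (F.le F.hcE)) (inv_mem hs)
    · rw [hkey]
      exact mul_mem (inv_mem F.hcE) (mul_mem (mul_mem he F.hcE) (inv_mem he))
  have hcs : c * s = s * c := by
    calc c * s = s * c * (c⁻¹ * s⁻¹ * c * s) := by group
      _ = s * c := by rw [h1, mul_one]
  have hec : e * c = c * e := by
    rw [hkey] at h1
    exact mul_inv_eq_iff_eq_mul.1 (inv_mul_eq_one.1 h1).symm
  refine ⟨s, fixed_c B F hs hcs, e, ?_, rfl⟩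
  set K := E ⊓ centralizer ({c} : Set G)
  have hKq : IsPGroup q ↥K := fun x => ⟨1, by
    rcases eq_or_ne x 1 with rfl | hx1
    · exact one_pow _
    have hx1' : (x : G) ≠ 1 := fun e => hx1 (Subtype.ext e)
    obtain ⟨hpr, h2⟩ := B.hyp.orderOf_odd
      (Odd.of_dvd_nat F.odd (Subgroup.orderOf_dvd_natCard E x.2.1)) hx1'
    refine Subtype.ext ?_
    rw [pow_one, SubgroupClass.coe_pow, ← B.hyp.eq_of_commute rfl F.oc hpr B.hyp.prime h2
      B.hyp.ne_two (mem_C.1 x.2.2), pow_orderOf_eq_one]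
    rfl⟩
  obtain ⟨i, hi⟩ := IsPGroup.iff_card.1 hKq
  have hd : q ^ i ∣ p * q := hi ▸ F.card ▸ card_dvd_of_le (inf_le_left : K ≤ E)
  have hi1 : i ≤ 1 := by
    by_contra h2
    have h3 : q * q ∣ p * q := (pow_two q ▸ pow_dvd_pow q (show 2 ≤ i by omega)).trans hd
    exact F.ne ((Nat.prime_dvd_prime_iff_eq B.hyp.prime F.hp).1
      (Nat.dvd_of_mul_dvd_mul_right B.hyp.prime.pos h3)).symm
  have hK : zpowers c = K := eq_of_le_of_card_ge (zpowers_le.2 ⟨F.hcE, mem_C.2 rfl⟩) (by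
    rw [hi, Nat.card_zpowers, F.oc]
    exact (Nat.pow_le_pow_right B.hyp.prime.pos hi1).trans (pow_one q).le)
  rw [hK]
  exact ⟨he, mem_C.2 hec⟩

theorem norm_c {h : G} (hh : h ∈ normalizer ((S : Subgroup G) : Set G))
    (hc : h * c * h⁻¹ ∈ zpowers c) : h * c = c * h := by
  haveI := Fact.mk B.hyp.prime
  obtain ⟨s, hs, e, he, rfl⟩ := F.decomp h hh
  obtain ⟨k, hk⟩ := mem_zpowers_iff.1 hc
  have hkE : c ^ k ∈ E := zpow_mem F.hcE k
  have h1 : s⁻¹ * c ^ k * s * (c ^ k)⁻¹ = 1 := by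
    refine eq_one_of_SE B F ?_ ?_
    · rw [show s⁻¹ * c ^ k * s * (c ^ k)⁻¹ = s⁻¹ * (c ^ k * s * (c ^ k)⁻¹) by group]
      exact mul_mem (inv_mem hs) (conj_mem_of_normalizer (F.le hkE) hs)
    · rw [hk, show s⁻¹ * (s * e * c * (s * e)⁻¹) * s * (s * e * c * (s * e)⁻¹)⁻¹ =
        e * c * e⁻¹ * (c ^ k)⁻¹ by rw [hk]; group]
      exact mul_mem (mul_mem (mul_mem he F.hcE) (inv_mem he)) (inv_mem hkE)
  have hs' : s * c ^ k = c ^ k * s := by
    calc s * c ^ k = s * ((s⁻¹ * c ^ k * s * (c ^ k)⁻¹) * c ^ k) := by rw [h1, one_mul]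
      _ = c ^ k * s := by group
  have hek : e * c * e⁻¹ = c ^ k := by
    calc e * c * e⁻¹ = s⁻¹ * (s * e * c * (s * e)⁻¹) * s := by group
      _ = s⁻¹ * (c ^ k * s) := by rw [← hk, mul_assoc]
      _ = c ^ k := by rw [← hs']; group
  -- `e` lies in `⟨a⟩⟨c⟩`
  have hn : zpowers c ≤ normalizer (zpowers a : Set G) := by
    rw [zpowers_le]
    refine mem_normalizer_iff_map_conj_eq.2 (eq_of_le_of_card_ge ?_ ?_)
    · rintro _ ⟨y, hy, rfl⟩
      obtain ⟨m, rfl⟩ := mem_zpowers_iff.1 hy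
      show c * a ^ m * c⁻¹ ∈ zpowers a
      rw [← conj_zpow]
      exact zpow_mem (F.norm c F.hcE) m
    · exact (card_map_of_injective (MulAut.conj c).injective).ge
  have hsup : zpowers a ⊔ zpowers c = E := by
    refine eq_of_le_of_card_ge (sup_le (zpowers_le.2 F.haE) (zpowers_le.2 F.hcE))
      (Nat.le_of_dvd Nat.card_pos ?_)
    rw [F.card]
    refine Nat.Coprime.mul_dvd_of_dvd_of_dvd ((Nat.coprime_primes F.hp B.hyp.prime).2 F.ne) ?_ ?_
    · exact F.oa ▸ Subgroup.orderOf_dvd_natCard _ (mem_sup_left (mem_zpowers a))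
    · exact F.oc ▸ Subgroup.orderOf_dvd_natCard _ (mem_sup_right (mem_zpowers c))
  have he' : e ∈ zpowers a ⊔ zpowers c := hsup.symm ▸ he
  rw [← SetLike.mem_coe, Subgroup.coe_mul_of_right_le_normalizer_left _ _ hn] at he'
  obtain ⟨x, hx, y, hy, rfl⟩ := he'
  have hyc : y * c = c * y := by
    obtain ⟨m, rfl⟩ := mem_zpowers_iff.1 hy
    exact (Commute.zpow_self c m).eq
  have hxc : x * y * c * (x * y)⁻¹ = x * c * x⁻¹ := by
    calc x * y * c * (x * y)⁻¹ = x * (y * c) * y⁻¹ * x⁻¹ := by group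
      _ = x * c * x⁻¹ := by rw [hyc]; group
  have h2 : x * c * x⁻¹ * c⁻¹ = 1 := by
    have ha : x * c * x⁻¹ * c⁻¹ ∈ zpowers a := by
      rw [show x * c * x⁻¹ * c⁻¹ = x * (c * x⁻¹ * c⁻¹) by group]
      obtain ⟨m, rfl⟩ := mem_zpowers_iff.1 hx
      refine mul_mem hx ?_
      rw [← zpow_neg, ← conj_zpow]
      exact zpow_mem (F.norm c F.hcE) _
    have hb : x * c * x⁻¹ * c⁻¹ ∈ zpowers c := by
      rw [← hxc, hek]
      exact mul_mem (zpow_mem (mem_zpowers c) k) (inv_mem (mem_zpowers c))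
    refine orderOf_eq_one_iff.1 (Nat.eq_one_of_dvd_coprimes
      ((Nat.coprime_primes F.hp B.hyp.prime).2 F.ne) ?_ ?_)
    · exact F.oa ▸ Nat.card_zpowers a ▸ Subgroup.orderOf_dvd_natCard _ ha
    · exact F.oc ▸ Nat.card_zpowers c ▸ Subgroup.orderOf_dvd_natCard _ hb
  have hck : c ^ k = c := by rw [← hek, hxc]; exact mul_inv_eq_one.1 h2
  exact mul_inv_eq_iff_eq_mul.1 (hk.symm.trans hck)

theorem t_eq_of_mem {i : G} (hiH : i ∈ normalizer ((S : Subgroup G) : Set G)) (hi : i ^ 2 = 1)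
    (hi1 : i ≠ 1) (hic : i * c = c * i) : i = t :=
  ((fixed_c B F (B.mem_of_invol hi hiH) hic.symm).resolve_left hi1)

theorem eq_zpow_of_pow {h : G} (hh : h ∈ normalizer ((S : Subgroup G) : Set G))
    (hc : h * c = c * h) (hq : h ^ q = 1) : h ∈ zpowers c := by
  obtain ⟨s, hs, e, he, rfl⟩ := cent_c B F hh hc
  rcases hs with rfl | rfl
  · rw [one_mul]; exact he
  · exfalso
    obtain ⟨m, rfl⟩ := mem_zpowers_iff.1 he
    have hcomm : Commute s (c ^ m) := (Commute.zpow_right (F.comm.symm : Commute s c) m)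
    obtain ⟨k, hk⟩ := B.hyp.prime.odd_of_ne_two B.hyp.ne_two
    rw [hcomm.mul_pow, ← zpow_natCast (c ^ m), ← zpow_mul, mul_comm m, zpow_mul, zpow_natCast,
      ← F.oc, pow_orderOf_eq_one, one_zpow, mul_one, F.oc, hk, pow_succ, pow_mul, B.sq F.ht, one_pow,
      one_mul] at hq
    exact F.ht1 hq

/-- The centraliser of `c` leaves the normaliser of `S`. -/
theorem exists_cent_outside : ∃ g : G, g * c = c * g ∧ g ∉ normalizer ((S : Subgroup G) : Set G) := by
  haveI := Fact.mk B.hyp.prime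
  by_contra hno
  push Not at hno
  have hzp : IsPGroup q ↥(zpowers c) :=
    IsPGroup.of_card (n := 1) (by rw [Nat.card_zpowers, F.oc, pow_one])
  obtain ⟨Q, hQ⟩ := hzp.exists_le_sylow
  have hcQ : c ∈ (Q : Subgroup G) := hQ (mem_zpowers c)
  have hc1 : c ≠ 1 := fun e => by
    have := F.oc
    rw [e, orderOf_one] at this
    exact B.hyp.prime.ne_one this.symm
  haveI : Nontrivial ↥(Q : Subgroup G) := ⟨⟨⟨c, hcQ⟩, 1, fun e => hc1 (congrArg Subtype.val e)⟩⟩
  haveI := Q.isPGroup'.center_nontrivial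
  obtain ⟨z, hz1⟩ := exists_ne (1 : center ↥(Q : Subgroup G))
  have hzc : ((z : ↥(Q : Subgroup G)) : G) * c = c * ((z : ↥(Q : Subgroup G)) : G) :=
    (congrArg Subtype.val (mem_center_iff.1 z.2 ⟨c, hcQ⟩)).symm
  have hzQ := (z : ↥(Q : Subgroup G)).2
  have hzne : ((z : ↥(Q : Subgroup G)) : G) ≠ 1 := fun e => hz1 (Subtype.ext (Subtype.ext e))
  have hzin := eq_zpow_of_pow B F (hno _ hzc) hzc (B.hyp.pow_q Q.isPGroup' hzQ)
  have hzz : zpowers ((z : ↥(Q : Subgroup G)) : G) = zpowers c :=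
    eq_of_le_of_card_ge (zpowers_le.2 hzin) (by
      rw [Nat.card_zpowers, Nat.card_zpowers, F.oc,
        orderOf_eq_prime (B.hyp.pow_q Q.isPGroup' hzQ) hzne])
  obtain ⟨m, hm⟩ := mem_zpowers_iff.1 (hzz ▸ mem_zpowers c : c ∈ zpowers ((z : ↥(Q : Subgroup G)) : G))
  have hQc : ∀ y ∈ (Q : Subgroup G), y * c = c * y := fun y hy => by
    have h1 : Commute y ((z : ↥(Q : Subgroup G)) : G) :=
      congrArg Subtype.val (mem_center_iff.1 z.2 ⟨y, hy⟩)
    rw [← hm]
    exact h1.zpow_right m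
  have hQeq : (Q : Subgroup G) = zpowers c := le_antisymm (fun y hy =>
    eq_zpow_of_pow B F (hno y (hQc y hy)) (hQc y hy) (B.hyp.pow_q Q.isPGroup' hy)) hQ
  have hN : normalizer ((Q : Subgroup G) : Set G) ≤ centralizer ((Q : Subgroup G) : Set G) := by
    rw [hQeq]
    intro m hm
    have hmc : m * c * m⁻¹ ∈ zpowers c := conj_mem_of_normalizer hm (mem_zpowers c)
    obtain ⟨k, hk⟩ := mem_zpowers_iff.1 (conj_mem_of_normalizer (inv_mem hm) (mem_zpowers c))
    have htk : Commute t (c ^ k) := Commute.zpow_right (F.comm.symm : Commute t c) k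
    rw [inv_inv] at hk
    have hit : m * t * m⁻¹ * c = c * (m * t * m⁻¹) := by
      calc m * t * m⁻¹ * c = m * (t * (m⁻¹ * c * m)) * m⁻¹ := by group
        _ = m * ((m⁻¹ * c * m) * t) * m⁻¹ := by rw [← hk, htk.eq]
        _ = c * (m * t * m⁻¹) := by group
    have hteq : m * t * m⁻¹ = t := by
      refine t_eq_of_mem B F (hno _ hit) ?_ (fun e => F.ht1 (conj_eq_one_iff.1 e)) hit
      rw [conj_pow, B.sq F.ht]; group
    have hcomm := norm_c B F (B.centralizer_le F.ht F.ht1 (mem_C.2 (mul_inv_eq_iff_eq_mul.1 hteq)))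
      hmc
    refine mem_centralizer_iff.2 fun y hy => ?_
    obtain ⟨j, rfl⟩ := mem_zpowers_iff.1 hy
    exact (Commute.zpow_right (hcomm : Commute m c) j).eq.symm
  have hto : orderOf t = 2 := orderOf_two_of_sq (B.hyp.sylow_sq S) F.ht F.ht1
  have hK := MonoidHom.ker_transferSylow_isComplement' Q hN
  rcases IsSimpleGroup.eq_bot_or_eq_top_of_normal (MonoidHom.transferSylow Q hN).ker inferInstance
    with e | e
  · have h1 := hK.card_mul
    rw [e, card_bot, one_mul, hQeq, Nat.card_zpowers, F.oc] at h1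
    have h2 := orderOf_dvd_natCard t
    rw [← h1, hto] at h2
    exact B.hyp.ne_two ((Nat.prime_dvd_prime_iff_eq Nat.prime_two B.hyp.prime).1 h2).symm
  · have h1 := hK.card_mul
    rw [e, card_top, hQeq, Nat.card_zpowers, F.oc] at h1
    have h2 : 1 < q := B.hyp.prime.one_lt
    have h3 : 0 < Nat.card G := Nat.card_pos
    nlinarith

end Big

/-- The end of the analysis: `q = 3`, the order of `G`, and the centraliser of `c`. -/
theorem Big.arith (B : Big G q S) : ∃ (n p : ℕ) (c t : G), q = 3 ∧ n.Prime ∧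
    Nat.card ↥(S : Subgroup G) = 2 ^ n ∧ p + 1 = 2 ^ n ∧
    Nat.card G = (2 ^ n + 1) * (2 ^ n * (p * 3)) ∧ t ∈ (S : Subgroup G) ∧ t ≠ 1 ∧
    orderOf c = 3 ∧ c * t = t * c ∧ c ∈ normalizer ((S : Subgroup G) : Set G) ∧
    Nat.card ↥(centralizer ({c} : Set G)) = 18 ∧
    ∀ v ∈ (S : Subgroup G), c * v = v * c → v = 1 ∨ v = t := by
  haveI : Fact (Nat.Prime 2) := ⟨Nat.prime_two⟩
  haveI := Fact.mk B.hyp.prime
  set H := normalizer ((S : Subgroup G) : Set G) with hH
  obtain ⟨p, E, a₀, c₀, t₀, F₀, hHcard⟩ := B.exists_frame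
  obtain ⟨u, hu, huH⟩ := B.exists_outside_invol
  set D := H ⊓ H.map (MulAut.conj u).toMonoidHom with hD
  have hse := B.stronglyEmbedded
  have hDodd : Odd (Nat.card ↥D) := hse.2.2 u huH
  have hcommuting : ∃ x y : G, orderOf x = 2 ∧ orderOf y = 2 ∧ x ≠ y ∧ Commute x y := by
    have hp := F₀.succ
    have h8 := B.eight
    haveI := Fintype.ofFinite ↥(S : Subgroup G)
    classical
    have hcard : 2 < Fintype.card ↥(S : Subgroup G) := by
      rw [← Nat.card_eq_fintype_card]; omega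
    obtain ⟨x, y, z, hxy, hxz, hyz⟩ := Fintype.two_lt_card_iff.1 hcard
    have hne : ∀ w : ↥(S : Subgroup G), w ≠ 1 → orderOf (w : G) = 2 := fun w hw =>
      orderOf_two_of_sq (B.hyp.sylow_sq S) w.2 fun e => hw (Subtype.ext e)
    have hc : ∀ v w : ↥(S : Subgroup G), Commute (v : G) (w : G) := fun v w => B.comm v.2 w.2
    by_cases hx : x = 1
    · refine ⟨y, z, hne y ?_, hne z ?_, fun e => hyz (Subtype.ext e), hc y z⟩
      · exact fun e => hxy (hx.trans e.symm)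
      · exact fun e => hxz (hx.trans e.symm)
    · by_cases hy : y = 1
      · exact ⟨x, z, hne x hx, hne z (fun e => hyz (hy.trans e.symm)),
          fun e => hxz (Subtype.ext e), hc x z⟩
      · exact ⟨x, y, hne x hx, hne y hy, fun e => hxy (Subtype.ext e), hc x y⟩
  have hdouble : ∀ g : G, g ∉ H → ∃ h ∈ H, ∃ h' ∈ H, g = h * u * h' := by
    intro g hg
    obtain ⟨h, hh, hh'⟩ :=
      CfsgLib.LocalEven.BenderTransitive.exists_smul_mem hse hcommuting u g huH hg
    exact ⟨h, hh, (g⁻¹ * (h * u))⁻¹, inv_mem hh', by group⟩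
  have hpD : p ∣ Nat.card ↥D := by
    have h1 := card_stab (S := S) (E := D) inf_le_left F₀.ht F₀.ht1
      fun y hy hy1 => B.transitive hu huH F₀.ht F₀.ht1 hy hy1
    rw [← F₀.succ, Nat.add_sub_cancel] at h1
    exact h1 ▸ dvd_mul_right _ _
  have hDdvd : Nat.card ↥D ∣ p * q := by
    have h1 : Nat.card ↥D ∣ Nat.card ↥H := card_dvd_of_le inf_le_left
    rw [hHcard] at h1
    obtain ⟨k, hk⟩ := IsPGroup.iff_card.1 S.isPGroup'
    rw [hk] at h1
    exact ((Nat.coprime_two_right.2 hDodd).pow_right k).dvd_of_dvd_mul_left h1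
  obtain ⟨g₀, hg₀c, hg₀H⟩ := Big.exists_cent_outside B F₀
  have hqD : q ∣ Nat.card ↥D := by
    obtain ⟨h, hh, h', hh', rfl⟩ := hdouble g₀ hg₀H
    have hx : h⁻¹ * c₀ * h ∈ D := by
      refine ⟨H.mul_mem (H.mul_mem (H.inv_mem hh) (F₀.le F₀.hcE)) hh, h' * c₀ * h'⁻¹, ?_, ?_⟩
      · exact mul_mem (mul_mem hh' (F₀.le F₀.hcE)) (inv_mem hh')
      · show u * (h' * c₀ * h'⁻¹) * u⁻¹ = h⁻¹ * c₀ * h
        calc u * (h' * c₀ * h'⁻¹) * u⁻¹ = h⁻¹ * ((h * u * h') * c₀) * (h * u * h')⁻¹ * h := by group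
          _ = h⁻¹ * (c₀ * (h * u * h')) * (h * u * h')⁻¹ * h := by rw [hg₀c]
          _ = h⁻¹ * c₀ * h := by group
    have := Subgroup.orderOf_dvd_natCard D hx
    rwa [show h⁻¹ * c₀ * h = MulAut.conj h⁻¹ c₀ by simp, MulEquiv.orderOf_eq, F₀.oc] at this
  have hDcard : Nat.card ↥D = p * q := Nat.dvd_antisymm hDdvd
    (((Nat.coprime_primes F₀.hp B.hyp.prime).2 F₀.ne).mul_dvd_of_dvd_of_dvd hpD hqD)
  have hSD : ∀ x ∈ (S : Subgroup G), x ∈ D → x = 1 := fun x h1 h2 =>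
    inter_eq_one S.isPGroup' hDodd h1 h2
  have hdec : ∀ h ∈ H, ∃ s ∈ (S : Subgroup G), ∃ e ∈ D, h = s * e := by
    let Φ : ↥(S : Subgroup G) × ↥D → ↥H := fun x =>
      ⟨(x.1 : G) * x.2, mul_mem (le_normalizer x.1.2) x.2.2.1⟩
    have hbij : Function.Bijective Φ := by
      refine (Nat.bijective_iff_injective_and_card Φ).2 ⟨?_, ?_⟩
      · rintro ⟨s, e⟩ ⟨s', e'⟩ heq
        have h1 : (s : G) * e = s' * e' := congrArg Subtype.val heq
        have h2 : (s' : G)⁻¹ * s = e' * (e : G)⁻¹ := by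
          rw [inv_mul_eq_iff_eq_mul, ← mul_assoc, ← h1, mul_inv_cancel_right]
        have h3 := hSD _ (mul_mem (inv_mem s'.2) s.2) (h2 ▸ mul_mem e'.2 (inv_mem e.2))
        have hss : (s : G) = s' := (inv_mul_eq_one.1 h3).symm
        have hee : (e : G) = e' := by rw [hss] at h1; exact mul_left_cancel h1
        exact Prod.ext (Subtype.ext hss) (Subtype.ext hee)
      · rw [Nat.card_prod, hHcard, hDcard]
    intro h hh
    obtain ⟨⟨s, e⟩, hse'⟩ := hbij.2 ⟨h, hh⟩
    exact ⟨s, s.2, e, e.2, (congrArg Subtype.val hse').symm⟩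
  -- the stabiliser in `D`
  have hDtrans : ∀ x ∈ (S : Subgroup G), x ≠ 1 → ∀ y ∈ (S : Subgroup G), y ≠ 1 →
      ∃ e ∈ D, e * x * e⁻¹ = y := fun x hx hx1 y hy hy1 => B.transitive hu huH hx hx1 hy hy1
  have hstab : Nat.card ↥(D ⊓ centralizer ({t₀} : Set G)) = q := by
    have h1 := card_stab (S := S) (E := D) inf_le_left F₀.ht F₀.ht1 (hDtrans t₀ F₀.ht F₀.ht1)
    rw [← F₀.succ, Nat.add_sub_cancel, hDcard] at h1
    exact (Nat.eq_of_mul_eq_mul_left F₀.hp.pos h1).symm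
  obtain ⟨⟨c, hc⟩, hco⟩ :=
    exists_prime_orderOf_dvd_card' (G := ↥(D ⊓ centralizer ({t₀} : Set G))) q (hstab ▸ dvd_rfl)
  rw [Subgroup.orderOf_mk] at hco
  have hc1 : c ≠ 1 := fun e => by
    rw [e, orderOf_one] at hco; exact B.hyp.prime.ne_one hco.symm
  obtain ⟨p', a, hp', hsucc, hne, hcard, haE, hoa, hoc, hfpf, hnorm⟩ :=
    frame_structure B (E := D) inf_le_left hDodd hDtrans F₀.ht F₀.ht1 hc.1 hc1 (mem_C.1 hc.2)
  have hpp : p' = p := by have := F₀.succ; omega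
  subst hpp
  set t := t₀ with htdef
  have F : Frame S q D a c t p' := ⟨inf_le_left, hDodd, hdec, hp', hsucc, hne, hcard, haE, hc.1, hoa,
    hoc, hfpf, hnorm, F₀.ht, F₀.ht1, mem_C.1 hc.2⟩
  obtain ⟨g₁, hg₁c, hg₁H⟩ := Big.exists_cent_outside B F
  -- cosets
  have hpre : ∀ g, g ∉ H → ∃ s ∈ (S : Subgroup G), u⁻¹ * s⁻¹ * g ∈ H := by
    intro g hg
    obtain ⟨h, hh, h', hh', rfl⟩ := hdouble g hg
    obtain ⟨s, hs, d, ⟨-, d', hd', hdd⟩, rfl⟩ := hdec h hh
    refine ⟨s, hs, ?_⟩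
    rw [← hdd]
    show u⁻¹ * s⁻¹ * (s * (u * d' * u⁻¹) * u * h') ∈ H
    rw [show u⁻¹ * s⁻¹ * (s * (u * d' * u⁻¹) * u * h') = d' * h' by group]
    exact mul_mem hd' hh'
  set K := centralizer ({c} : Set G) ⊓ H with hK
  have htc : Commute t c := (F.comm).symm
  have htcq : orderOf (t * c) = 2 * q := by
    rw [htc.orderOf_mul_eq_mul_orderOf_of_coprime, orderOf_two_of_sq (B.hyp.sylow_sq S) F.ht F.ht1,
      F.oc]
    rw [orderOf_two_of_sq (B.hyp.sylow_sq S) F.ht F.ht1, F.oc]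
    exact (Nat.coprime_primes Nat.prime_two B.hyp.prime).2 B.hyp.ne_two.symm
  have htK : t ∈ K := ⟨mem_C.2 F.comm.symm, le_normalizer F.ht⟩
  have hcK : c ∈ K := ⟨mem_C.2 rfl, F.le F.hcE⟩
  have hKeq : K = zpowers (t * c) := by
    refine le_antisymm ?_ (zpowers_le.2 (mul_mem htK hcK))
    intro x hx
    obtain ⟨j, hj⟩ := B.hyp.prime.odd_of_ne_two B.hyp.ne_two
    have ht' : t ∈ zpowers (t * c) := by
      refine ⟨(q : ℤ), ?_⟩
      show (t * c) ^ (q : ℤ) = t
      rw [zpow_natCast, htc.mul_pow]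
      conv_lhs => arg 2; rw [← F.oc, pow_orderOf_eq_one]
      rw [mul_one, hj, pow_succ, pow_mul, B.sq F.ht, one_pow, one_mul]
    have hc' : c ∈ zpowers (t * c) := by
      have := mul_mem (inv_mem ht') (mem_zpowers (t * c))
      rwa [inv_mul_cancel_left] at this
    obtain ⟨s, hs, e, he, rfl⟩ := Big.cent_c B F hx.2 (mem_C.1 hx.1)
    refine mul_mem ?_ (zpowers_le.2 hc' he)
    rcases hs with rfl | rfl
    · exact one_mem _
    · exact ht'
  have hKcard : Nat.card ↥K = 2 * q := by rw [hKeq, Nat.card_zpowers, htcq]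
  set C := centralizer ({c} : Set G) with hC
  let L : Subgroup ↥C := K.subgroupOf C
  have hLcard : Nat.card ↥L = 2 * q := by
    rw [Nat.card_congr (subgroupOfEquivOfLe (inf_le_left : K ≤ C)).toEquiv, hKcard]
  have hidx : L.index ≤ 3 := by
    classical
    let X : Finset (G ⧸ H) := {QuotientGroup.mk 1, QuotientGroup.mk u, QuotientGroup.mk (t * u)}
    let Φ : ↥C ⧸ L → G ⧸ H := fun x => Quotient.liftOn' x (fun g => QuotientGroup.mk (g : G))
      (fun g g' hr => by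
        rw [QuotientGroup.leftRel_apply] at hr
        exact QuotientGroup.eq.2 (mem_subgroupOf.1 hr).2)
    have hmem : ∀ x, Φ x ∈ X := by
      intro x
      refine Quotient.inductionOn' x fun g => ?_
      show QuotientGroup.mk (g : G) ∈ X
      simp only [X, Finset.mem_insert, Finset.mem_singleton]
      by_cases hgH : (g : G) ∈ H
      · exact Or.inl (QuotientGroup.eq.2 (by simpa using inv_mem hgH))
      obtain ⟨s, hs, hsg⟩ := hpre _ hgH
      have hsD : s⁻¹ * c * s ∈ D := by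
        refine ⟨H.mul_mem (H.mul_mem (H.inv_mem (le_normalizer hs)) (F.le F.hcE)) (le_normalizer hs),
          (u⁻¹ * s⁻¹ * g) * c * (u⁻¹ * s⁻¹ * g)⁻¹, mul_mem (mul_mem hsg (F.le F.hcE)) (inv_mem hsg),
          ?_⟩
        show u * ((u⁻¹ * s⁻¹ * g) * c * (u⁻¹ * s⁻¹ * g)⁻¹) * u⁻¹ = s⁻¹ * c * s
        calc u * ((u⁻¹ * s⁻¹ * g) * c * (u⁻¹ * s⁻¹ * g)⁻¹) * u⁻¹
            = s⁻¹ * ((g : G) * c) * (g : G)⁻¹ * s := by group
          _ = s⁻¹ * (c * g) * (g : G)⁻¹ * s := by rw [mem_C.1 g.2]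
          _ = s⁻¹ * c * s := by group
      have hcs : c * s = s * c := by
        have h1 : s⁻¹ * c * s * c⁻¹ = 1 := hSD _
          (by
            rw [show s⁻¹ * c * s * c⁻¹ = s⁻¹ * (c * s * c⁻¹) by group]
            exact mul_mem (inv_mem hs) (conj_mem_of_normalizer (F.le F.hcE) hs))
          (mul_mem hsD (inv_mem F.hcE))
        calc c * s = s * ((s⁻¹ * c * s * c⁻¹) * c) := by group
          _ = s * c := by rw [h1, one_mul]
      rcases Big.fixed_c B F hs hcs with rfl | rfl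
      · refine Or.inr (Or.inl (QuotientGroup.eq.2 ?_))
        have := inv_mem hsg
        simpa [mul_assoc] using this
      · refine Or.inr (Or.inr (QuotientGroup.eq.2 ?_))
        have := inv_mem hsg
        simpa [mul_assoc] using this
    have hinj : Function.Injective Φ := by
      intro x y
      refine Quotient.inductionOn₂' x y fun g g' heq => Quotient.sound' ?_
      rw [QuotientGroup.leftRel_apply, mem_subgroupOf]
      exact ⟨(g⁻¹ * g').2, QuotientGroup.eq.1 heq⟩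
    rw [Subgroup.index]
    have hle := Nat.card_le_card_of_injective (fun x => (⟨Φ x, hmem x⟩ : {y // y ∈ X}))
      fun x y hxy => hinj (congrArg Subtype.val hxy)
    refine hle.trans ?_
    rw [Nat.card_eq_fintype_card, Fintype.card_coe]
    exact Finset.card_le_three
  have hCcard := Subgroup.card_mul_index L
  rw [hLcard] at hCcard
  have hidx1 : L.index ≠ 1 := fun e => hg₁H (by
    have h1 : (⟨g₁, mem_C.2 hg₁c⟩ : ↥C) ∈ L := by rw [index_eq_one.1 e]; exact mem_top _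
    exact (mem_subgroupOf.1 h1).2)
  have hidx0 : L.index ≠ 0 := index_ne_zero_of_finite
  have hidx2 : L.index ≠ 2 := by
    intro e
    rw [e] at hCcard
    have htp : IsPGroup 2 ↥(zpowers (⟨t, htK.1⟩ : ↥C)) := IsPGroup.of_card (n := 1) (by
      rw [Nat.card_zpowers, Subgroup.orderOf_mk, orderOf_two_of_sq (B.hyp.sylow_sq S) F.ht F.ht1,
        pow_one])
    obtain ⟨T, hT⟩ := htp.exists_le_sylow
    obtain ⟨U, hU⟩ := (T.isPGroup'.map C.subtype).exists_le_sylow
    have hT4 : 4 ∣ Nat.card ↥(T : Subgroup ↥C) := by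
      obtain ⟨k, hk⟩ := IsPGroup.iff_card.1 T.isPGroup'
      rw [hk]
      have h4 : 2 ^ 2 ∣ Nat.card ↥C := ⟨q, by rw [← hCcard]; ring⟩
      have hle2 : 2 ≤ (Nat.card ↥C).factorization 2 :=
        (Nat.Prime.pow_dvd_iff_le_factorization Nat.prime_two Nat.card_pos.ne').1 h4
      have := T.card_eq_multiplicity
      rw [hk] at this
      rw [this]
      exact (show 4 = 2 ^ 2 from rfl) ▸ pow_dvd_pow 2 hle2
    have hTL : (T : Subgroup ↥C) ≤ L := fun x hx => by
      refine mem_subgroupOf.2 ⟨x.2, B.centralizer_le F.ht F.ht1 (mem_C.2 ?_)⟩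
      exact comm_of_sq (B.hyp.sylow_sq U) (hU ⟨x, hx, rfl⟩) (hU ⟨_, hT (mem_zpowers _), rfl⟩)
    have h5 := hT4.trans (card_dvd_of_le hTL)
    rw [hLcard] at h5
    obtain ⟨j, hj⟩ := B.hyp.prime.odd_of_ne_two B.hyp.ne_two
    omega
  have hidx3 : L.index = 3 := by omega
  rw [hidx3] at hCcard
  have hq3 : q = 3 := by
    rcases B.hyp.primeFactors_centralizer_q F.oc 3
      (Nat.mem_primeFactors.2 ⟨Nat.prime_three, ⟨2 * q, by rw [← hC, ← hCcard]; ring⟩,
        Nat.card_pos.ne'⟩) with e | e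
    · norm_num at e
    · exact e.symm
  subst hq3
  -- the order of `G`
  have hindex : H.index = Nat.card ↥(S : Subgroup G) + 1 := by
    classical
    let Φ : Option ↥(S : Subgroup G) → G ⧸ H := fun x =>
      x.elim (QuotientGroup.mk 1) fun s => QuotientGroup.mk ((s : G) * u)
    have hbij : Function.Bijective Φ := by
      constructor
      · rintro (_ | s) (_ | s') heq
        · rfl
        · exfalso
          have h1 := QuotientGroup.eq.1 heq
          rw [inv_one, one_mul] at h1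
          exact huH (by simpa using mul_mem (inv_mem (le_normalizer s'.2 : (s' : G) ∈ H)) h1)
        · exfalso
          have h1 := inv_mem (QuotientGroup.eq.1 heq)
          simp only [mul_one, inv_inv] at h1
          exact huH (by simpa using mul_mem (inv_mem (le_normalizer s.2 : (s : G) ∈ H)) h1)
        · have h1 := QuotientGroup.eq.1 heq
          have hmem : (s : G)⁻¹ * s' ∈ D := by
            refine ⟨le_normalizer (mul_mem (inv_mem s.2) s'.2), _, h1, ?_⟩
            show u * (((s : G) * u)⁻¹ * ((s' : G) * u)) * u⁻¹ = (s : G)⁻¹ * s'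
            group
          exact congrArg some (Subtype.ext
            (inv_mul_eq_one.1 (hSD _ (mul_mem (inv_mem s.2) s'.2) hmem)))
      · intro x
        refine Quotient.inductionOn' x fun g => ?_
        by_cases hgH : g ∈ H
        · exact ⟨none, QuotientGroup.eq.2 (by simpa using hgH)⟩
        · obtain ⟨s, hs, hsg⟩ := hpre g hgH
          exact ⟨some ⟨s, hs⟩, QuotientGroup.eq.2 (by simpa [mul_assoc] using hsg)⟩
    rw [Subgroup.index, ← Nat.card_eq_of_bijective Φ hbij, Finite.card_option]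
  obtain ⟨n, hn⟩ := IsPGroup.iff_card.1 S.isPGroup'
  have hnp : n.Prime := by
    have h1 : n ≠ 1 := fun e => by have := B.eight; rw [hn, e] at this; norm_num at this
    refine (Nat.prime_of_pow_sub_one_prime h1 (a := 2) ?_).2
    rw [← hn, ← F.succ, Nat.add_sub_cancel]
    exact hp'
  refine ⟨n, p', c, t, rfl, hnp, hn, by rw [← hn]; exact F.succ, ?_, F.ht, F.ht1, F.oc, F.comm,
    F.le F.hcE, by rw [← hCcard], fun v hv => Big.fixed_c B F hv⟩
  rw [← Subgroup.card_mul_index H, hindex, hHcard, hn]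
  ring

end CfsgLib.Recognition.OneComposite
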