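import Cfsg.Agent.Lib.Recognition.OneComposite.Cycle
import Cfsg.Agent.Lib.Coprime.Sylow
import Cfsg.Agent.Lib.DegreeTools.RankThreeEmbedded
import Cfsg.Agent.Lib.Characterizations.BSWDihedral
import Mathlib.GroupTheory.FixedPointFree
import Mathlib.GroupTheory.SpecificGroups.KleinFour
import Mathlib.GroupTheory.SpecificGroups.Dihedral

/-!
Sylow 2-subgroups of order four: the odd parts of the involution centralisers are abelian and
inverted, and the group is `PSL(2, F)` with `F` of odd order.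
-/

set_option autoImplicit false
set_option linter.unusedSectionVars false

open Subgroup

namespace CfsgLib.Recognition.OneComposite

universe u

variable {G : Type u} [Group G] [Finite G] {q : ℕ}

/-- The odd part of the centraliser of `x`. -/
def th (x : G) : Subgroup G := cr (centralizer ({x} : Set G))

theorem th_le (x : G) : th x ≤ centralizer ({x} : Set G) := cr_le _

theorem centralizer_le_normalizer_th (x : G) :
    centralizer ({x} : Set G) ≤ normalizer (th x : Set G) :=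
  le_normalizer.trans (normalizer_le_normalizer_cr _)

theorem isPGroup_th (h : Hyp G q) {x : G} (hx : orderOf x = 2) : IsPGroup q ↥(th x) :=
  h.isPGroup_q (th_le x) (odd_card_cr _) (h.primeFactors_centralizer hx)

theorem odd_orderOf_of_isPGroup (h : Hyp G q) {M : Subgroup G} (hM : IsPGroup q ↥M) {x : G}
    (hx : x ∈ M) : Odd (orderOf x) :=
  Odd.of_dvd_nat (h.prime.odd_of_ne_two h.ne_two) (orderOf_dvd_of_pow_eq_one (h.pow_q hM hx))

theorem odd_card_of_isPGroup (h : Hyp G q) {M : Subgroup G} (hM : IsPGroup q ↥M) :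
    Odd (Nat.card ↥M) := by
  haveI := Fact.mk h.prime
  obtain ⟨n, hn⟩ := IsPGroup.iff_card.1 hM
  rw [hn]
  exact (h.prime.odd_of_ne_two h.ne_two).pow

theorem mem_of_normalizes (S : Sylow 2 G) {y : G} (hy : y ^ 2 = 1)
    (hn : y ∈ normalizer ((S : Subgroup G) : Set G)) : y ∈ (S : Subgroup G) := by
  haveI : Fact (Nat.Prime 2) := ⟨Nat.prime_two⟩
  have hp : IsPGroup 2 ↥(zpowers y) := by
    obtain ⟨j, -, hj⟩ := (Nat.dvd_prime_pow Nat.prime_two).1
      (show orderOf y ∣ 2 ^ 1 by rw [pow_one]; exact orderOf_dvd_of_pow_eq_one hy)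
    exact IsPGroup.of_card (n := j) (by rw [Nat.card_zpowers, hj])
  have h2 : IsPGroup 2 ↥((S : Subgroup G) ⊔ zpowers y) :=
    IsPGroup.to_sup_of_normal_left' S.isPGroup' hp (zpowers_le.2 hn)
  exact S.is_maximal' h2 le_sup_left ▸ mem_sup_right (mem_zpowers y)

/-- `V` invariant `q`-subgroups. -/
def Inv (q : ℕ) (V : Subgroup G) (M : Subgroup G) : Prop :=
  IsPGroup q ↥M ∧ V ≤ normalizer (M : Set G)

/-- Maximal `V` invariant `q`-subgroups. -/
def InvMax (q : ℕ) (V : Subgroup G) (M : Subgroup G) : Prop :=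
  Inv q V M ∧ ∀ M', Inv q V M' → M ≤ M' → M' = M

theorem exists_invMax {V M : Subgroup G} (hM : Inv q V M) : ∃ M', M ≤ M' ∧ InvMax q V M' := by
  obtain ⟨M', hle, hmax⟩ := Finite.exists_le_maximal (p := Inv q V) hM
  exact ⟨M', hle, hmax.prop, fun M'' h'' hle' => le_antisymm (hmax.le_of_ge h'' hle') hle'⟩

section Four

variable (h : Hyp G q) (V : Sylow 2 G) (hV : Nat.card ↥(V : Subgroup G) = 4)
include h hV

theorem exists_cycle {K : Subgroup G} {g : G} (hgK : g ∈ K)
    (hgn : g ∈ normalizer ((V : Subgroup G) : Set G))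
    (hgc : g ∉ centralizer ((V : Subgroup G) : Set G)) :
    ∃ a b : G, a ∈ (V : Subgroup G) ∧ b ∈ (V : Subgroup G) ∧ a ≠ 1 ∧ b ≠ 1 ∧ a ≠ b ∧
      ∃ σ ∈ K, σ ∈ normalizer ((V : Subgroup G) : Set G) ∧ σ * a * σ⁻¹ = b ∧
        σ * b * σ⁻¹ = a * b := by
  haveI : Fact (Nat.Prime 2) := ⟨Nat.prime_two⟩
  have hV2 := h.sylow_sq V
  obtain ⟨a, ha, hne⟩ : ∃ a ∈ (V : Subgroup G), g * a * g⁻¹ ≠ a := by
    by_contra h'
    push Not at h'
    exact hgc (mem_centralizer_iff.2 fun y hy => (mul_inv_eq_iff_eq_mul.1 (h' y hy)).symm)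
  have ha1 : a ≠ 1 := fun e => hne (by rw [e]; group)
  set b := g * a * g⁻¹ with hb'
  have hb : b ∈ (V : Subgroup G) := conj_mem_of_normalizer hgn ha
  have hb1 : b ≠ 1 := fun e => ha1 (conj_eq_one_iff.1 e)
  refine ⟨a, b, ha, hb, ha1, hb1, hne.symm, g, hgK, hgn, rfl, ?_⟩
  have hc := comm_of_sq hV2 ha hb
  have hgb : g * b * g⁻¹ ∈ (V : Subgroup G) := conj_mem_of_normalizer hgn hb
  rcases mem_four hV hV2 ha hb ha1 hb1 hne.symm _ hgb with i | i | i | i
  · exact absurd (conj_eq_one_iff.1 i) hb1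
  · -- a transposition is impossible
    exfalso
    have hab : g * (a * b) * g⁻¹ = a * b := by
      rw [show g * (a * b) * g⁻¹ = (g * a * g⁻¹) * (g * b * g⁻¹) by group, i, ← hb']
      exact hc.symm
    obtain ⟨k, m, hm, hkm⟩ := Nat.exists_eq_two_pow_mul_odd (orderOf_pos g).ne'
    have hs2 : (g ^ m) ^ 2 ^ k = 1 := by rw [← pow_mul, mul_comm, ← hkm, pow_orderOf_eq_one]
    have hp : IsPGroup 2 ↥(zpowers (g ^ m)) := by
      obtain ⟨j, -, hj⟩ := (Nat.dvd_prime_pow Nat.prime_two).1 (orderOf_dvd_of_pow_eq_one hs2)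
      exact IsPGroup.of_card (n := j) (by rw [Nat.card_zpowers, hj])
    have hsV : g ^ m ∈ (V : Subgroup G) :=
      V.is_maximal' (IsPGroup.to_sup_of_normal_left' V.isPGroup' hp
        (zpowers_le.2 (pow_mem hgn m))) le_sup_left ▸ mem_sup_right (mem_zpowers _)
    have hfix : g ^ m * a * (g ^ m)⁻¹ = a := by
      rw [comm_of_sq hV2 hsV ha]; group
    obtain ⟨j, rfl⟩ := hm
    have heven : ∀ l, g ^ (2 * l) * a * (g ^ (2 * l))⁻¹ = a := by
      intro l
      induction l with
      | zero => simp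
      | succ l ih =>
        calc g ^ (2 * (l + 1)) * a * (g ^ (2 * (l + 1)))⁻¹
            = g * (g * (g ^ (2 * l) * a * (g ^ (2 * l))⁻¹) * g⁻¹) * g⁻¹ := by
              rw [show 2 * (l + 1) = 1 + (1 + 2 * l) by ring, pow_add, pow_add, pow_one]
              group
          _ = a := by rw [ih, ← hb', i]
    refine hne ?_
    calc b = g * (g ^ (2 * j) * a * (g ^ (2 * j))⁻¹) * g⁻¹ := by rw [heven]
      _ = g ^ (2 * j + 1) * a * (g ^ (2 * j + 1))⁻¹ := by rw [pow_succ']; group
      _ = a := hfix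
  · exfalso
    refine hne ?_
    have : g * b * g⁻¹ = g * a * g⁻¹ := i
    exact mul_left_cancel (mul_right_cancel this)
  · exact i

theorem cr_odd_mem {N : Subgroup G} (hVN : (V : Subgroup G) ≤ N)
    (hno : ∀ g ∈ N, g ∈ normalizer ((V : Subgroup G) : Set G) →
      g ∈ centralizer ((V : Subgroup G) : Set G))
    {x : G} (hx : x ∈ N) (hodd : Odd (orderOf x)) : x ∈ cr N :=
  mem_cr_of_odd V hVN hno hx hodd

theorem sylow_le_centralizer {x : G} (hx : x ∈ (V : Subgroup G)) :
    (V : Subgroup G) ≤ centralizer ({x} : Set G) := fun _ hy =>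
  mem_C.2 (comm_of_sq (h.sylow_sq V) hy hx)

theorem mem_th {x : G} (hx : x ∈ (V : Subgroup G)) (hx1 : x ≠ 1) {y : G}
    (hy : y * x = x * y) (hodd : Odd (orderOf y)) : y ∈ th x := by
  refine cr_odd_mem h V hV (sylow_le_centralizer h V hV hx) (fun g hg hgn => ?_) (mem_C.2 hy) hodd
  by_contra hgc
  obtain ⟨a, b, ha, hb, ha1, hb1, hab, σ, hσ, -, s1, s2⟩ := exists_cycle h V hV hg hgn hgc
  have hfix : σ * x * σ⁻¹ = x := by rw [mem_C.1 hσ]; group
  rcases mem_four hV (h.sylow_sq V) ha hb ha1 hb1 hab x hx with i | i | i | i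
  · exact hx1 i
  · rw [i, s1] at hfix; exact hab hfix.symm
  · rw [i, s2] at hfix; exact ha1 (mul_eq_right.1 hfix)
  · rw [i, show σ * (a * b) * σ⁻¹ = (σ * a * σ⁻¹) * (σ * b * σ⁻¹) by group, s1, s2] at hfix
    exact hb1 (mul_eq_right.1 hfix)

theorem sylow_le_normalizer_th {x : G} (hx : x ∈ (V : Subgroup G)) :
    (V : Subgroup G) ≤ normalizer (th x : Set G) :=
  (sylow_le_centralizer h V hV hx).trans (centralizer_le_normalizer_th x)

theorem conj_th {x : G} (hx : x ∈ (V : Subgroup G)) (hx1 : x ≠ 1) {g : G}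
    (hg : g ∈ normalizer ((V : Subgroup G) : Set G)) {y : G} (hy : y ∈ th x) :
    g * y * g⁻¹ ∈ th (g * x * g⁻¹) := by
  refine mem_th h V hV (conj_mem_of_normalizer hg hx) (fun e => hx1 (conj_eq_one_iff.1 e)) ?_ ?_
  · have hc := mem_C.1 (th_le x hy)
    calc g * y * g⁻¹ * (g * x * g⁻¹) = g * (y * x) * g⁻¹ := by group
      _ = g * (x * y) * g⁻¹ := by rw [hc]
      _ = g * x * g⁻¹ * (g * y * g⁻¹) := by group
  · rw [← MulAut.conj_apply, MulEquiv.orderOf_eq]
    exact odd_orderOf_of_isPGroup h (isPGroup_th h (orderOf_two_of_sq (h.sylow_sq V) hx hx1)) hy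

theorem isKlein : IsKleinFour ↥(V : Subgroup G) := by
  refine ⟨hV, ?_⟩
  have hd : Monoid.exponent ↥(V : Subgroup G) ∣ 2 :=
    Monoid.exponent_dvd_of_forall_pow_eq_one fun x => Subtype.ext (h.sylow_sq V x x.2)
  rcases (Nat.dvd_prime Nat.prime_two).1 hd with e | e
  · haveI := Monoid.exp_eq_one_iff.1 e
    rw [Nat.card_unique] at hV
    norm_num at hV
  · exact e

theorem not_isCyclic_sylow : ¬ IsCyclic ↥(V : Subgroup G) := by
  haveI := isKlein h V hV
  exact IsKleinFour.not_isCyclic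

theorem coprime_four {M : Subgroup G} (hM : Odd (Nat.card ↥M)) :
    (Nat.card ↥(V : Subgroup G)).Coprime (Nat.card ↥M) := by
  rw [hV, show 4 = 2 ^ 2 from rfl]
  exact ((Nat.coprime_two_left.2 hM)).pow_left 2

/-- `Q₀`, the odd part of `C(V)`, is in every `th x`. -/
theorem fixed_mem_th {x : G} (hx : x ∈ (V : Subgroup G)) (hx1 : x ≠ 1) {y : G}
    (hy : y ∈ centralizer ((V : Subgroup G) : Set G)) (hodd : Odd (orderOf y)) : y ∈ th x :=
  mem_th h V hV hx hx1 (mem_centralizer_iff.1 hy x hx).symm hodd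

theorem le_th_sup {M : Subgroup G} (hM : Inv q (V : Subgroup G) M) :
    M ≤ ⨆ x ∈ {x : G | x ∈ (V : Subgroup G) ∧ x ≠ 1}, M ⊓ th x := by
  haveI : IsMulCommutative ↥(V : Subgroup G) :=
    ⟨⟨fun x y => Subtype.ext (comm_of_sq (h.sylow_sq V) x.2 y.2)⟩⟩
  conv_lhs => rw [← CfsgLib.Coprime.iSup_centralizer_singleton (not_isCyclic_sylow h V hV) hM.2
    (coprime_four h V hV (odd_card_of_isPGroup h hM.1))]
  refine iSup₂_mono fun x hx y hy => ⟨hy.1, ?_⟩
  exact mem_th h V hV hx.1 hx.2 (mem_C.1 hy.2) (odd_orderOf_of_isPGroup h hM.1 hy.1)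

/-- Maximal invariant `q`-subgroups holding `C(V)` and meeting nontrivially are equal. -/
theorem invMax_unique : ∀ (n : ℕ) (M₁ M₂ : Subgroup G),
    Nat.card G - Nat.card ↥(M₁ ⊓ M₂) < n →
    InvMax q (V : Subgroup G) M₁ → InvMax q (V : Subgroup G) M₂ → M₁ ⊓ M₂ ≠ ⊥ →
    (∀ y ∈ centralizer ((V : Subgroup G) : Set G), Odd (orderOf y) → y ∈ M₁ ⊓ M₂) → M₁ = M₂ := by
  haveI := Fact.mk h.prime
  haveI : Fact (Nat.Prime 2) := ⟨Nat.prime_two⟩
  intro n
  induction n with
  | zero => intro _ _ hn; omega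
  | succ n ih =>
    intro M₁ M₂ hn h₁ h₂ hne hQ
    by_contra hdiff
    set I := M₁ ⊓ M₂ with hI
    have hI1 : I < M₁ := lt_of_le_of_ne inf_le_left fun e =>
      hdiff ((h₁.2 M₂ h₂.1 (e ▸ inf_le_right)).symm)
    have hI2 : I < M₂ := lt_of_le_of_ne inf_le_right fun e =>
      hdiff (h₂.2 M₁ h₁.1 (e ▸ inf_le_left))
    set N₁ := M₁ ⊓ normalizer (I : Set G)
    set N₂ := M₂ ⊓ normalizer (I : Set G)
    have hN₁ : I < N₁ := CfsgLib.Coprime.lt_normalizer_inf_of_lt h₁.1.1 hI1
    have hN₂ : I < N₂ := CfsgLib.Coprime.lt_normalizer_inf_of_lt h₂.1.1 hI2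
    have hIq : IsPGroup q ↥I := h₁.1.1.to_le inf_le_left
    have hVI : (V : Subgroup G) ≤ normalizer (I : Set G) :=
      (le_inf h₁.1.2 h₂.1.2).trans inf_normalizer_le_normalizer_inf
    set N := normalizer (I : Set G) with hN
    by_cases hno : ∀ g ∈ N, g ∈ normalizer ((V : Subgroup G) : Set G) →
        g ∈ centralizer ((V : Subgroup G) : Set G)
    · set K := cr N
      have hVK : (V : Subgroup G) ≤ normalizer (K : Set G) :=
        hVI.trans (le_normalizer.trans (normalizer_le_normalizer_cr N))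
      have hcop := coprime_four h V hV (odd_card_cr N)
      have hsolv : Group.IsSolvable ↥(V : Subgroup G) ∨ Group.IsSolvable ↥K :=
        Or.inl (Group.isSolvable_of_comm fun x y => Subtype.ext (comm_of_sq (h.sylow_sq V) x.2 y.2))
      have hNK : ∀ M : Subgroup G, IsPGroup q ↥M → M ⊓ N ≤ K := fun M hM y hy =>
        cr_odd_mem h V hV hVI hno hy.2 (odd_orderOf_of_isPGroup h hM hy.1)
      obtain ⟨P₁, hP₁, hP₁V⟩ := CfsgLib.Coprime.exists_le_invariant_sylow hVK hcop hsolv
        (hNK M₁ h₁.1.1) (h₁.1.1.to_le inf_le_left)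
        ((le_inf h₁.1.2 (hVI.trans le_normalizer)).trans inf_normalizer_le_normalizer_inf)
      obtain ⟨P₂, hP₂, hP₂V⟩ := CfsgLib.Coprime.exists_le_invariant_sylow hVK hcop hsolv
        (hNK M₂ h₂.1.1) (h₂.1.1.to_le inf_le_left)
        ((le_inf h₂.1.2 (hVI.trans le_normalizer)).trans inf_normalizer_le_normalizer_inf)
      obtain ⟨c, hc, hceq⟩ := CfsgLib.Coprime.exists_centralizer_conj_sylow hVK hcop hsolv P₁ P₂
        hP₁V hP₂V
      obtain ⟨M₃, hM₃, h₃⟩ := exists_invMax (V := (V : Subgroup G))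
        (M := (P₁ : Subgroup ↥K).map K.subtype) ⟨P₁.isPGroup'.map _, hP₁V⟩
      have hlt : I < M₁ ⊓ M₃ := hN₁.trans_le (le_inf inf_le_left (hP₁.trans hM₃))
      have hne3 : M₁ ⊓ M₃ ≠ ⊥ := fun e => not_lt_bot (e ▸ hlt)
      have hcard : Nat.card ↥I < Nat.card ↥(M₁ ⊓ M₃) :=
        Set.Finite.card_lt_card (Set.toFinite _) hlt
      have hle3 : Nat.card ↥(M₁ ⊓ M₃) ≤ Nat.card G := Subgroup.card_le_card_group _
      have e13 : M₁ = M₃ := ih M₁ M₃ (by omega) h₁ h₃ hne3 fun y hy ho => hlt.le (hQ y hy ho)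
      have hcI : (c : G) ∈ M₁ := by
        refine (hQ c hc ?_).1
        exact Odd.of_dvd_nat (odd_card_cr N) (Subgroup.orderOf_dvd_natCard K c.2)
      refine hN₂.not_ge fun y hy => ⟨?_, hy.1⟩
      have := hP₂ hy
      rw [← hceq, CfsgLib.Coprime.map_smul_sylow] at this
      obtain ⟨w, hw, rfl⟩ := this
      exact M₁.mul_mem (M₁.mul_mem hcI (e13 ▸ hM₃ hw)) (M₁.inv_mem hcI)
    · push Not at hno
      obtain ⟨g, hgN, hgn, hgc⟩ := hno
      obtain ⟨a, b, ha, hb, ha1, hb1, hab, σ, hσN, -, s1, s2⟩ := exists_cycle h V hV hgN hgn hgc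
      have hVC : (V : Subgroup G) ≤ centralizer (I : Set G) :=
        centralize_of_cycle h hV (h.sylow_sq V) ha hb ha1 hb1 hab hIq hVI hσN s1 s2
      obtain ⟨y, hyI, hy⟩ := CfsgLib.LocalEven.StronglyEmbedded.exists_order_p hIq hne
      set C := centralizer (I : Set G)
      have hCy : C ≤ centralizer ({y} : Set G) := centralizer_le (Set.singleton_subset_iff.2 hyI)
      haveI hCsolv : Group.IsSolvable ↥C :=
        CfsgLib.Coprime.isSolvable_of_le hCy (h.isSolvable_centralizer_q hy)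
      set R := cr C
      have hRq : IsPGroup q ↥R :=
        h.isPGroup_q ((cr_le C).trans hCy) (odd_card_cr C) (h.primeFactors_centralizer_q hy)
      have hNC : N ≤ normalizer (C : Set G) := by
        intro m hm
        refine mem_normalizer_iff.2 fun w => ⟨fun hw => ?_, fun hw => ?_⟩
        · refine mem_centralizer_iff.2 fun z hz => ?_
          have h1 := mem_centralizer_iff.1 hw _
            ((mem_normalizer_iff.1 (inv_mem hm) z).1 hz)
          rw [inv_inv] at h1
          calc z * (m * w * m⁻¹) = m * ((m⁻¹ * z * m) * w) * m⁻¹ := by group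
            _ = m * (w * (m⁻¹ * z * m)) * m⁻¹ := by rw [h1]
            _ = m * w * m⁻¹ * z := by group
        · refine mem_centralizer_iff.2 fun z hz => ?_
          have h1 := mem_centralizer_iff.1 hw _ ((mem_normalizer_iff.1 hm z).1 hz)
          have : m * (z * w) * m⁻¹ = m * (w * z) * m⁻¹ := by
            calc m * (z * w) * m⁻¹ = (m * z * m⁻¹) * (m * w * m⁻¹) := by group
              _ = (m * w * m⁻¹) * (m * z * m⁻¹) := h1
              _ = m * (w * z) * m⁻¹ := by group
          exact mul_left_cancel (mul_right_cancel this)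
      have hσR : σ ∈ normalizer (R : Set G) := normalizer_le_normalizer_cr C (hNC hσN)
      have hVR : (V : Subgroup G) ≤ centralizer (R : Set G) :=
        centralize_of_cycle h hV (h.sylow_sq V) ha hb ha1 hb1 hab hRq
          (hVC.trans (le_normalizer.trans (normalizer_le_normalizer_cr C))) hσR s1 s2
      have hRN : R ≤ normalizer ((V : Subgroup G) : Set G) :=
        fun r hr => centralizer_le_normalizer _
          (mem_centralizer_iff.2 fun v hv => (mem_centralizer_iff.1 (hVR hv) r hr).symm)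
      -- `C` normalises `V`
      have hVcomm : IsMulCommutative ↥((V.subtype hVC : Sylow 2 ↥C) : Subgroup ↥C) :=
        ⟨⟨fun u w => Subtype.ext (Subtype.ext (comm_of_sq (h.sylow_sq V)
          (mem_subgroupOf.1 u.2) (mem_subgroupOf.1 w.2)))⟩⟩
      haveI := CfsgLib.Solvable.SylowSystem.abelian_sylow_normal 2 (V.subtype hVC) hVcomm
      have hFr := Sylow.normalizer_sup_eq_top' (V.subtype hVC)
        (le_sup_left : ((V.subtype hVC : Sylow 2 ↥C) : Subgroup ↥C) ≤
          ((V.subtype hVC : Sylow 2 ↥C) : Subgroup ↥C) ⊔ Cfsg.pPrimeCore 2 ↥C)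
      have hCV : ∀ w ∈ C, w ∈ normalizer ((V : Subgroup G) : Set G) := by
        intro w hw
        have h1 : (⊤ : Subgroup ↥C) ≤
            (normalizer ((V : Subgroup G) : Set G)).subgroupOf C := by
          rw [← hFr]
          refine sup_le ?_ (sup_le ?_ ?_)
          · intro m hm
            refine mem_subgroupOf.2 (mem_normalizer_iff.2 fun x => ⟨fun hx => ?_, fun hx => ?_⟩)
            · exact mem_subgroupOf.1 ((mem_normalizer_iff.1 hm ⟨x, hVC hx⟩).1 (mem_subgroupOf.2 hx))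
            · have hxC : x ∈ C := by
                have := mul_mem (mul_mem (inv_mem m.2) (hVC hx)) m.2
                simpa [mul_assoc] using this
              exact mem_subgroupOf.1
                ((mem_normalizer_iff.1 hm ⟨x, hxC⟩).2 (mem_subgroupOf.2 hx))
          · exact fun x hx => mem_subgroupOf.2 (le_normalizer (mem_subgroupOf.1 hx))
          · exact fun x hx => mem_subgroupOf.2 (hRN ⟨x, hx, rfl⟩)
        exact mem_subgroupOf.1 (h1 (mem_top ⟨w, hw⟩))
      refine hN₁.not_ge fun m hm => ?_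
      refine hQ m (mem_centralizer_iff.2 fun v hv => ?_) (odd_orderOf_of_isPGroup h h₁.1.1 hm.1)
      have hmv : m * v * m⁻¹ ∈ (V : Subgroup G) := by
        refine mem_of_normalizes V ?_ (hCV _ (conj_mem_of_normalizer (hNC hm.2) (hVC hv)))
        rw [pow_two, show m * v * m⁻¹ * (m * v * m⁻¹) = m * (v * v) * m⁻¹ by group, ← pow_two,
          h.sylow_sq V v hv]
        group
      have h1 : m * v * m⁻¹ * v⁻¹ ∈ (V : Subgroup G) ⊓ M₁ := by
        refine ⟨(V : Subgroup G).mul_mem hmv ((V : Subgroup G).inv_mem hv), ?_⟩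
        rw [show m * v * m⁻¹ * v⁻¹ = m * (v * m⁻¹ * v⁻¹) by group]
        exact M₁.mul_mem hm.1 (conj_mem_of_normalizer (h₁.1.2 hv) (inv_mem hm.1))
      rw [inf_eq_bot_of_coprime (coprime_four h V hV (odd_card_of_isPGroup h h₁.1.1)), mem_bot] at h1
      exact (mul_inv_eq_iff_eq_mul.1 (mul_inv_eq_one.1 h1)).symm

theorem invMax_eq {M₁ M₂ : Subgroup G} (h₁ : InvMax q (V : Subgroup G) M₁)
    (h₂ : InvMax q (V : Subgroup G) M₂) (hne : M₁ ⊓ M₂ ≠ ⊥)
    (hQ : ∀ y ∈ centralizer ((V : Subgroup G) : Set G), Odd (orderOf y) → y ∈ M₁ ⊓ M₂) : M₁ = M₂ :=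
  invMax_unique h V hV _ M₁ M₂ (Nat.lt_succ_self _) h₁ h₂ hne hQ

/-- No `q`-group holds the odd parts of all three involution centralisers. -/
theorem no_big [IsSimpleGroup G] {M : Subgroup G} (hM : IsPGroup q ↥M)
    (hall : ∀ x ∈ (V : Subgroup G), x ≠ 1 → th x ≤ M) :
    ∀ x ∈ (V : Subgroup G), x ≠ 1 → th x = ⊥ := by
  haveI : Fact (Nat.Prime 2) := ⟨Nat.prime_two⟩
  set W : Subgroup G := ⨆ x : {x : G // x ∈ (V : Subgroup G) ∧ x ≠ 1}, th (x : G) with hW
  have hWM : W ≤ M := iSup_le fun x => hall x x.2.1 x.2.2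
  have hle : ∀ x ∈ (V : Subgroup G), x ≠ 1 → th x ≤ W := fun x hx hx1 =>
    le_iSup (fun y : {x : G // x ∈ (V : Subgroup G) ∧ x ≠ 1} => th (y : G)) ⟨x, hx, hx1⟩
  have hN : normalizer ((V : Subgroup G) : Set G) ≤ normalizer (W : Set G) := by
    have hmap : ∀ g ∈ normalizer ((V : Subgroup G) : Set G),
        W.map (MulAut.conj g).toMonoidHom ≤ W := by
      intro g hg
      rw [hW, Subgroup.map_iSup]
      refine iSup_le fun x => ?_
      rintro _ ⟨y, hy, rfl⟩
      exact hle _ (conj_mem_of_normalizer hg x.2.1) (fun e => x.2.2 (conj_eq_one_iff.1 e))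
        (conj_th h V hV x.2.1 x.2.2 hg hy)
    intro g hg
    refine mem_normalizer_iff.2 fun y => ⟨fun hy => hmap g hg ⟨y, hy, rfl⟩, fun hy => ?_⟩
    have := hmap g⁻¹ (inv_mem hg) ⟨_, hy, rfl⟩
    simpa [mul_assoc] using this
  have hV1 : (V : Subgroup G) ≠ ⊥ := fun e => by
    rw [e, card_bot] at hV; norm_num at hV
  have hW1 : W = ⊥ := by
    refine no_odd_invariant V hV1 (odd_card_of_isPGroup h (hM.to_le hWM)) hN fun x hx hxo => ?_
    haveI := h.isSolvable_centralizer hxo
    refine CfsgLib.DegreeTools.RankThree.centralizer_le_of_abelian_sylow V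
      ⟨⟨fun u w => Subtype.ext (comm_of_sq (h.sylow_sq V) u.2 w.2)⟩⟩ hx ?_ hN
    exact (hle x hx (fun e => by rw [e, orderOf_one] at hxo; norm_num at hxo)).trans le_normalizer
  exact fun x hx hx1 => le_bot_iff.1 (hW1 ▸ hle x hx hx1)

theorem exists_cycle_top [IsSimpleGroup G] (hex : ∃ g : G, orderOf g = 2 * q) :
    ∃ a b : G, a ∈ (V : Subgroup G) ∧ b ∈ (V : Subgroup G) ∧ a ≠ 1 ∧ b ≠ 1 ∧ a ≠ b ∧
      ∃ σ ∈ (⊤ : Subgroup G), σ ∈ normalizer ((V : Subgroup G) : Set G) ∧ σ * a * σ⁻¹ = b ∧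
        σ * b * σ⁻¹ = a * b := by
  haveI : Fact (Nat.Prime 2) := ⟨Nat.prime_two⟩
  by_contra hno
  obtain ⟨g, hg⟩ := hex
  have hodd : Odd (orderOf (g ^ 2)) := by
    rw [orderOf_pow' g (by norm_num), hg, Nat.gcd_eq_right (dvd_mul_right 2 q),
      Nat.mul_div_cancel_left q (by norm_num)]
    exact h.prime.odd_of_ne_two h.ne_two
  have hmem : g ^ 2 ∈ cr (⊤ : Subgroup G) := by
    refine cr_odd_mem h V hV le_top (fun m _ hm => ?_) (mem_top _) hodd
    by_contra hc
    exact hno (exists_cycle h V hV (mem_top m) hm hc)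
  haveI hnor : (cr (⊤ : Subgroup G)).Normal :=
    normalizer_eq_top_iff.1 (eq_top_iff.2 fun m _ =>
      normalizer_le_normalizer_cr ⊤ (le_normalizer (mem_top m)))
  rcases IsSimpleGroup.eq_bot_or_eq_top_of_normal _ hnor with e | e
  · rw [e, mem_bot] at hmem
    have := orderOf_dvd_of_pow_eq_one hmem
    rw [hg] at this
    have := Nat.le_of_dvd (by norm_num) this
    have := h.prime.two_le
    omega
  · have := odd_card_cr (⊤ : Subgroup G)
    rw [e, card_top] at this
    refine this.not_two_dvd_nat (dvd_trans ?_ (Subgroup.card_subgroup_dvd_card (V : Subgroup G)))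
    rw [hV]; norm_num

/-- The Brauer–Suzuki–Wall configuration. -/
theorem four_case [IsSimpleGroup G] (hex : ∃ g : G, orderOf g = 2 * q) :
    ∃ (F : Type) (_ : Field F) (_ : Fintype F), Odd (Fintype.card F) ∧
      Nonempty (G ≃* Matrix.ProjectiveSpecialLinearGroup (Fin 2) F) := by
  haveI := Fact.mk h.prime
  haveI : Fact (Nat.Prime 2) := ⟨Nat.prime_two⟩
  have hV2 := h.sylow_sq V
  obtain ⟨a, b, ha, hb, ha1, hb1, hab, σ, -, hσn, s1, s2⟩ := exists_cycle_top h V hV hex
  have hc := comm_of_sq hV2 ha hb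
  have hb2 : b * b = 1 := by rw [← pow_two]; exact hV2 b hb
  have ha2 : a * a = 1 := by rw [← pow_two]; exact hV2 a ha
  have hd : a * b ∈ (V : Subgroup G) := mul_mem ha hb
  have hd1 : a * b ≠ 1 := fun e => hab (by
    rw [eq_inv_of_mul_eq_one_left e, inv_eq_iff_mul_eq_one, hb2])
  have s3 : σ * (a * b) * σ⁻¹ = a := by
    rw [show σ * (a * b) * σ⁻¹ = (σ * a * σ⁻¹) * (σ * b * σ⁻¹) by group, s1, s2, hc, ← mul_assoc,
      hb2, one_mul]
  -- transport along the cycle
  have tr : ∀ x ∈ (V : Subgroup G), x ≠ 1 → ∀ y, σ * x * σ⁻¹ = y →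
      (th x).map (MulAut.conj σ).toMonoidHom ≤ th y := by
    rintro x hx hx1 y rfl _ ⟨z, hz, rfl⟩
    exact conj_th h V hV hx hx1 hσn hz
  have hall : ∀ {M : Subgroup G}, th a ≤ M → th b ≤ M → th (a * b) ≤ M →
      ∀ x ∈ (V : Subgroup G), x ≠ 1 → th x ≤ M := by
    intro M h1 h2 h3 x hx hx1
    rcases mem_four hV hV2 ha hb ha1 hb1 hab x hx with i | i | i | i
    · exact absurd i hx1
    all_goals subst i; assumption
  -- some odd part is nontrivial
  have hth : th a ≠ ⊥ := by
    intro he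
    have hbot : ∀ x ∈ (V : Subgroup G), x ≠ 1 → th x = ⊥ := by
      have hd' : th (a * b) = ⊥ := by
        refine eq_bot_iff.2 fun z hz => ?_
        have := tr (a * b) hd hd1 a s3 ⟨z, hz, rfl⟩
        rw [he, mem_bot] at this
        rw [mem_bot]
        exact conj_eq_one_iff.1 this
      have hb' : th b = ⊥ := by
        refine eq_bot_iff.2 fun z hz => ?_
        have := tr b hb hb1 (a * b) s2 ⟨z, hz, rfl⟩
        rw [hd', mem_bot] at this
        rw [mem_bot]
        exact conj_eq_one_iff.1 this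
      intro x hx hx1
      rcases mem_four hV hV2 ha hb ha1 hb1 hab x hx with i | i | i | i
      · exact absurd i hx1
      all_goals subst i; assumption
    obtain ⟨g, hg⟩ := hex
    have hi : orderOf (g ^ q) = 2 := by
      rw [orderOf_pow' g h.prime.ne_zero, hg, Nat.gcd_eq_right (dvd_mul_left q 2),
        Nat.mul_div_cancel _ h.prime.pos]
    obtain ⟨P, hP⟩ := (IsPGroup.of_card (n := 1) (by rw [Nat.card_zpowers, hi, pow_one]) :
      IsPGroup 2 ↥(zpowers (g ^ q))).exists_le_sylow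
    obtain ⟨c, hc'⟩ := MulAction.exists_smul_eq G P V
    have hxV : c * g ^ q * c⁻¹ ∈ (V : Subgroup G) := by
      rw [← hc']
      exact ⟨g ^ q, hP (mem_zpowers _), rfl⟩
    have hx1 : c * g ^ q * c⁻¹ ≠ 1 := fun e => by
      rw [conj_eq_one_iff] at e
      rw [e, orderOf_one] at hi
      norm_num at hi
    have hy : c * g ^ 2 * c⁻¹ ∈ th (c * g ^ q * c⁻¹) := by
      refine mem_th h V hV hxV hx1 ?_ ?_
      · calc c * g ^ 2 * c⁻¹ * (c * g ^ q * c⁻¹) = c * (g ^ 2 * g ^ q) * c⁻¹ := by group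
          _ = c * (g ^ q * g ^ 2) * c⁻¹ := by rw [← pow_add, ← pow_add, add_comm]
          _ = _ := by group
      · rw [← MulAut.conj_apply, MulEquiv.orderOf_eq, orderOf_pow' g (by norm_num), hg,
          Nat.gcd_eq_right (dvd_mul_right 2 q), Nat.mul_div_cancel_left q (by norm_num)]
        exact h.prime.odd_of_ne_two h.ne_two
    rw [hbot _ hxV hx1, mem_bot, conj_eq_one_iff] at hy
    have := orderOf_dvd_of_pow_eq_one hy
    rw [hg] at this
    have := Nat.le_of_dvd (by norm_num) this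
    have := h.prime.two_le
    omega
  have hnobig : ∀ {M : Subgroup G}, IsPGroup q ↥M → th a ≤ M → th b ≤ M → th (a * b) ≤ M → False :=
    fun hM h1 h2 h3 => hth (no_big h V hV hM (hall h1 h2 h3) a ha ha1)
  have hInv : ∀ x ∈ (V : Subgroup G), x ≠ 1 → Inv q (V : Subgroup G) (th x) := fun x hx hx1 =>
    ⟨isPGroup_th h (orderOf_two_of_sq hV2 hx hx1), sylow_le_normalizer_th h V hV hx⟩
  obtain ⟨Ma, hMa, hMax⟩ := exists_invMax (hInv a ha ha1)
  have hQM : ∀ {M : Subgroup G} {x : G}, x ∈ (V : Subgroup G) → x ≠ 1 → th x ≤ M →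
      ∀ y ∈ centralizer ((V : Subgroup G) : Set G), Odd (orderOf y) → y ∈ M :=
    fun hx hx1 hle y hy ho => hle (fixed_mem_th h V hV hx hx1 hy ho)
  -- `C(V)` has trivial odd part
  have hQ0 : ∀ y ∈ centralizer ((V : Subgroup G) : Set G), Odd (orderOf y) → y = 1 := by
    intro y hy ho
    by_contra hy1
    have : ∀ x ∈ (V : Subgroup G), x ≠ 1 → th x ≤ Ma := by
      intro x hx hx1
      obtain ⟨Mx, hMx, hMxmax⟩ := exists_invMax (hInv x hx hx1)
      refine hMx.trans (le_of_eq (invMax_eq h V hV hMxmax hMax ?_ fun z hz hzo =>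
        ⟨hQM hx hx1 hMx z hz hzo, hQM ha ha1 hMa z hz hzo⟩))
      intro e
      exact hy1 ((mem_bot).1 (e ▸ (⟨hQM hx hx1 hMx y hy ho, hQM ha ha1 hMa y hy ho⟩ :
        y ∈ Mx ⊓ Ma)))
    exact hnobig hMax.1.1 (this a ha ha1) (this b hb hb1) (this _ hd hd1)
  have heq : ∀ {M₁ M₂ : Subgroup G}, InvMax q (V : Subgroup G) M₁ → InvMax q (V : Subgroup G) M₂ →
      ∀ z ∈ M₁, z ∈ M₂ → z ≠ 1 → M₁ = M₂ := fun h1 h2 z hz1 hz2 hz =>
    invMax_eq h V hV h1 h2 (fun e => hz (mem_bot.1 (e ▸ mem_inf.2 ⟨hz1, hz2⟩)))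
      fun y hy ho => by rw [hQ0 y hy ho]; exact one_mem _
  have hmapMax : InvMax q (V : Subgroup G) (Ma.map (MulAut.conj σ).toMonoidHom) := by
    have hVmap : ∀ {g : G}, g ∈ normalizer ((V : Subgroup G) : Set G) → ∀ {M : Subgroup G},
        Inv q (V : Subgroup G) M → Inv q (V : Subgroup G) (M.map (MulAut.conj g).toMonoidHom) := by
      intro g hg M hM
      refine ⟨hM.1.map _, fun v hv => mem_normalizer_iff_map_conj_eq.2 ?_⟩
      have hv' : g⁻¹ * v * g ∈ normalizer (M : Set G) := hM.2 (by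
        simpa using conj_mem_of_normalizer (inv_mem hg) hv)
      rw [Subgroup.map_map]
      conv_rhs => rw [← mem_normalizer_iff_map_conj_eq.1 hv', Subgroup.map_map]
      congr 1
      ext z
      simp [MulAut.conj_apply, mul_assoc]
    refine ⟨hVmap hσn hMax.1, fun M' hM' hle => ?_⟩
    have h1 := hMax.2 _ (hVmap (inv_mem hσn) hM') (fun z hz =>
      ⟨σ * z * σ⁻¹, hle ⟨z, hz, rfl⟩, by simp [mul_assoc]⟩)
    rw [← h1, Subgroup.map_map]
    conv_lhs => rw [← Subgroup.map_id M']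
    congr 1
    ext z
    simp [MulAut.conj_apply, mul_assoc]
  have hMb : Ma ⊓ th b = ⊥ := by
    by_contra hne
    obtain ⟨z, hz, hz1⟩ := (Subgroup.bot_or_exists_ne_one _).resolve_left hne
    obtain ⟨Mb, hMb, hMbmax⟩ := exists_invMax (hInv b hb hb1)
    have e1 : Ma = Mb := heq hMax hMbmax z hz.1 (hMb hz.2) hz1
    obtain ⟨w, hw, hw1⟩ := (Subgroup.bot_or_exists_ne_one _).resolve_left hth
    have e2 : Ma.map (MulAut.conj σ).toMonoidHom = Mb :=
      heq hmapMax hMbmax _ ⟨w, hMa hw, rfl⟩ (hMb (tr a ha ha1 b s1 ⟨w, hw, rfl⟩))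
        (fun e => hw1 (conj_eq_one_iff.1 e))
    refine hnobig hMax.1.1 hMa (e1 ▸ hMb) fun y hy => ?_
    have hy' : σ⁻¹ * y * σ ∈ th b := by
      have := conj_th h V hV hd hd1 (inv_mem hσn) hy
      have e : σ⁻¹ * (a * b) * σ⁻¹⁻¹ = b := by rw [← s2]; group
      rw [e, inv_inv] at this
      exact this
    rw [e1, ← e2]
    exact ⟨σ⁻¹ * y * σ, e1 ▸ hMb hy', by simp [mul_assoc]⟩
  have hMd : Ma ⊓ th (a * b) = ⊥ := by
    by_contra hne
    obtain ⟨z, hz, hz1⟩ := (Subgroup.bot_or_exists_ne_one _).resolve_left hne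
    obtain ⟨Md, hMd, hMdmax⟩ := exists_invMax (hInv _ hd hd1)
    have e1 : Ma = Md := heq hMax hMdmax z hz.1 (hMd hz.2) hz1
    obtain ⟨w, hw, hw1⟩ := (Subgroup.bot_or_exists_ne_one _).resolve_left hth
    have hw' : σ⁻¹ * w * σ ∈ th (a * b) := by
      have := conj_th h V hV ha ha1 (inv_mem hσn) hw
      have e : σ⁻¹ * a * σ⁻¹⁻¹ = a * b := by rw [inv_inv]; nth_rewrite 1 [← s3]; group
      rw [e, inv_inv] at this
      exact this
    have e2 : Ma.map (MulAut.conj σ).toMonoidHom = Ma :=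
      heq hmapMax hMax w ⟨σ⁻¹ * w * σ, e1 ▸ hMd hw', by simp [mul_assoc]⟩ (hMa hw) hw1
    refine hnobig hMax.1.1 hMa (fun y hy => ?_) (e1 ▸ hMd)
    have hy' : σ⁻¹ * y * σ ∈ th a := by
      have := conj_th h V hV hb hb1 (inv_mem hσn) hy
      have e : σ⁻¹ * b * σ⁻¹⁻¹ = a := by rw [← s1]; group
      rw [e, inv_inv] at this
      exact this
    rw [← e2]
    exact ⟨σ⁻¹ * y * σ, hMa hy', by simp [mul_assoc]⟩
  have hmax_a : InvMax q (V : Subgroup G) (th a) := by
    have : Ma = th a := by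
      refine le_antisymm ((le_th_sup h V hV hMax.1).trans (iSup₂_le fun x hx => ?_)) hMa
      rcases mem_four hV hV2 ha hb ha1 hb1 hab x hx.1 with i | i | i | i
      · exact absurd i hx.2
      · subst i; exact inf_le_right
      · subst i; rw [hMb]; exact bot_le
      · subst i; rw [hMd]; exact bot_le
    exact this ▸ hMax
  have hTq : IsPGroup q ↥(th a) := hmax_a.1.1
  -- `b` inverts `th a`
  have hbN : b ∈ normalizer (th a : Set G) := hmax_a.1.2 hb
  have hfpf : ∀ z ∈ th a, b * z = z * b → z = 1 := by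
    intro z hz hzb
    refine hQ0 z (mem_centralizer_iff.2 fun v hv => ?_) (odd_orderOf_of_isPGroup h hTq hz)
    have hza := mem_C.1 (th_le a hz)
    rcases mem_four hV hV2 ha hb ha1 hb1 hab v hv with i | i | i | i <;> subst i
    · rw [one_mul, mul_one]
    · exact hza.symm
    · exact hzb
    · rw [mul_assoc, hzb, ← mul_assoc, ← hza, mul_assoc]
  have hinv : ∀ z ∈ th a, b * z * b⁻¹ = z⁻¹ := by
    let φ : ↥(th a) →* ↥(th a) :=
      MonoidHom.mk' (fun z => ⟨b * z * b⁻¹, conj_mem_of_normalizer hbN z.2⟩) fun x y =>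
        Subtype.ext (by simp [mul_assoc])
    have hF : MonoidHom.FixedPointFree φ := fun z hz => by
      have hz' : b * z * b⁻¹ = z := congrArg Subtype.val hz
      exact Subtype.ext (hfpf z z.2 (mul_inv_eq_iff_eq_mul.1 hz'))
    have hI : Function.Involutive φ := fun z => Subtype.ext (by
      show b * (b * z * b⁻¹) * b⁻¹ = z
      calc b * (b * z * b⁻¹) * b⁻¹ = b * b * z * (b * b)⁻¹ := by group
        _ = z := by rw [hb2]; group)
    intro z hz
    exact congrArg Subtype.val (congrFun (hF.coe_eq_inv_of_involutive hI) ⟨z, hz⟩)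
  have hTcomm : ∀ x ∈ th a, ∀ y ∈ th a, x * y = y * x := by
    intro x hx y hy
    have h1 := hinv (x * y) (mul_mem hx hy)
    rw [show b * (x * y) * b⁻¹ = (b * x * b⁻¹) * (b * y * b⁻¹) by group, hinv x hx, hinv y hy,
      mul_inv_rev] at h1
    calc x * y = (y⁻¹ * x⁻¹)⁻¹ := by group
      _ = (x⁻¹ * y⁻¹)⁻¹ := by rw [h1]
      _ = y * x := by group
  have hsq : ∀ z ∈ th a, z = z⁻¹ → z = 1 := fun z hz e => by
    obtain ⟨k, hk⟩ := h.prime.odd_of_ne_two h.ne_two
    have h2 : z ^ 2 = 1 := by rw [pow_two]; nth_rewrite 2 [e]; group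
    have := h.pow_q hTq hz
    rwa [hk, pow_succ, pow_mul, h2, one_pow, one_mul] at this
  have hcoset : ∀ v ∈ (V : Subgroup G), ∀ z ∈ th a, z ≠ 1 → v * z = z * v → v = 1 ∨ v = a := by
    intro v hv z hz hz1 hvz
    have hza := mem_C.1 (th_le a hz)
    rcases mem_four hV hV2 ha hb ha1 hb1 hab v hv with i | i | i | i
    · exact Or.inl i
    · exact Or.inr i
    · subst i
      exact absurd (hsq z hz (by rw [← hinv z hz, hvz]; group)) hz1
    · subst i
      exfalso
      refine hz1 (hsq z hz ?_)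
      calc z = (a * b) * z * (a * b)⁻¹ := by rw [hvz]; group
        _ = a * (b * z * b⁻¹) * a⁻¹ := by group
        _ = z⁻¹ := by
          rw [hinv z hz]
          have := mem_C.1 (th_le a (inv_mem hz))
          rw [← this]; group
  have hV1 : (V : Subgroup G) ≠ ⊥ := fun e => by rw [e, card_bot] at hV; norm_num at hV
  have hD : Nonempty (↥(V : Subgroup G) ≃* DihedralGroup 2) := by
    haveI := isKlein h V hV
    exact IsKleinFour.nonempty_mulEquiv
  have hzc : zpowers a ≤ (V : Subgroup G) ⊓ centralizer (th a : Set G) :=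
    zpowers_le.2 ⟨ha, mem_centralizer_iff.2 fun z hz => mem_C.1 (th_le a hz)⟩
  refine CfsgLib.Characterizations.BSW.psl_of_dihedral V 2 le_rfl hD a
    (orderOf_two_of_sq hV2 ha ha1) ha (fun s hs => comm_of_sq hV2 hs ha) (th a) rfl ?_ ?_ ?_
  · intro _
    obtain ⟨z, hz, hz1⟩ := (Subgroup.bot_or_exists_ne_one _).resolve_left hth
    have heq2 : (V : Subgroup G) ⊓ centralizer (th a : Set G) = zpowers a := by
      refine le_antisymm (fun v hv => ?_) hzc
      rcases hcoset v hv.1 z hz hz1 (mem_centralizer_iff.1 hv.2 z hz).symm with e | e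
      · rw [e]; exact one_mem _
      · rw [e]; exact mem_zpowers a
    rw [heq2]
    refine ⟨inferInstance, ?_⟩
    have h1 := Subgroup.relIndex_mul_index (show zpowers a ≤ (V : Subgroup G) from zpowers_le.2 ha)
    have h2 := card_mul_index (zpowers a)
    have h3 := card_mul_index (V : Subgroup G)
    rw [Nat.card_zpowers, orderOf_two_of_sq hV2 ha ha1] at h2
    rw [hV] at h3
    have h4 : 0 < (V : Subgroup G).index := Nat.pos_of_ne_zero index_ne_zero_of_finite
    nlinarith
  · intro s hs hns y hy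
    rcases mem_four hV hV2 ha hb ha1 hb1 hab s hs with i | i | i | i
    · exact absurd (i ▸ one_mem _) hns
    · exact absurd (i ▸ (hzc (mem_zpowers a)).2) hns
    · subst i; exact hinv y hy
    · subst i
      calc a * b * y * (a * b)⁻¹ = a * (b * y * b⁻¹) * a⁻¹ := by group
        _ = y⁻¹ := by
          rw [hinv y hy, ← mem_C.1 (th_le a (inv_mem hy))]; group
  · intro Y hY hY1
    obtain ⟨y, hyY, hy⟩ := CfsgLib.LocalEven.StronglyEmbedded.exists_order_p (hTq.to_le hY) hY1
    set C := centralizer (Y : Set G)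
    have hy1 : y ≠ 1 := fun e => by rw [e, orderOf_one] at hy; exact h.prime.ne_one hy.symm
    have hCy : C ≤ centralizer ({y} : Set G) := centralizer_le (Set.singleton_subset_iff.2 hyY)
    have haC : a ∈ C := mem_centralizer_iff.2 fun z hz => mem_C.1 (th_le a (hY hz))
    -- every involution of `C` commuting with `a` equals `a`
    have hinvol : ∀ i ∈ C, i * a = a * i → i ^ 2 = 1 → i ≠ 1 → i = a := by
      intro i hi hia hi2 hi1
      have hVCa := sylow_le_centralizer h V hV ha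
      have hp : IsPGroup 2 ↥(zpowers (⟨i, mem_C.2 hia⟩ : centralizer ({a} : Set G))) := by
        obtain ⟨j, -, hj⟩ := (Nat.dvd_prime_pow Nat.prime_two).1
          (show orderOf (⟨i, mem_C.2 hia⟩ : centralizer ({a} : Set G)) ∣ 2 ^ 1 by
            rw [pow_one]; exact orderOf_dvd_of_pow_eq_one (Subtype.ext hi2))
        exact IsPGroup.of_card (n := j) (by rw [Nat.card_zpowers, hj])
      obtain ⟨T, hT⟩ := hp.exists_le_sylow
      obtain ⟨c, hc'⟩ := MulAction.exists_smul_eq ↥(centralizer ({a} : Set G)) T (V.subtype hVCa)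
      have hiV : (c : G) * i * (c : G)⁻¹ ∈ (V : Subgroup G) := by
        have : c * ⟨i, mem_C.2 hia⟩ * c⁻¹ ∈
            ((V.subtype hVCa : Sylow 2 _) : Subgroup ↥(centralizer ({a} : Set G))) := by
          rw [← hc']
          exact ⟨_, hT (mem_zpowers _), rfl⟩
        exact mem_subgroupOf.1 this
      have hzT := conj_mem_of_normalizer (centralizer_le_normalizer_th a c.2) (hY hyY)
      have hz1 : (c : G) * y * (c : G)⁻¹ ≠ 1 := fun e => hy1 (conj_eq_one_iff.1 e)
      have hiy : y * i = i * y := mem_centralizer_iff.1 hi y hyY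
      rcases hcoset _ hiV _ hzT hz1 (by
        calc (c : G) * i * (c : G)⁻¹ * ((c : G) * y * (c : G)⁻¹) = c * (i * y) * (c : G)⁻¹ := by
              group
          _ = c * (y * i) * (c : G)⁻¹ := by rw [hiy]
          _ = _ := by group) with e | e
      · exact absurd (conj_eq_one_iff.1 e) hi1
      · have hca : (c : G)⁻¹ * a * c = a := by
          have := mem_C.1 c.2
          rw [mul_assoc, ← this]; group
        calc i = (c : G)⁻¹ * ((c : G) * i * (c : G)⁻¹) * c := by group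
          _ = a := by rw [e, hca]
    -- the Sylow subgroup of `C` is `⟨a⟩`
    have hap : IsPGroup 2 ↥(zpowers (⟨a, haC⟩ : C)) :=
      IsPGroup.of_card (n := 1) (by
        rw [Nat.card_zpowers, Subgroup.orderOf_mk, orderOf_two_of_sq hV2 ha ha1, pow_one])
    obtain ⟨T, hT⟩ := hap.exists_le_sylow
    have hTsq : ∀ u ∈ (T : Subgroup C), u ^ 2 = 1 := by
      intro u hu
      obtain ⟨U, hU⟩ := (T.isPGroup'.map C.subtype).exists_le_sylow
      exact Subtype.ext (h.sylow_sq U u (hU ⟨u, hu, rfl⟩))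
    have hTa : ∀ u ∈ (T : Subgroup C), u = 1 ∨ (u : G) = a := by
      intro u hu
      by_cases hu1 : u = 1
      · exact Or.inl hu1
      refine Or.inr (hinvol u u.2 ?_ (congrArg Subtype.val (hTsq u hu))
        fun e => hu1 (Subtype.ext e))
      exact congrArg Subtype.val (comm_of_sq hTsq hu (hT (mem_zpowers _)))
    have hTn : normalizer ((T : Subgroup C) : Set C) ≤ centralizer ((T : Subgroup C) : Set C) := by
      intro m hm
      refine mem_centralizer_iff.2 fun u hu => ?_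
      rcases hTa _ ((mem_normalizer_iff.1 hm u).1 hu) with e | e
      · rw [conj_eq_one_iff.1 e, one_mul, mul_one]
      · rcases hTa u hu with e' | e'
        · rw [e', one_mul, mul_one]
        · have : m * u * m⁻¹ = u := Subtype.ext (e.trans e'.symm)
          exact (mul_inv_eq_iff_eq_mul.1 this).symm
    obtain ⟨hK1, hK2⟩ := cr_of_npc T hTn
    have hTC : th a ≤ C := fun z hz => mem_centralizer_iff.2 fun w hw => hTcomm w (hY hw) z hz
    have hVN : (V : Subgroup G) ≤ normalizer (C : Set G) := by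
      intro v hv
      refine mem_normalizer_iff.2 fun w => ?_
      have hconjY : ∀ z ∈ Y, v * z * v⁻¹ = z ∨ v * z * v⁻¹ = z⁻¹ := by
        intro z hz
        have hza := mem_C.1 (th_le a (hY hz))
        rcases mem_four hV hV2 ha hb ha1 hb1 hab v hv with i | i | i | i <;> subst i
        · left; group
        · left; rw [← hza]; group
        · right; exact hinv z (hY hz)
        · right
          calc a * b * z * (a * b)⁻¹ = a * (b * z * b⁻¹) * a⁻¹ := by group
            _ = z⁻¹ := by rw [hinv z (hY hz), ← mem_C.1 (th_le a (inv_mem (hY hz)))]; group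
      have hvv : v⁻¹ = v := inv_eq_of_mul_eq_one_right (by rw [← pow_two, hV2 v hv])
      have key : ∀ w ∈ C, v * w * v⁻¹ ∈ C := by
        intro w hw
        refine mem_centralizer_iff.2 fun z hz => ?_
        obtain ⟨z', hz', e'⟩ : ∃ z' ∈ Y, v * z' * v⁻¹ = z := by
          rcases hconjY z hz with e | e
          · exact ⟨z, hz, e⟩
          · refine ⟨z⁻¹, inv_mem hz, ?_⟩
            rw [show v * z⁻¹ * v⁻¹ = (v * z * v⁻¹)⁻¹ by group, e, inv_inv]
        rw [← e']
        calc v * z' * v⁻¹ * (v * w * v⁻¹) = v * (z' * w) * v⁻¹ := by group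
          _ = v * (w * z') * v⁻¹ := by rw [mem_centralizer_iff.1 hw z' hz']
          _ = _ := by group
      refine ⟨key w, fun hw => ?_⟩
      have := key _ hw
      rw [hvv] at this
      rwa [show v * (v * w * v) * v = (v * v) * w * (v * v) by group, ← pow_two, hV2 v hv,
        one_mul, mul_one] at this
    have hR : cr C = th a := by
      refine hmax_a.2 _ ⟨h.isPGroup_q ((cr_le C).trans hCy) (odd_card_cr C)
        (h.primeFactors_centralizer_q hy), hVN.trans (normalizer_le_normalizer_cr C)⟩ fun z hz =>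
        hK1 z (hTC hz) (odd_orderOf_of_isPGroup h hTq hz)
    have hacent : ∀ w ∈ C, w * a = a * w := by
      intro w hw
      have hr : a * w * a⁻¹ * w⁻¹ ∈ th a := hR ▸ hK2 a haC w hw
      obtain ⟨r, hr'⟩ : ∃ r, r = a * w * a⁻¹ * w⁻¹ := ⟨_, rfl⟩
      rw [← hr'] at hr
      have har := mem_C.1 (th_le a hr)
      have hai : a⁻¹ = a := inv_eq_of_mul_eq_one_right ha2
      have h1 : w = r * r * w := by
        calc w = (a * a) * w * (a * a)⁻¹ := by rw [ha2]; group
          _ = a * ((a * w * a⁻¹ * w⁻¹) * w) * a⁻¹ := by group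
          _ = a * (r * w) * a⁻¹ := by rw [← hr']
          _ = (a * r) * w * a⁻¹ := by group
          _ = (r * a) * w * a⁻¹ := by rw [har]
          _ = r * ((a * w * a⁻¹ * w⁻¹) * w) := by group
          _ = r * r * w := by rw [← hr', mul_assoc]
      have hr1 : r = 1 := hsq r hr (eq_inv_of_mul_eq_one_left (right_eq_mul.1 h1))
      rw [hr'] at hr1
      exact (mul_inv_eq_iff_eq_mul.1 (mul_inv_eq_one.1 hr1)).symm
    intro m hm
    refine mem_C.2 ?_
    have hconj : m * a * m⁻¹ ∈ C := by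
      refine mem_centralizer_iff.2 fun z hz => ?_
      have hz' := (mem_normalizer_iff.1 (inv_mem hm) z).1 hz
      rw [inv_inv] at hz'
      have h1 := mem_centralizer_iff.1 haC _ hz'
      calc z * (m * a * m⁻¹) = m * ((m⁻¹ * z * m) * a) * m⁻¹ := by group
        _ = m * (a * (m⁻¹ * z * m)) * m⁻¹ := by rw [h1]
        _ = m * a * m⁻¹ * z := by group
    have hma : m * a * m⁻¹ = a := by
      refine hinvol _ hconj (hacent _ hconj) ?_ fun e => ha1 (conj_eq_one_iff.1 e)
      rw [pow_two, show m * a * m⁻¹ * (m * a * m⁻¹) = m * (a * a) * m⁻¹ by group, ha2]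
      group
    exact mul_inv_eq_iff_eq_mul.1 hma

end Four

end CfsgLib.Recognition.OneComposite
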