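import Cfsg.Agent.Lib.Recognition.OneComposite.Large
import Cfsg.Agent.Lib.Solvable.Basic
import Mathlib.GroupTheory.IndexNormal
import Mathlib.NumberTheory.Fermat

/-!
Groups of odd order transitive on the involutions of the Sylow 2-subgroup.
-/

set_option autoImplicit false
set_option linter.unusedSectionVars false

open Subgroup

namespace CfsgLib.Recognition.OneComposite

universe u

variable {G : Type u} [Group G] [Finite G] {q : ℕ}

theorem prod_conj_eq_one {S : Subgroup G} (hS2 : ∀ x ∈ S, x ^ 2 = 1) {g : G} {m : ℕ}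
    (hg : g ∈ normalizer (S : Set G)) (hgm : g ^ m = 1)
    (hfpf : ∀ v ∈ S, g * v = v * g → v = 1) (w : ↥S) :
    letI : CommGroup ↥S := { S.toGroup with
      mul_comm := fun a b => Subtype.ext (comm_of_sq hS2 a.2 b.2) }
    ∏ j ∈ Finset.range m,
      (⟨g ^ j * w * (g ^ j)⁻¹, conj_mem_of_normalizer (pow_mem hg j) w.2⟩ : ↥S) = 1 := by
  letI : CommGroup ↥S := { S.toGroup with
    mul_comm := fun a b => Subtype.ext (comm_of_sq hS2 a.2 b.2) }
  show ∏ j ∈ Finset.range m,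
      (⟨g ^ j * w * (g ^ j)⁻¹, conj_mem_of_normalizer (pow_mem hg j) w.2⟩ : ↥S) = 1
  set f : ℕ → ↥S := fun j => ⟨g ^ j * w * (g ^ j)⁻¹, conj_mem_of_normalizer (pow_mem hg j) w.2⟩
    with hf
  let φ : ↥S →* ↥S := MonoidHom.mk'
    (fun z => ⟨g * z * g⁻¹, conj_mem_of_normalizer hg z.2⟩)
    fun x y => Subtype.ext (by simp [mul_assoc])
  have hstep : ∀ j, φ (f j) = f (j + 1) := fun j => Subtype.ext (by
    show g * (g ^ j * w * (g ^ j)⁻¹) * g⁻¹ = g ^ (j + 1) * w * (g ^ (j + 1))⁻¹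
    rw [pow_succ']; group)
  have h0 : f m = f 0 := Subtype.ext (by
    show g ^ m * w * (g ^ m)⁻¹ = g ^ 0 * w * (g ^ 0)⁻¹
    rw [hgm, pow_zero])
  have hinv : φ (∏ j ∈ Finset.range m, f j) = ∏ j ∈ Finset.range m, f j := by
    rw [map_prod, Finset.prod_congr rfl fun j _ => hstep j]
    have h1 := Finset.prod_range_succ f m
    rw [Finset.prod_range_succ', h0] at h1
    exact mul_right_cancel h1
  refine Subtype.ext (hfpf _ (∏ j ∈ Finset.range m, f j).2 ?_)
  exact mul_inv_eq_iff_eq_mul.1 (congrArg Subtype.val hinv)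

/-- A complement of a Frobenius group fixes a point. -/
theorem frobenius_fixed {S : Subgroup G} (hS2 : ∀ x ∈ S, x ^ 2 = 1) {a x : G} {p r : ℕ}
    (hp : p.Prime) (hp2 : p ≠ 2) (ha : orderOf a = p) (hr : r.Prime) (hx : orderOf x = r)
    (haS : a ∈ normalizer (S : Set G)) (hxS : x ∈ normalizer (S : Set G))
    (hxa : x * a * x⁻¹ ∈ zpowers a) (hnc : x * a ≠ a * x)
    (hfpf : ∀ v ∈ S, a * v = v * a → v = 1) {v : G} (hv : v ∈ S) (hv1 : v ≠ 1) :
    ∃ w ∈ S, w ≠ 1 ∧ x * w = w * x := by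
  by_contra hno
  push Not at hno
  have hxfpf : ∀ w ∈ S, x * w = w * x → w = 1 := fun w hw hc => by_contra fun h => hno w hw h hc
  letI : CommGroup ↥S := { S.toGroup with
    mul_comm := fun u w => Subtype.ext (comm_of_sq hS2 u.2 w.2) }
  let f : ℕ → ℕ → ↥S := fun i j => ⟨(a ^ i * x * (a ^ i)⁻¹) ^ j * v * ((a ^ i * x * (a ^ i)⁻¹) ^ j)⁻¹,
    conj_mem_of_normalizer
      (pow_mem (mul_mem (mul_mem (pow_mem haS i) hxS) (inv_mem (pow_mem haS i))) j) hv⟩
  have hrow : ∀ i, ∏ j ∈ Finset.range r, f i j = 1 := by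
    intro i
    refine prod_conj_eq_one hS2 (mul_mem (mul_mem (pow_mem haS i) hxS) (inv_mem (pow_mem haS i)))
      (by rw [conj_pow, ← hx, pow_orderOf_eq_one]; group) (fun w hw hc => ?_) ⟨v, hv⟩
    have h1 : (a ^ i)⁻¹ * w * a ^ i = 1 := by
      refine hxfpf _ ?_ ?_
      · simpa using conj_mem_of_normalizer (inv_mem (pow_mem haS i)) hw
      · calc x * ((a ^ i)⁻¹ * w * a ^ i) = (a ^ i)⁻¹ * ((a ^ i * x * (a ^ i)⁻¹) * w) * a ^ i := by
              group
          _ = (a ^ i)⁻¹ * (w * (a ^ i * x * (a ^ i)⁻¹)) * a ^ i := by rw [hc]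
          _ = (a ^ i)⁻¹ * w * a ^ i * x := by group
    calc w = a ^ i * ((a ^ i)⁻¹ * w * a ^ i) * (a ^ i)⁻¹ := by group
      _ = 1 := by rw [h1]; group
  have hcol : ∀ j ∈ Finset.range r, j ≠ 0 → ∏ i ∈ Finset.range p, f i j = 1 := by
    intro j hj hj0
    obtain ⟨m, hm⟩ : ∃ m : ℤ, a ^ m = x ^ j * a * (x ^ j)⁻¹ := by
      refine mem_zpowers_iff.1 ?_
      clear hj hj0
      induction j with
      | zero => simp
      | succ j ih =>
        obtain ⟨k, hk⟩ := mem_zpowers_iff.1 ih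
        obtain ⟨l, hl⟩ := mem_zpowers_iff.1 hxa
        refine mem_zpowers_iff.2 ⟨l * k, ?_⟩
        rw [zpow_mul, hl, conj_zpow, hk, pow_succ']
        group
    set g := a ^ (1 - m) with hg
    have hgm : g ^ p = 1 := by
      rw [hg, ← zpow_natCast, ← zpow_mul, mul_comm, zpow_mul, zpow_natCast, ← ha,
        pow_orderOf_eq_one, one_zpow]
    have hne : g ≠ 1 := by
      intro e
      have e1 : a ^ m = a := by
        rw [hg, zpow_sub, zpow_one] at e
        exact (mul_inv_eq_one.1 e).symm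
      rw [e1] at hm
      have hcomm : Commute (x ^ j) a := mul_inv_eq_iff_eq_mul.1 hm.symm
      refine hnc ?_
      obtain ⟨k, hk⟩ : ∃ k : ℕ, (x ^ j) ^ k = x := by
        have hcop : (orderOf x).Coprime j := by
          rw [hx]
          exact (Nat.Prime.coprime_iff_not_dvd hr).2 fun hd =>
            absurd (Nat.le_of_dvd (Nat.pos_of_ne_zero hj0) hd) (not_le.2 (Finset.mem_range.1 hj))
        exact exists_pow_eq_self_of_coprime hcop.symm
      have := (hcomm.pow_left k)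
      rwa [hk] at this
    have hgfpf : ∀ w ∈ S, g * w = w * g → w = 1 := fun w hw hc => by
      refine hfpf w hw ?_
      haveI := Fact.mk hp
      have hgo : orderOf g = p := orderOf_eq_prime hgm hne
      have hz : zpowers g = zpowers a := eq_of_le_of_card_ge (zpowers_le.2 (mem_zpowers_iff.2 ⟨_, rfl⟩))
        (by rw [Nat.card_zpowers, Nat.card_zpowers, hgo, ha])
      obtain ⟨k, hk⟩ := mem_zpowers_iff.1 (hz ▸ mem_zpowers a : a ∈ zpowers g)
      have := (Commute.zpow_left hc k)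
      rwa [hk] at this
    refine (Finset.prod_congr rfl fun i _ => ?_).trans (prod_conj_eq_one hS2
      (g := g) (m := p) (zpow_mem haS _) hgm hgfpf
      ⟨x ^ j * v * (x ^ j)⁻¹, conj_mem_of_normalizer (pow_mem hxS j) hv⟩)
    refine Subtype.ext ?_
    show (a ^ i * x * (a ^ i)⁻¹) ^ j * v * ((a ^ i * x * (a ^ i)⁻¹) ^ j)⁻¹ =
      g ^ i * (x ^ j * v * (x ^ j)⁻¹) * (g ^ i)⁻¹
    have e : (a ^ i * x * (a ^ i)⁻¹) ^ j = g ^ i * x ^ j := by
      rw [conj_pow]
      have h2 : x ^ j * (a ^ i)⁻¹ = (a ^ m) ^ (-(i : ℤ)) * x ^ j := by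
        rw [hm, conj_zpow, zpow_neg, zpow_natCast]; group
      rw [mul_assoc, h2, ← mul_assoc, hg, ← zpow_natCast, ← zpow_mul, ← zpow_add,
        ← zpow_natCast (a ^ (1 - m)) i, ← zpow_mul]
      congr 2
      ring
    rw [e]; group
  have htot : ∏ j ∈ Finset.range r, ∏ i ∈ Finset.range p, f i j = 1 := by
    rw [Finset.prod_comm]
    exact Finset.prod_eq_one fun i _ => hrow i
  rw [Finset.prod_eq_single_of_mem 0 (Finset.mem_range.2 hr.pos) hcol] at htot
  have hconst : ∀ i ∈ Finset.range p, f i 0 = ⟨v, hv⟩ := fun i _ => Subtype.ext (by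
    show (a ^ i * x * (a ^ i)⁻¹) ^ 0 * v * ((a ^ i * x * (a ^ i)⁻¹) ^ 0)⁻¹ = v
    rw [pow_zero, one_mul, inv_one, mul_one])
  rw [Finset.prod_congr rfl hconst, Finset.prod_const, Finset.card_range] at htot
  obtain ⟨k, hk⟩ := hp.odd_of_ne_two hp2
  have : v ^ p = 1 := congrArg Subtype.val htot
  rw [hk, pow_succ, pow_mul, hS2 v hv, one_pow, one_mul] at this
  exact hv1 this

/-- A power of two less one is not a proper prime power. -/
theorem eq_one_of_two_pow {n p i : ℕ} (hn : 2 ≤ n) (h : 2 ^ n = p ^ i + 1) (hp : p.Prime) : i = 1 := by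
  obtain ⟨m, rfl⟩ : ∃ m, n = m + 2 := ⟨n - 2, by omega⟩
  have hi0 : i ≠ 0 := by
    rintro rfl
    rw [pow_zero, pow_add] at h
    have := Nat.one_le_two_pow (n := m)
    omega
  have hpo : p % 2 = 1 := by
    rcases hp.eq_two_or_odd with rfl | h2
    · obtain ⟨j, rfl⟩ : ∃ j, i = j + 1 := ⟨i - 1, by omega⟩
      rw [pow_succ, pow_add] at h
      omega
    · exact h2
  rcases Nat.even_or_odd' i with ⟨j, rfl | rfl⟩
  · exfalso
    have h4 : p ^ (2 * j) % 4 = 1 := by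
      rw [pow_mul, Nat.pow_mod]
      have : p ^ 2 % 4 = 1 := by
        rw [Nat.pow_mod]
        rcases (show p % 4 = 1 ∨ p % 4 = 3 by omega) with e | e <;> rw [e]
      rw [this, one_pow, Nat.one_mod]
    rw [pow_add] at h
    omega
  · by_contra hne
    have hj : 1 ≤ j := by omega
    have hmod : ∀ k, p ^ (2 * k + 1) % (2 * (p + 1)) = p % (2 * (p + 1)) := by
      intro k
      induction k with
      | zero => rw [mul_zero, zero_add, pow_one]
      | succ k ih =>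
        rw [show 2 * (k + 1) + 1 = (2 * k + 1) + 2 by ring, pow_add, Nat.mul_mod, ih, ← Nat.mul_mod]
        obtain ⟨c, hc⟩ : ∃ c, p = 2 * c + 1 := ⟨p / 2, by omega⟩
        have hp2 : p * p ^ 2 = p + (p * c) * (2 * (p + 1)) := by subst hc; ring
        rw [hp2, Nat.add_mul_mod_self_right]
    have h1 := hmod j
    have hlt : p < p ^ (2 * j + 1) :=
      lt_self_pow₀ hp.one_lt (by omega)
    obtain ⟨c, hc⟩ : ∃ c, p ^ (2 * j + 1) = p + c * (2 * (p + 1)) := by
      refine ⟨p ^ (2 * j + 1) / (2 * (p + 1)), ?_⟩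
      have := Nat.div_add_mod (p ^ (2 * j + 1)) (2 * (p + 1))
      rw [h1, Nat.mod_eq_of_lt (show p < 2 * (p + 1) by omega)] at this
      rw [Nat.mul_comm] at this; linarith
    have hd : 2 * c + 1 ∣ 2 ^ (m + 2) := ⟨p + 1, by rw [h, hc]; ring⟩
    obtain ⟨k, -, hk⟩ := (Nat.dvd_prime_pow Nat.prime_two).1 hd
    rcases Nat.eq_zero_or_pos k with rfl | hk0
    · rw [pow_zero] at hk
      have : c = 0 := by omega
      subst this
      omega
    · have : 2 ∣ 2 * c + 1 := hk ▸ dvd_pow_self 2 hk0.ne'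
      omega

variable [IsSimpleGroup G] {S : Sylow 2 G}

/-- Orbit counting on `S#`. -/
theorem card_stab {E : Subgroup G} (hle : E ≤ normalizer ((S : Subgroup G) : Set G)) {t : G}
    (ht : t ∈ (S : Subgroup G)) (ht1 : t ≠ 1)
    (htrans : ∀ y ∈ (S : Subgroup G), y ≠ 1 → ∃ e ∈ E, e * t * e⁻¹ = y) :
    Nat.card ↥E = (Nat.card ↥(S : Subgroup G) - 1) *
      Nat.card ↥(E ⊓ centralizer ({t} : Set G)) := by
  classical
  let st : Subgroup ↥E := (centralizer ({t} : Set G)).subgroupOf E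
  have hwd : ∀ e e' : ↥E, (QuotientGroup.leftRel st).r e e' →
      (e : G) * t * (e : G)⁻¹ = (e' : G) * t * (e' : G)⁻¹ := by
    intro e e' hr
    rw [QuotientGroup.leftRel_apply] at hr
    have := mem_C.1 (mem_subgroupOf.1 hr)
    simp only [Subgroup.coe_mul, Subgroup.coe_inv] at this
    calc (e : G) * t * (e : G)⁻¹ = e * (t * ((e : G)⁻¹ * e')) * (e' : G)⁻¹ := by group
      _ = e * ((e : G)⁻¹ * e' * t) * (e' : G)⁻¹ := by rw [this]
      _ = e' * t * (e' : G)⁻¹ := by group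
  let Φ : ↥E ⧸ st → {y : ↥(S : Subgroup G) // y ≠ 1} := fun c =>
    Quotient.liftOn' c (fun e => ⟨⟨(e : G) * t * (e : G)⁻¹, conj_mem_of_normalizer (hle e.2) ht⟩,
        fun h => ht1 (conj_eq_one_iff.1 (congrArg Subtype.val h))⟩)
      fun e e' hr => Subtype.ext (Subtype.ext (hwd e e' hr))
  have hbij : Function.Bijective Φ := by
    constructor
    · intro c c'
      refine Quotient.inductionOn₂' c c' fun e e' heq => ?_
      have h1 : (e : G) * t * (e : G)⁻¹ = (e' : G) * t * (e' : G)⁻¹ :=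
        congrArg (fun y => ((y.1 : ↥(S : Subgroup G)) : G)) heq
      refine Quotient.sound' (QuotientGroup.leftRel_apply.2 (mem_subgroupOf.2 (mem_C.2 ?_)))
      simp only [Subgroup.coe_mul, Subgroup.coe_inv]
      calc (e : G)⁻¹ * e' * t = (e : G)⁻¹ * ((e' : G) * t * (e' : G)⁻¹) * e' := by group
        _ = t * ((e : G)⁻¹ * e') := by rw [← h1]; group
    · rintro ⟨⟨y, hy⟩, hy1⟩
      obtain ⟨e, he, rfl⟩ := htrans y hy fun h => hy1 (Subtype.ext h)
      exact ⟨QuotientGroup.mk ⟨e, he⟩, rfl⟩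
  have h2 : Nat.card {y : ↥(S : Subgroup G) // y ≠ 1} = Nat.card ↥(S : Subgroup G) - 1 := by
    haveI := Fintype.ofFinite ↥(S : Subgroup G)
    rw [Nat.card_eq_fintype_card, Nat.card_eq_fintype_card, Fintype.card_subtype_compl,
      Fintype.card_subtype_eq]
  rw [Subgroup.card_eq_card_quotient_mul_card_subgroup st, Nat.card_eq_of_bijective Φ hbij, h2]
  congr 1
  rw [show E ⊓ centralizer ({t} : Set G) = centralizer ({t} : Set G) ⊓ E from inf_comm _ _,
    ← subgroupOf_map_subtype, card_map_of_injective E.subtype_injective]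

/-- The shape of an odd group transitive on `S#` with a nontrivial stabiliser. -/
theorem frame_structure (B : Big G q S) {E : Subgroup G}
    (hle : E ≤ normalizer ((S : Subgroup G) : Set G)) (hodd : Odd (Nat.card ↥E))
    (htrans : ∀ x ∈ (S : Subgroup G), x ≠ 1 → ∀ y ∈ (S : Subgroup G), y ≠ 1 →
      ∃ e ∈ E, e * x * e⁻¹ = y)
    {t c : G} (ht : t ∈ (S : Subgroup G)) (ht1 : t ≠ 1) (hc : c ∈ E) (hc1 : c ≠ 1)
    (hct : c * t = t * c) :
    ∃ (p : ℕ) (a : G), p.Prime ∧ p + 1 = Nat.card ↥(S : Subgroup G) ∧ p ≠ q ∧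
      Nat.card ↥E = p * q ∧ a ∈ E ∧ orderOf a = p ∧ orderOf c = q ∧
      (∀ v ∈ (S : Subgroup G), a * v = v * a → v = 1) ∧ ∀ x ∈ E, x * a * x⁻¹ ∈ zpowers a := by
  haveI : Fact (Nat.Prime 2) := ⟨Nat.prime_two⟩
  haveI := Fact.mk B.hyp.prime
  have hS2 := B.hyp.sylow_sq S
  have hto := orderOf_two_of_sq hS2 ht ht1
  have hpr : ∀ x ∈ E, x ≠ 1 → (orderOf x).Prime ∧ orderOf x ≠ 2 := fun x hx hx1 =>
    B.hyp.orderOf_odd (Odd.of_dvd_nat hodd (Subgroup.orderOf_dvd_natCard E hx)) hx1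
  have hfix : ∀ x ∈ E, x ≠ 1 → ∀ v ∈ (S : Subgroup G), v ≠ 1 → x * v = v * x → orderOf x = q :=
    fun x hx hx1 v hv hv1 hxv => B.hyp.eq_q_of_commute_invol (orderOf_two_of_sq hS2 hv hv1) rfl
      (hpr x hx hx1).1 (hpr x hx hx1).2 hxv.symm
  have hcq : orderOf c = q := hfix c hc hc1 t ht ht1 hct
  haveI hEs : Group.IsSolvable ↥E := Cfsg.Agent.S0205.result hodd
  have htop : (⊤ : Subgroup ↥E) ≠ ⊥ := fun e => hc1 (by
    have := mem_bot.1 (e ▸ mem_top (⟨c, hc⟩ : ↥E))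
    exact congrArg Subtype.val this)
  obtain ⟨N, p₀, hp₀, hNn, hN1, -, hNab, hNp, -⟩ :=
    CfsgLib.Solvable.Basic.exists_minimal_normal_pgroup (H := (⊤ : Subgroup ↥E)) htop
  haveI := Fact.mk hp₀
  set P : Subgroup G := N.map E.subtype with hP
  have hPE : P ≤ E := map_subtype_le N
  have hP1 : P ≠ ⊥ := fun e => hN1 ((map_eq_bot_iff_of_injective N E.subtype_injective).1 e)
  have hPc : ∀ x ∈ P, ∀ y ∈ P, x * y = y * x := by
    rintro _ ⟨x, hx, rfl⟩ _ ⟨y, hy, rfl⟩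
    exact congrArg Subtype.val
      (CfsgLib.Solvable.Basic.isMulCommutative_subgroup_iff.1 hNab x hx y hy)
  have hPn : ∀ e ∈ E, ∀ x ∈ P, e * x * e⁻¹ ∈ P := by
    rintro e he _ ⟨x, hx, rfl⟩
    exact ⟨⟨e, he⟩ * x * ⟨e, he⟩⁻¹, hNn.conj_mem x hx _, rfl⟩
  have hPord : ∀ x ∈ P, x ≠ 1 → orderOf x = p₀ := by
    intro x hx hx1
    obtain ⟨k, hk⟩ := IsPGroup.iff_orderOf.1 (hNp.map E.subtype) ⟨x, hx⟩
    rw [Subgroup.orderOf_mk] at hk
    have h1 := (hpr x (hPE hx) hx1).1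
    rw [hk] at h1
    rw [hk, ((Nat.Prime.pow_eq_iff h1).1 rfl).2, pow_one]
  have hp2 : p₀ ≠ 2 := by
    obtain ⟨x, hx, hx1⟩ := (Subgroup.bot_or_exists_ne_one P).resolve_left hP1
    exact hPord x hx hx1 ▸ (hpr x (hPE hx) hx1).2
  -- no involution of `S` is fixed by `P`
  have hnoP : ∀ v ∈ (S : Subgroup G), (∀ x ∈ P, x * v = v * x) → v = 1 := by
    intro v hv hv'
    by_contra hv1
    obtain ⟨x, hx, hx1⟩ := (Subgroup.bot_or_exists_ne_one P).resolve_left hP1
    refine hx1 (B.eq_one_of_centralizes (mem_centralizer_iff.2 fun y hy => ?_)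
      (Odd.of_dvd_nat hodd (Subgroup.orderOf_dvd_natCard E (hPE hx))))
    rcases eq_or_ne y 1 with rfl | hy1
    · rw [one_mul, mul_one]
    obtain ⟨e, he, rfl⟩ := htrans v hv hv1 y hy hy1
    have h2 := hv' _ (hPn e⁻¹ (inv_mem he) x hx)
    rw [inv_inv] at h2
    calc e * v * e⁻¹ * x = e * (v * (e⁻¹ * x * e)) * e⁻¹ := by group
      _ = e * ((e⁻¹ * x * e) * v) * e⁻¹ := by rw [h2]
      _ = x * (e * v * e⁻¹) := by group
  -- stabilisers in `P`
  let St : G → Subgroup G := fun v => P ⊓ centralizer ({v} : Set G)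
  obtain ⟨a₀, v₀, K, ha₀, hK, hKsup, hv₀, hv₀1, hKv⟩ : ∃ (a₀ v₀ : G) (K : Subgroup G), a₀ ∈ P ∧
      K ≤ P ∧ K ⊔ zpowers a₀ = P ∧ v₀ ∈ (S : Subgroup G) ∧ v₀ ≠ 1 ∧
      ∀ x ∈ K, x * v₀ = v₀ * x := by
    haveI : IsMulCommutative ↥P := ⟨⟨fun x y => Subtype.ext (hPc x x.2 y y.2)⟩⟩
    by_contra hno
    have hcop : (Nat.card ↥P).Coprime (Nat.card ↥(S : Subgroup G)) := by
      obtain ⟨k, hk⟩ := IsPGroup.iff_card.1 (hNp.map E.subtype)
      obtain ⟨l, hl⟩ := IsPGroup.iff_card.1 S.isPGroup'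
      rw [hP, hk, hl]
      exact Nat.Coprime.pow _ _ ((Nat.coprime_primes hp₀ Nat.prime_two).2 hp2)
    refine B.ne_bot (eq_bot_iff.2 ?_)
    conv_lhs => rw [← CfsgLib.Coprime.iSup_centralizer_of_cyclic_quotient (hPE.trans hle) hcop]
    refine iSup₂_le fun K hK v hv => ?_
    rw [mem_bot]
    by_contra hv1
    obtain ⟨hKle, a₀, ha₀, hsup⟩ := hK
    exact hno ⟨a₀, v, K, ha₀, hKle, hsup, hv.1, hv1, fun x hx =>
      (mem_centralizer_iff.1 hv.2 x hx)⟩
  -- hyperplane property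
  have hKmax : ∀ C : Subgroup G, K ≤ C → C ≤ P → ∀ x ∈ C, x ∉ K → C = P := by
    intro C hKC hCP x hx hxK
    refine le_antisymm hCP ?_
    rw [← hKsup]
    refine sup_le hKC (zpowers_le.2 ?_)
    have hn : zpowers a₀ ≤ normalizer (K : Set G) := zpowers_le.2
      (centralizer_le_normalizer _ (mem_centralizer_iff.2 fun y hy => hPc y (hK hy) a₀ ha₀))
    have hx' : x ∈ K ⊔ zpowers a₀ := hKsup.symm ▸ hCP hx
    rw [← SetLike.mem_coe, Subgroup.coe_mul_of_right_le_normalizer_left K (zpowers a₀) hn] at hx'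
    obtain ⟨k, hk, y, hy, rfl⟩ := hx'
    have hyC : y ∈ C := by
      have := C.mul_mem (C.inv_mem (hKC hk)) hx
      rwa [inv_mul_cancel_left] at this
    have hy1 : y ≠ 1 := fun e => hxK (by rw [e]; show k * 1 ∈ K; rw [mul_one]; exact hk)
    have hyP : y ∈ P := zpowers_le.2 ha₀ hy
    have ha1 : a₀ ≠ 1 := fun e => hy1 (by
      rw [e, zpowers_one_eq_bot] at hy; exact mem_bot.1 hy)
    have : zpowers y = zpowers a₀ := eq_of_le_of_card_ge (zpowers_le.2 hy) (by
      rw [Nat.card_zpowers, Nat.card_zpowers, hPord y hyP hy1, hPord a₀ ha₀ ha1])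
    exact zpowers_le.2 hyC (this ▸ mem_zpowers a₀)
  have hStne : ∀ v ∈ (S : Subgroup G), v ≠ 1 → St v ≠ P := fun v hv hv1 e =>
    hv1 (hnoP v hv fun x hx => mem_C.1 (e ▸ hx : x ∈ St v).2)
  have hSt0 : St v₀ = K := by
    refine le_antisymm (fun x hx => ?_) (le_inf hK fun x hx => mem_C.2 (hKv x hx))
    by_contra hxK
    exact hStne v₀ hv₀ hv₀1 (hKmax (St v₀) (le_inf hK fun y hy => mem_C.2 (hKv y hy)) inf_le_left
      x hx hxK)
  have hmax : ∀ v ∈ (S : Subgroup G), v ≠ 1 → ∀ C : Subgroup G, St v ≤ C → C ≤ P →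
      C = St v ∨ C = P := by
    intro v hv hv1 C h1 h2
    obtain ⟨e, he, rfl⟩ := htrans v₀ hv₀ hv₀1 v hv hv1
    by_cases hC : C ≤ St (e * v₀ * e⁻¹)
    · exact Or.inl (le_antisymm hC h1)
    refine Or.inr (le_antisymm h2 fun y hy => ?_)
    obtain ⟨x, hx, hxn⟩ := SetLike.not_le_iff_exists.1 hC
    let C' : Subgroup G := C.comap (MulAut.conj e).toMonoidHom
    have hC'P : C' ≤ P := fun z hz => by
      have := hPn e⁻¹ (inv_mem he) _ (h2 hz)
      simpa [mul_assoc] using this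
    have hKC' : K ≤ C' := fun z hz => by
      refine h1 ⟨hPn e he z (hK hz), mem_C.2 ?_⟩
      show e * z * e⁻¹ * (e * v₀ * e⁻¹) = e * v₀ * e⁻¹ * (e * z * e⁻¹)
      calc e * z * e⁻¹ * (e * v₀ * e⁻¹) = e * (z * v₀) * e⁻¹ := by group
        _ = e * (v₀ * z) * e⁻¹ := by rw [hKv z hz]
        _ = _ := by group
    have hxC' : e⁻¹ * x * e ∈ C' := by
      show e * (e⁻¹ * x * e) * e⁻¹ ∈ C
      simpa [mul_assoc] using hx
    have hxK : e⁻¹ * x * e ∉ K := fun hz => hxn ⟨h2 hx, mem_C.2 (by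
      have h3 := hKv _ hz
      calc x * (e * v₀ * e⁻¹) = e * ((e⁻¹ * x * e) * v₀) * e⁻¹ := by group
        _ = e * (v₀ * (e⁻¹ * x * e)) * e⁻¹ := by rw [h3]
        _ = e * v₀ * e⁻¹ * x := by group)⟩
    have hC' := hKmax C' hKC' hC'P _ hxC' hxK
    have hy' : e⁻¹ * y * e ∈ C' := by
      rw [hC']
      simpa using hPn e⁻¹ (inv_mem he) y hy
    have : e * (e⁻¹ * y * e) * e⁻¹ ∈ C := hy'
    simpa [mul_assoc] using this
  have hkey : ∀ v ∈ (S : Subgroup G), v ≠ 1 → ∀ w ∈ (S : Subgroup G), w ≠ 1 → v * w ≠ 1 →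
      ∀ g ∈ St (v * w), g ∈ St v ∨ St v = St w := by
    intro v hv hv1 w hw hw1 hvw g hg
    by_cases heq : St v = St w
    · exact Or.inr heq
    refine Or.inl ⟨hg.1, mem_C.2 ?_⟩
    have hgS := hle (hPE hg.1)
    have hgv : g * v * g⁻¹ ∈ (S : Subgroup G) := conj_mem_of_normalizer hgS hv
    have hgw : g * w * g⁻¹ ∈ (S : Subgroup G) := conj_mem_of_normalizer hgS hw
    set k := g * v * g⁻¹ * v⁻¹ with hk
    have hkS : k ∈ (S : Subgroup G) := mul_mem hgv (inv_mem hv)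
    have hk' : k = w * (g * w * g⁻¹)⁻¹ := by
      have h2 : g * v * g⁻¹ * (g * w * g⁻¹) = v * w := by
        calc g * v * g⁻¹ * (g * w * g⁻¹) = g * (v * w) * g⁻¹ := by group
          _ = v * w := by rw [mem_C.1 hg.2]; group
      calc k = (g * v * g⁻¹ * (g * w * g⁻¹)) * ((g * w * g⁻¹)⁻¹ * v⁻¹) := by rw [hk]; group
        _ = (v * w) * ((g * w * g⁻¹)⁻¹ * v⁻¹) := by rw [h2]
        _ = v * (w * (g * w * g⁻¹)⁻¹) * v⁻¹ := by group
        _ = w * (g * w * g⁻¹)⁻¹ := by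
          rw [B.comm hv (mul_mem hw (inv_mem hgw))]; group
    have hfixv : ∀ x ∈ St v, x * k = k * x := fun x hx => by
      have h1 : Commute x v := mem_C.1 hx.2
      have h2 : Commute x g := hPc x hx.1 g hg.1
      rw [hk]
      exact (((h2.mul_right h1).mul_right h2.inv_right).mul_right h1.inv_right).eq
    have hfixw : ∀ x ∈ St w, x * k = k * x := fun x hx => by
      have h1 : Commute x w := mem_C.1 hx.2
      have h2 : Commute x g := hPc x hx.1 g hg.1
      rw [hk']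
      exact (h1.mul_right ((h2.mul_right h1).mul_right h2.inv_right).inv_right).eq
    have hC1 : St v ≤ P ⊓ centralizer ({k} : Set G) := fun x hx => ⟨hx.1, mem_C.2 (hfixv x hx)⟩
    rcases hmax v hv hv1 _ hC1 inf_le_left with e | e
    · exfalso
      have hle2 : St w ≤ St v := by
        rw [← e]; exact fun x hx => ⟨hx.1, mem_C.2 (hfixw x hx)⟩
      rcases hmax w hw hw1 _ hle2 inf_le_left with e' | e'
      · exact heq e'
      · exact hStne v hv hv1 e'
    · have hk1 : k = 1 := hnoP k hkS fun x hx => mem_C.1 (e.symm ▸ hx :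
        x ∈ P ⊓ centralizer ({k} : Set G)).2
      rw [hk] at hk1
      exact mul_inv_eq_iff_eq_mul.1 (mul_inv_eq_one.1 hk1)
  have hall : ∀ v ∈ (S : Subgroup G), v ≠ 1 → St v = K := by
    intro v hv hv1
    by_contra hne
    rw [← hSt0] at hne
    have hvw : v * v₀ ≠ 1 := fun e => hne (by
      rw [show v = v₀ by rw [eq_inv_of_mul_eq_one_left e, inv_eq_iff_mul_eq_one, ← pow_two, B.sq hv₀]])
    have hvwS := mul_mem hv hv₀
    have hvw' : v₀ * v = v * v₀ := B.comm hv₀ hv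
    have h1 : St (v * v₀) ≤ St v := fun g hg =>
      (hkey v hv hv1 v₀ hv₀ hv₀1 hvw g hg).resolve_right hne
    have h2 : St (v * v₀) ≤ St v₀ := fun g hg =>
      (hkey v₀ hv₀ hv₀1 v hv hv1 (hvw' ▸ hvw) g (hvw'.symm ▸ hg)).resolve_right fun e => hne e.symm
    rcases hmax _ hvwS hvw _ h1 inf_le_left with e1 | e1
    · rcases hmax _ hvwS hvw _ h2 inf_le_left with e2 | e2
      · exact hne (e1.trans e2.symm)
      · exact hStne v₀ hv₀ hv₀1 e2
    · exact hStne v hv hv1 e1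
  have hK1 : K = ⊥ := by
    refine eq_bot_iff.2 fun x hx => mem_bot.2 (B.eq_one_of_centralizes
      (mem_centralizer_iff.2 fun y hy => ?_)
      (Odd.of_dvd_nat hodd (Subgroup.orderOf_dvd_natCard E (hPE (hK hx)))))
    rcases eq_or_ne y 1 with rfl | hy1
    · rw [one_mul, mul_one]
    exact (mem_C.1 ((hall y hy hy1).symm ▸ hx : x ∈ St y).2).symm
  rw [hK1, bot_sup_eq] at hKsup
  have ha1 : a₀ ≠ 1 := fun e => hP1 (by rw [← hKsup, e, zpowers_one_eq_bot])
  have hao : orderOf a₀ = p₀ := hPord a₀ ha₀ ha1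
  have hafpf : ∀ v ∈ (S : Subgroup G), a₀ * v = v * a₀ → v = 1 := fun v hv hav => by
    by_contra hv1
    have : a₀ ∈ St v := ⟨ha₀, mem_C.2 hav⟩
    rw [hall v hv hv1, hK1, mem_bot] at this
    exact ha1 this
  have hnorm : ∀ x ∈ E, x * a₀ * x⁻¹ ∈ zpowers a₀ := fun x hx => hKsup.symm ▸ hPn x hx a₀ ha₀
  have hQp : ∀ y ∈ E, y ≠ 1 → y * a₀ = a₀ * y → orderOf y = p₀ := fun y hy hy1 hya =>
    B.hyp.eq_of_commute rfl hao (hpr y hy hy1).1 hp₀ (hpr y hy hy1).2 hp2 hya
  have hcount := card_stab hle ht ht1 (fun y hy hy1 => htrans t ht ht1 y hy hy1)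
  set N' := Nat.card ↥(S : Subgroup G) - 1 with hN'
  obtain ⟨n, hn⟩ := IsPGroup.iff_card.1 S.isPGroup'
  have hn3 : 2 ≤ n := by
    by_contra h
    have := B.eight
    rw [hn] at this
    have : n = 0 ∨ n = 1 := by omega
    rcases this with rfl | rfl <;> norm_num at *
  have hprime : ∀ {r i : ℕ}, r.Prime → N' = r ^ i → i = 1 := fun {r i} hr he => by
    refine eq_one_of_two_pow hn3 ?_ hr
    have := B.eight
    omega
  by_cases hall' : ∀ x ∈ E, x * a₀ = a₀ * x
  · -- everything commutes with `a₀`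
    exfalso
    have hpq : p₀ = q := (hQp c hc hc1 (hall' c hc)).symm.trans hcq
    have hEp : IsPGroup q ↥E := fun x => ⟨1, by
      rcases eq_or_ne x 1 with rfl | hx1
      · exact one_pow _
      · have := hQp x x.2 (fun e => hx1 (Subtype.ext e)) (hall' x x.2)
        rw [hpq] at this
        refine Subtype.ext ?_
        rw [SubgroupClass.coe_pow, pow_one, ← this, pow_orderOf_eq_one]
        rfl⟩
    obtain ⟨k, hk⟩ := IsPGroup.iff_card.1 hEp
    obtain ⟨i, -, hi⟩ := (Nat.dvd_prime_pow B.hyp.prime).1 (hk ▸ Dvd.intro _ hcount.symm : N' ∣ q ^ k)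
    rw [hprime B.hyp.prime hi, pow_one] at hi
    let T : Subgroup ↥E := (centralizer ({t} : Set G)).subgroupOf E
    have hTidx : T.index = q := by
      have h1 := Subgroup.index_mul_card T
      rw [show Nat.card ↥T = Nat.card ↥(E ⊓ centralizer ({t} : Set G)) by
        rw [← card_map_of_injective E.subtype_injective (K := T), subgroupOf_map_subtype, inf_comm],
        hcount, hi] at h1
      exact Nat.eq_of_mul_eq_mul_right Nat.card_pos h1
    have hk0 : k ≠ 0 := fun e => by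
      rw [e, pow_zero] at hk
      have := Subgroup.orderOf_dvd_natCard E hc
      rw [hcq, hk] at this
      exact B.hyp.prime.ne_one (Nat.dvd_one.1 this)
    haveI : T.Normal := Subgroup.normal_of_index_eq_minFac_card (by
      rw [hTidx, hk, Nat.Prime.pow_minFac B.hyp.prime hk0])
    refine hc1 (B.eq_one_of_centralizes (mem_centralizer_iff.2 fun y hy => ?_)
      (by rw [hcq]; exact B.hyp.prime.odd_of_ne_two B.hyp.ne_two))
    rcases eq_or_ne y 1 with rfl | hy1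
    · rw [one_mul, mul_one]
    obtain ⟨e, he, rfl⟩ := htrans t ht ht1 y hy hy1
    have h2 := this.conj_mem (⟨c, hc⟩ : ↥E) (mem_subgroupOf.2 (mem_C.2 hct)) ⟨e, he⟩⁻¹
    have h3 : e⁻¹ * c * e * t = t * (e⁻¹ * c * e) := by
      have := mem_C.1 (mem_subgroupOf.1 h2)
      simpa using this
    calc e * t * e⁻¹ * c = e * (t * (e⁻¹ * c * e)) * e⁻¹ := by group
      _ = e * ((e⁻¹ * c * e) * t) * e⁻¹ := by rw [h3]
      _ = c * (e * t * e⁻¹) := by group
  push Not at hall'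
  obtain ⟨x₀, hx₀, hx₀a⟩ := hall'
  -- every element outside the centraliser of `a₀` has order `q ≠ p₀`
  have hout : ∀ x ∈ E, x * a₀ ≠ a₀ * x → orderOf x = q ∧ q ≠ p₀ := by
    intro x hx hxa
    have hx1 : x ≠ 1 := fun e => hxa (by rw [e, one_mul, mul_one])
    obtain ⟨w, hw, hw1, hxw⟩ := frobenius_fixed hS2 hp₀ hp2 hao (hpr x hx hx1).1 rfl
      (hle (hPE ha₀)) (hle hx) (hnorm x hx) hxa hafpf ht ht1
    refine ⟨hfix x hx hx1 w hw hw1 hxw, fun e => hxa ?_⟩
    have hxo : orderOf x = p₀ := e ▸ hfix x hx hx1 w hw hw1 hxw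
    obtain ⟨k, hk⟩ := mem_zpowers_iff.1 (hnorm x hx)
    have hpow : ∀ j : ℕ, x ^ j * a₀ * (x ^ j)⁻¹ = a₀ ^ (k ^ j) := by
      intro j
      induction j with
      | zero => simp
      | succ j ih =>
        calc x ^ (j + 1) * a₀ * (x ^ (j + 1))⁻¹ = x * (x ^ j * a₀ * (x ^ j)⁻¹) * x⁻¹ := by
              rw [pow_succ']; group
          _ = (x * a₀ * x⁻¹) ^ (k ^ j) := by rw [ih, conj_zpow]
          _ = a₀ ^ (k ^ (j + 1)) := by rw [← hk, ← zpow_mul, pow_succ']
    have h1 := hpow p₀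
    rw [← hxo, pow_orderOf_eq_one, hxo, one_mul, inv_one, mul_one] at h1
    have h2 : a₀ ^ (k ^ p₀) = a₀ ^ k := by
      rw [zpow_eq_zpow_iff_modEq, hao, ← ZMod.intCast_eq_intCast_iff, Int.cast_pow]
      exact ZMod.pow_card _
    rw [h2, hk] at h1
    exact (mul_inv_eq_iff_eq_mul.1 h1.symm)
  obtain ⟨hx₀q, hqp⟩ := hout x₀ hx₀ hx₀a
  have hEn : E ≤ normalizer (zpowers a₀ : Set G) := by
    intro x hx
    refine mem_normalizer_iff.2 fun y => ⟨fun hy => ?_, fun hy => ?_⟩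
    · exact hKsup.symm ▸ hPn x hx y (hKsup ▸ hy)
    · have := hPn x⁻¹ (inv_mem hx) _ (hKsup ▸ hy)
      rw [hKsup]
      simpa [mul_assoc] using this
  let f : ↥E →* MulAut ↥(zpowers a₀) := CfsgLib.Coprime.conjHom hEn
  have hker : ∀ x : ↥E, f x = 1 ↔ (x : G) * a₀ = a₀ * x := by
    intro x
    constructor
    · intro h1
      have := congrArg (fun φ : MulAut ↥(zpowers a₀) => ((φ ⟨a₀, mem_zpowers a₀⟩ : ↥(zpowers a₀)) : G)) h1
      exact mul_inv_eq_iff_eq_mul.1 this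
    · intro h1
      refine MulEquiv.ext fun y => Subtype.ext ?_
      show (x : G) * y * (x : G)⁻¹ = y
      obtain ⟨m, hm⟩ := mem_zpowers_iff.1 y.2
      rw [← hm, mul_inv_eq_iff_eq_mul]
      exact (Commute.zpow_right h1 m).eq
  haveI : Fact (Nat.card ↥(zpowers a₀)).Prime := ⟨by rw [Nat.card_zpowers, hao]; exact hp₀⟩
  haveI hcycA : IsCyclic (MulAut ↥(zpowers a₀)) :=
    isCyclic_of_surjective (IsCyclic.mulAutMulEquiv ↥(zpowers a₀)).symm.toMonoidHom
      (IsCyclic.mulAutMulEquiv ↥(zpowers a₀)).symm.surjective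
  obtain ⟨g, hg⟩ := (Subgroup.isCyclic f.range).exists_generator
  have hexp : ∀ z : ↥f.range, z ^ q = 1 := by
    rintro ⟨_, x, rfl⟩
    refine Subtype.ext ?_
    rw [SubgroupClass.coe_pow]
    show f x ^ q = 1
    by_cases h1 : (x : G) * a₀ = a₀ * x
    · rw [(hker x).2 h1, one_pow]
    · rw [← map_pow]
      have : x ^ q = 1 := Subtype.ext (by
        rw [SubgroupClass.coe_pow, ← (hout x x.2 h1).1, pow_orderOf_eq_one]; rfl)
      rw [this, map_one]
  have hrange : Nat.card ↥f.range = q := by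
    have h1 : Nat.card ↥f.range ∣ q := by
      rw [← orderOf_eq_card_of_forall_mem_zpowers hg]
      exact orderOf_dvd_of_pow_eq_one (hexp g)
    rcases (Nat.dvd_prime B.hyp.prime).1 h1 with e | e
    · exfalso
      refine hx₀a ((hker ⟨x₀, hx₀⟩).1 ?_)
      have : f ⟨x₀, hx₀⟩ ∈ f.range := ⟨_, rfl⟩
      rw [Subgroup.card_eq_one.1 e, mem_bot] at this
      exact this
    · exact e
  have hEker : Nat.card ↥E = q * Nat.card ↥f.ker := by
    rw [Subgroup.card_eq_card_quotient_mul_card_subgroup f.ker,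
      Nat.card_congr (QuotientGroup.quotientKerEquivRange f).toEquiv, hrange]
  have hstab : Nat.card ↥(E ⊓ centralizer ({t} : Set G)) = q := by
    let ι : ↥(E ⊓ centralizer ({t} : Set G)) →* ↥f.range :=
      f.rangeRestrict.comp (inclusion inf_le_left)
    have hinj : Function.Injective ι := by
      rw [injective_iff_map_eq_one]
      intro x hx
      by_contra hx1
      have hx1' : (x : G) ≠ 1 := fun e => hx1 (Subtype.ext e)
      have h1 : f (inclusion inf_le_left x) = 1 := congrArg Subtype.val hx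
      have h2 := hQp x x.2.1 hx1' ((hker _).1 h1)
      exact hqp ((hfix x x.2.1 hx1' t ht ht1 (mem_C.1 x.2.2)).symm.trans h2)
    refine le_antisymm ((Nat.card_le_card_of_injective ι hinj).trans hrange.le)
      (Nat.le_of_dvd Nat.card_pos ?_)
    rw [← hcq]
    exact Subgroup.orderOf_dvd_natCard _ (⟨hc, mem_C.2 hct⟩ : c ∈ E ⊓ centralizer ({t} : Set G))
  rw [hstab, hEker, mul_comm N' q] at hcount
  have hkerN : Nat.card ↥f.ker = N' := Nat.eq_of_mul_eq_mul_left B.hyp.prime.pos hcount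
  have hkerp : IsPGroup p₀ ↥f.ker := fun x => ⟨1, by
    rcases eq_or_ne x 1 with rfl | hx1
    · exact one_pow _
    · refine Subtype.ext (Subtype.ext ?_)
      rw [pow_one, SubgroupClass.coe_pow, SubgroupClass.coe_pow,
        ← hQp ((x : ↥E) : G) x.1.2 (fun e => hx1 (Subtype.ext (Subtype.ext e))) ((hker x).1 x.2),
        pow_orderOf_eq_one]
      rfl⟩
  obtain ⟨i, hi⟩ := IsPGroup.iff_card.1 hkerp
  rw [hkerN] at hi
  rw [hprime hp₀ hi, pow_one] at hi
  refine ⟨p₀, a₀, hp₀, ?_, fun e => hqp e.symm, ?_, hPE ha₀, hao, hcq, hafpf, hnorm⟩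
  · have := B.eight
    omega
  · rw [hEker, hkerN, hi, mul_comm]

end CfsgLib.Recognition.OneComposite
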