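import Cfsg.Agent.Lib.Recognition.OneComposite.Four
import Cfsg.Agent.S1225

/-!
Sylow 2-subgroups of order at least eight: the normaliser of a Sylow 2-subgroup holds the involution
centralisers and is strongly embedded.
-/

set_option autoImplicit false
set_option linter.unusedSectionVars false

open Subgroup

namespace CfsgLib.Recognition.OneComposite

universe u

variable {G : Type u} [Group G] [Finite G] {q : ℕ}

/-- The standing hypotheses of the case of rank at least three. -/
structure Big (G : Type u) [Group G] (q : ℕ) (S : Sylow 2 G) : Prop where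
  hyp : Hyp G q
  eight : 8 ≤ Nat.card ↥(S : Subgroup G)
  ex : ∃ g : G, orderOf g = 2 * q

namespace Big

variable [IsSimpleGroup G] {S : Sylow 2 G} (B : Big G q S)
include B

theorem sq {x : G} (hx : x ∈ (S : Subgroup G)) : x ^ 2 = 1 := B.hyp.sylow_sq S x hx

theorem comm {x y : G} (hx : x ∈ (S : Subgroup G)) (hy : y ∈ (S : Subgroup G)) : x * y = y * x :=
  comm_of_sq (B.hyp.sylow_sq S) hx hy

theorem ne_bot : (S : Subgroup G) ≠ ⊥ := fun e => by
  have := B.eight
  rw [e, card_bot] at this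
  omega

theorem th_eq_bot {x : G} (hx : x ∈ (S : Subgroup G)) (hx1 : x ≠ 1) : th x = ⊥ := by
  haveI : Fact (Nat.Prime 2) := ⟨Nat.prime_two⟩
  have hV2 := B.hyp.sylow_sq S
  have hcomm : IsMulCommutative ↥(S : Subgroup G) :=
    ⟨⟨fun u w => Subtype.ext (comm_of_sq hV2 u.2 w.2)⟩⟩
  have hA : Cfsg.IsElementaryAbelian 2 (S : Subgroup G) := ⟨hcomm, hV2⟩
  have hA2 : 2 ^ 2 ≤ Nat.card ↥(S : Subgroup G) := le_trans (by norm_num) B.eight
  have hA3 : 2 ^ 3 ≤ Nat.card ↥(S : Subgroup G) := le_trans (by norm_num) B.eight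
  have hsolv : ∀ a ∈ (S : Subgroup G), a ≠ 1 →
      Group.IsSolvable ↥(centralizer ({a} : Set G)) := fun a ha ha1 =>
    B.hyp.isSolvable_centralizer (orderOf_two_of_sq hV2 ha ha1)
  set θ : G → Subgroup G := fun a => Cfsg.centralizerPPrimeCore 2 a with hθ
  obtain ⟨⟨hθC, hθp, hθinv, hbal⟩, hθsolv⟩ :=
    Cfsg.Agent.S1279.result 2 (S : Subgroup G) hA hA2 hsolv
  obtain ⟨hWp, -⟩ := Cfsg.Agent.S0217.result (S : Subgroup G)
    (fun a ha b hb => comm_of_sq hV2 ha hb) hV2 hA3 θ hθC hθp hθinv hθsolv hbal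
  set W : Subgroup G := ⨆ a : {a : G // a ∈ (S : Subgroup G) ∧ a ≠ 1}, θ a with hW
  have hle : ∀ a ∈ (S : Subgroup G), a ≠ 1 → θ a ≤ W := fun a ha ha1 =>
    le_iSup (fun y : {y : G // y ∈ (S : Subgroup G) ∧ y ≠ 1} => θ (y : G)) ⟨a, ha, ha1⟩
  have hN : normalizer ((S : Subgroup G) : Set G) ≤ normalizer (W : Set G) := by
    have hmap : ∀ g ∈ normalizer ((S : Subgroup G) : Set G),
        W.map (MulAut.conj g).toMonoidHom ≤ W := by
      intro g hg
      rw [hW, Subgroup.map_iSup]
      refine iSup_le fun a => ?_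
      have h := CfsgLib.Components.Signalizer.map_conj_core (p := 2) (a : G) g
      show (Cfsg.centralizerPPrimeCore 2 (a : G)).map (MulAut.conj g).toMonoidHom ≤ _
      rw [← h]
      exact hle _ (conj_mem_of_normalizer hg a.2.1) fun e => a.2.2 (conj_eq_one_iff.1 e)
    intro g hg
    refine mem_normalizer_iff.2 fun y => ⟨fun hy => hmap g hg ⟨y, hy, rfl⟩, fun hy => ?_⟩
    have := hmap g⁻¹ (inv_mem hg) ⟨_, hy, rfl⟩
    simpa [mul_assoc] using this
  have hW1 : W = ⊥ := by
    refine no_odd_invariant S B.ne_bot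
      (Nat.not_even_iff_odd.1 fun he => hWp (even_iff_two_dvd.1 he)) hN fun a ha hao => ?_
    haveI := B.hyp.isSolvable_centralizer hao
    refine CfsgLib.DegreeTools.RankThree.centralizer_le_of_abelian_sylow S hcomm ha ?_ hN
    exact (hle a ha (fun e => by rw [e, orderOf_one] at hao; norm_num at hao)).trans le_normalizer
  exact le_bot_iff.1 (hW1 ▸ hle x hx hx1)

theorem centralizer_le {x : G} (hx : x ∈ (S : Subgroup G)) (hx1 : x ≠ 1) :
    centralizer ({x} : Set G) ≤ normalizer ((S : Subgroup G) : Set G) := by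
  haveI : Fact (Nat.Prime 2) := ⟨Nat.prime_two⟩
  haveI := B.hyp.isSolvable_centralizer (orderOf_two_of_sq (B.hyp.sylow_sq S) hx hx1)
  refine CfsgLib.DegreeTools.RankThree.centralizer_le_of_abelian_sylow S
    ⟨⟨fun u w => Subtype.ext (B.comm u.2 w.2)⟩⟩ hx ?_ le_rfl
  show th x ≤ _
  rw [B.th_eq_bot hx hx1]
  exact bot_le

theorem normalizer_ne_top : normalizer ((S : Subgroup G) : Set G) ≠ ⊤ := by
  intro e
  haveI : (S : Subgroup G).Normal := normalizer_eq_top_iff.1 e
  rcases IsSimpleGroup.eq_bot_or_eq_top_of_normal (S : Subgroup G) inferInstance with e | e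
  · exact B.ne_bot e
  · obtain ⟨g, hg⟩ := B.ex
    have h2 := orderOf_dvd_of_pow_eq_one (B.sq (e ▸ mem_top g))
    rw [hg] at h2
    have := Nat.le_of_dvd (by norm_num) h2
    have := B.hyp.prime.two_le
    omega

theorem stronglyEmbedded : Cfsg.IsStronglyEmbedded (normalizer ((S : Subgroup G) : Set G)) :=
  stronglyEmbedded_of S B.ne_bot B.normalizer_ne_top le_rfl fun _ hx hxo =>
    B.centralizer_le hx fun e => by rw [e, orderOf_one] at hxo; norm_num at hxo

/-- `C(S) = S`. -/
theorem eq_one_of_centralizes {y : G} (hy : y ∈ centralizer ((S : Subgroup G) : Set G))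
    (hodd : Odd (orderOf y)) : y = 1 := by
  haveI : Fact (Nat.Prime 2) := ⟨Nat.prime_two⟩
  obtain ⟨x, hx, hxo⟩ :=
    CfsgLib.LocalEven.StronglyEmbedded.exists_order_p S.isPGroup' B.ne_bot
  have hx1 : x ≠ 1 := fun e => by rw [e, orderOf_one] at hxo; norm_num at hxo
  set C := centralizer ((S : Subgroup G) : Set G)
  have hSC : (S : Subgroup G) ≤ C := fun u hu => mem_centralizer_iff.2 fun w hw => B.comm hw hu
  have hCx : C ≤ centralizer ({x} : Set G) := Subgroup.centralizer_le (Set.singleton_subset_iff.2 hx)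
  have hmem := mem_cr_of_odd S hSC (fun n hn _ => hn) hy hodd
  have hn : centralizer ({x} : Set G) ≤ normalizer (cr C : Set G) := fun g hg => by
    refine normalizer_le_normalizer_cr C (mem_normalizer_iff.2 fun w => ?_)
    have hgS := B.centralizer_le hx hx1 hg
    have key : ∀ g ∈ normalizer ((S : Subgroup G) : Set G), ∀ w ∈ C, g * w * g⁻¹ ∈ C := by
      intro g hg w hw
      refine mem_centralizer_iff.2 fun z hz => ?_
      have hz' := (mem_normalizer_iff.1 (inv_mem hg) z).1 hz
      rw [inv_inv] at hz'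
      have h1 := mem_centralizer_iff.1 hw _ hz'
      calc z * (g * w * g⁻¹) = g * ((g⁻¹ * z * g) * w) * g⁻¹ := by group
        _ = g * (w * (g⁻¹ * z * g)) * g⁻¹ := by rw [h1]
        _ = g * w * g⁻¹ * z := by group
    refine ⟨key g hgS w, fun hw => ?_⟩
    have := key g⁻¹ (inv_mem hgS) _ hw
    simpa [mul_assoc] using this
  have hle : cr C ≤ th x := by
    intro z hz
    haveI : ((cr C).subgroupOf (centralizer ({x} : Set G))).Normal :=
      (normal_subgroupOf_iff_le_normalizer ((cr_le C).trans hCx)).2 hn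
    have h3 : (cr C).subgroupOf (centralizer ({x} : Set G)) ≤
        Cfsg.oddCore ↥(centralizer ({x} : Set G)) := by
      refine CfsgLib.Solvable.Cores.le_pPrimeCore ?_
      rw [Nat.card_congr (subgroupOfEquivOfLe ((cr_le C).trans hCx)).toEquiv]
      exact Nat.coprime_two_right.2 (odd_card_cr C)
    exact ⟨⟨z, hCx (cr_le C hz)⟩, h3 (mem_subgroupOf.2 hz), rfl⟩
  rw [B.th_eq_bot hx hx1, le_bot_iff] at hle
  rw [hle, mem_bot] at hmem
  exact hmem

theorem exists_outside_invol : ∃ u : G, orderOf u = 2 ∧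
    u ∉ normalizer ((S : Subgroup G) : Set G) := by
  haveI : Fact (Nat.Prime 2) := ⟨Nat.prime_two⟩
  by_contra hno
  push Not at hno
  obtain ⟨x, hx, hxo⟩ :=
    CfsgLib.LocalEven.StronglyEmbedded.exists_order_p S.isPGroup' B.ne_bot
  refine B.normalizer_ne_top (eq_top_iff.2 fun g _ => mem_normalizer_iff.2 fun y => ?_)
  have key : ∀ g : G, ∀ y ∈ (S : Subgroup G), g * y * g⁻¹ ∈ (S : Subgroup G) := by
    intro g y hy
    refine mem_of_normalizes S ?_ ?_
    · rw [conj_pow, B.sq hy]; group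
    · rcases eq_or_ne y 1 with rfl | hy1
      · rw [show g * 1 * g⁻¹ = (1 : G) by group]; exact one_mem _
      · exact hno _ (by
          rw [← MulAut.conj_apply, MulEquiv.orderOf_eq]
          exact orderOf_two_of_sq (B.hyp.sylow_sq S) hy hy1)
  exact ⟨key g y, fun hy => by simpa [mul_assoc] using key g⁻¹ _ hy⟩

/-- The involutions of `S` are conjugate in `N(S)`, indeed in a two-point stabiliser. -/
theorem transitive {u : G} (hu : orderOf u = 2) (huH : u ∉ normalizer ((S : Subgroup G) : Set G))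
    {x y : G} (hx : x ∈ (S : Subgroup G)) (hx1 : x ≠ 1) (hy : y ∈ (S : Subgroup G)) (hy1 : y ≠ 1) :
    ∃ d ∈ normalizer ((S : Subgroup G) : Set G) ⊓
      (normalizer ((S : Subgroup G) : Set G)).map (MulAut.conj u).toMonoidHom, d * x * d⁻¹ = y :=
  (Cfsg.Agent.S1225.result _ B.stronglyEmbedded u hu huH x y
    (orderOf_two_of_sq (B.hyp.sylow_sq S) hx hx1) (le_normalizer hx)
    (orderOf_two_of_sq (B.hyp.sylow_sq S) hy hy1) (le_normalizer hy)).1

end Big

end CfsgLib.Recognition.OneComposite
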