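import Cfsg.Agent.Lib.Recognition.OneComposite.Basic
import Cfsg.Agent.Lib.Recognition.PrimePowerSimple.Main
import Cfsg.Agent.S0205
import Cfsg.Agent.S1230

/-!
# Groups with one composite element order: the element orders of the candidates
-/

set_option autoImplicit false
set_option linter.style.haveILetI false

open Subgroup

namespace CfsgLib.Recognition.OneComposite

open CfsgLib.Recognition.PrimePowerSimple (CITList PPList)

universe u

/-- The groups with one composite element order, other than those of prime order. -/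
def Concl (G : Type u) [Group G] : Prop :=
  (∃ (F : Type) (_ : Field F) (_ : Fintype F), (Fintype.card F = 5 ∨ Fintype.card F = 7 ∨ Fintype.card F = 8 ∨ Fintype.card F = 9 ∨
      Fintype.card F = 11 ∨ Fintype.card F = 13 ∨ Fintype.card F = 16) ∧ Nonempty (G ≃* Matrix.ProjectiveSpecialLinearGroup (Fin 2) F)) ∨
  (∃ (F : Type) (_ : Field F) (_ : Fintype F), Fintype.card F = 4 ∧ Nonempty (G ≃* Matrix.ProjectiveSpecialLinearGroup (Fin 3) F)) ∨
  (∃ (F : Type) (_ : Field F) (_ : Fintype F), Fintype.card F = 8 ∧ Nonempty (G ≃* ↥(Cfsg.Lie.Sz F 4))) ∨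
  (∃ (F : Type) (_ : Field F) (_ : Fintype F), ∃ n r s : ℕ, r.Prime ∧ s.Prime ∧ 3 ^ n - 1 = 2 * r ∧ 3 ^ n + 1 = 4 * s ∧
      Fintype.card F = 3 ^ n ∧ Nonempty (G ≃* Matrix.ProjectiveSpecialLinearGroup (Fin 2) F)) ∨
  (∃ (F : Type) (_ : Field F) (_ : Fintype F), ∃ n r : ℕ, (2 ^ n - 1).Prime ∧ r.Prime ∧ 2 ^ n + 1 = 3 * r ∧
      Fintype.card F = 2 ^ n ∧ Nonempty (G ≃* Matrix.ProjectiveSpecialLinearGroup (Fin 2) F))

variable {G : Type u} [Group G] [Finite G]

omit [Finite G] in
theorem concl_of_card {F : Type} [Field F] [Fintype F]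
    (hF : Fintype.card F = 5 ∨ Fintype.card F = 7 ∨ Fintype.card F = 8 ∨ Fintype.card F = 9 ∨
      Fintype.card F = 11 ∨ Fintype.card F = 13 ∨ Fintype.card F = 16)
    (e : G ≃* Matrix.ProjectiveSpecialLinearGroup (Fin 2) F) : Concl G :=
  Or.inl ⟨F, inferInstance, inferInstance, hF, ⟨e⟩⟩

/-- The candidates with a field of four elements are the same as those with five. -/
theorem concl_of_four_field [IsSimpleGroup G] {F : Type} [Field F] [Fintype F] (hF : Fintype.card F = 4)
    (e : G ≃* Matrix.ProjectiveSpecialLinearGroup (Fin 2) F) : Concl G := by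
  haveI : Fact (Nat.Prime 5) := ⟨by norm_num⟩
  have h60 : Nat.card G = 60 := by
    have hc := CfsgLib.Perm.ZGroup.card_psl2_gcd (F := F)
    rw [← Nat.card_congr e.toEquiv, hF] at hc
    norm_num at hc
    exact hc
  haveI := CfsgLib.Classical.psl_fin_isSimpleGroup (F := ZMod 5) (k := 2) le_rfl
    (fun _ => by rw [ZMod.card]; norm_num)
  have h60' : Nat.card (Matrix.ProjectiveSpecialLinearGroup (Fin 2) (ZMod 5)) = 60 := by
    have hc := CfsgLib.Perm.ZGroup.card_psl2_gcd (F := ZMod 5)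
    rw [ZMod.card, show Nat.gcd 2 (5 - 1) = 2 from rfl] at hc
    omega
  obtain ⟨e₁⟩ := Cfsg.Agent.S0494.result h60
  obtain ⟨e₂⟩ := Cfsg.Agent.S0494.result h60'
  exact concl_of_card (F := ZMod 5) (by rw [ZMod.card]; simp) (e₁.trans e₂.symm)

omit [Finite G] in
/-- The orders of semisimple and unipotent elements of a candidate. -/
theorem exists_orderOf {F : Type} [Field F] [Fintype F] (p : ℕ) [Fact p.Prime] [CharP F p]
    (e : G ≃* Matrix.ProjectiveSpecialLinearGroup (Fin 2) F) {m : ℕ}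
    (hm : m ∈ ({p, (Fintype.card F - 1) / Nat.gcd 2 (Fintype.card F - 1),
      (Fintype.card F + 1) / Nat.gcd 2 (Fintype.card F - 1)} : Set ℕ)) : ∃ g : G, orderOf g = m := by
  obtain ⟨x, hx⟩ := CfsgLib.LocalEven.Spectrum.psl_exists (F := F) p m hm
  exact ⟨e.symm x, by rw [MulEquiv.orderOf_eq, hx]⟩

theorem psl_odd [IsSimpleGroup G] {q : ℕ} (h : Hyp G q) {F : Type} [Field F] [Fintype F]
    (hodd : Odd (Fintype.card F)) (e : G ≃* Matrix.ProjectiveSpecialLinearGroup (Fin 2) F) :
    Concl G := by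
  obtain ⟨p, hpF⟩ := CharP.exists F
  haveI := hpF
  haveI : Fact p.Prime := ⟨CharP.char_is_prime F p⟩
  obtain ⟨f, hp, hf⟩ := FiniteField.card F p
  have hlarge := CfsgLib.Perm.ZGroup.three_lt_of_simple_psl e
  obtain ⟨k, hk⟩ := hodd
  have hg : Nat.gcd 2 (Fintype.card F - 1) = 2 := Nat.gcd_eq_left (by omega)
  have hord : ∀ m, m = (Fintype.card F - 1) / 2 ∨ m = (Fintype.card F + 1) / 2 → 1 < m →
      m.Prime ∨ m = 2 * q := by
    intro m hm h1
    obtain ⟨g, rfl⟩ := exists_orderOf p e (m := m) (by rw [hg]; exact Or.inr hm)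
    exact h.ord g (fun e => by rw [e, orderOf_one] at h1; omega)
  rw [hk] at hord hlarge
  have ha := hord k (Or.inl (by omega)) (by omega)
  have hb := hord (k + 1) (Or.inr (by omega)) (by omega)
  have hq2 := h.prime.two_le
  have hq3 : 3 ≤ q := by have := h.ne_two; omega
  have hqodd : q % 2 = 1 := (h.prime.eq_two_or_odd).resolve_left h.ne_two
  -- the even torus has order `2 q`
  obtain ⟨r, hr, hcase⟩ : ∃ r, r.Prime ∧ ((k = 2 * q ∧ k + 1 = r) ∨ (k = r ∧ k + 1 = 2 * q) ∨ k ≤ 2) := by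
    rcases Nat.lt_or_ge k 3 with hk3 | hk3
    · exact ⟨2, Nat.prime_two, Or.inr (Or.inr (by omega))⟩
    rcases ha with ha | ha
    · refine ⟨k, ha, Or.inr (Or.inl ⟨rfl, ?_⟩)⟩
      rcases hb with hb | hb
      · rcases ha.eq_two_or_odd with h2 | h2
        · omega
        · rcases hb.eq_two_or_odd with h3 | h3 <;> omega
      · exact hb
    · refine ⟨k + 1, ?_, Or.inl ⟨ha, rfl⟩⟩
      exact hb.resolve_right (by omega)
  rcases hcase with hcase | hcase | hcase
  rotate_left 2
  · exact concl_of_card (Or.inl (by omega)) e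
  all_goals
    by_cases h3F : 3 ∣ Fintype.card F
    · have hp3 : p = 3 := ((Nat.prime_dvd_prime_iff_eq Nat.prime_three hp).1
        (Nat.prime_three.dvd_of_dvd_pow (hf ▸ h3F))).symm
      subst hp3
      first
      | refine Or.inr (Or.inr (Or.inr (Or.inl ⟨F, inferInstance, inferInstance, f, r, q, hr, h.prime,
          ?_, ?_, hf, ⟨e⟩⟩))) <;> rw [← hf] <;> omega
      | exfalso
        -- `3 ^ f ≡ 5 (mod 8)` is impossible
        have h8 : ∀ i : ℕ, 3 ^ i % 8 = 1 ∨ 3 ^ i % 8 = 3 := fun i => by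
          induction i with
          | zero => norm_num
          | succ i ih => rw [pow_succ]; omega
        have h8' := h8 f
        rw [← hf, hk] at h8'
        omega
    · rw [hk] at h3F
      have h3q : 3 ∣ q ∨ 3 ∣ r := by
        by_contra hcon
        push Not at hcon
        rw [Nat.dvd_iff_mod_eq_zero] at hcon h3F
        rw [Nat.dvd_iff_mod_eq_zero] at hcon
        rcases (show q % 3 = 0 ∨ q % 3 = 1 ∨ q % 3 = 2 by omega) with hm | hm | hm <;> omega
      rcases h3q with h3 | h3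
      · have := (Nat.prime_dvd_prime_iff_eq Nat.prime_three h.prime).1 h3
        exact concl_of_card (by omega) e
      · have := (Nat.prime_dvd_prime_iff_eq Nat.prime_three hr).1 h3
        exact concl_of_card (by omega) e

section Composite

variable (h1 : {n : ℕ | n ∈ Set.range (orderOf : G → ℕ) ∧ 1 < n ∧ ¬ n.Prime}.Subsingleton)
include h1

omit [Finite G] in
theorem composite_eq {a b : ℕ} (ha : ∃ g : G, orderOf g = a) (hb : ∃ g : G, orderOf g = b) (ha1 : 1 < a)
    (hb1 : 1 < b) (hap : ¬ a.Prime) (hbp : ¬ b.Prime) : a = b :=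
  h1 ⟨ha, ha1, hap⟩ ⟨hb, hb1, hbp⟩

theorem isPrimePow_of_four (hx : ∃ g : G, orderOf g = 4) (g : G) (hg : g ≠ 1) : IsPrimePow (orderOf g) := by
  by_cases hp : (orderOf g).Prime
  · exact hp.isPrimePow
  · have h1g : 1 < orderOf g := by
      have := orderOf_pos g
      have : orderOf g ≠ 1 := fun h => hg (orderOf_eq_one_iff.1 h)
      omega
    rw [composite_eq h1 ⟨g, rfl⟩ hx h1g (by norm_num) hp (by norm_num)]
    exact (isPrimePow_nat_iff _).2 ⟨2, 2, Nat.prime_two, two_pos, by norm_num⟩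

theorem cit_four [IsSimpleGroup G] (hx : ∃ g : G, orderOf g = 4) (hl : CITList G) : Concl G := by
  have hP := isPrimePow_of_four h1 hx
  rcases CfsgLib.Recognition.PrimePowerSimple.classify hP hl with
    he | ⟨F, _, _, hF, ⟨φ⟩⟩ | hL | ⟨F, _, _, h⟩
  · obtain ⟨φ⟩ := he
    haveI : Fintype (GaloisField 3 2) := Fintype.ofFinite _
    have h9 : Fintype.card (GaloisField 3 2) = 9 := by
      rw [← Nat.card_eq_fintype_card, GaloisField.card 3 2 two_ne_zero]; norm_num
    obtain ⟨e⟩ := Cfsg.Agent.S0254.result h9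
    exact concl_of_card (F := GaloisField 3 2) (by omega) (φ.trans e.symm)
  · simp only [Finset.mem_insert, Finset.mem_singleton] at hF
    rcases hF with hF | hF | hF | hF
    · exact concl_of_four_field hF φ
    · exact concl_of_card (by omega) φ
    · exact concl_of_card (by omega) φ
    · exfalso
      haveI : Fact (Nat.Prime 17) := ⟨by norm_num⟩
      haveI : CharP F 17 := charP_of_card_eq_prime_pow (f := 1) (by rw [hF]; norm_num)
      exact absurd (composite_eq h1 (exists_orderOf 17 φ (m := 8) (by rw [hF]; norm_num)) hx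
        (by norm_num) (by norm_num) (by norm_num) (by norm_num)) (by norm_num)
  · exact Or.inr (Or.inl hL)
  · rcases h with ⟨hF, ⟨φ⟩⟩ | ⟨hF, ⟨φ⟩⟩
    · exact Or.inr (Or.inr (Or.inl ⟨F, inferInstance, inferInstance, hF, ⟨φ⟩⟩))
    · exfalso
      have hS := (CfsgLib.KnownB.Suzuki.szPartition
        (CfsgLib.KnownB.Suzuki.params_of_card (F := F) (m := 2) one_le_two (by rw [hF]; norm_num))).congr φ.symm
      rw [hF] at hS
      obtain ⟨U, hcyc, hcard, -, -⟩ := hS.tori 25 (by norm_num)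
      obtain ⟨u, hu⟩ := hcyc.exists_generator
      exact absurd (composite_eq h1 ⟨(u : G), by
        rw [Subgroup.orderOf_coe, orderOf_eq_card_of_forall_mem_zpowers hu, hcard]⟩ hx (by norm_num)
        (by norm_num) (by norm_num) (by norm_num)) (by norm_num)

theorem cit_elem [IsSimpleGroup G] (hna : ¬ IsMulCommutative G)
    (hC : ∀ t : G, orderOf t = 2 → IsMulCommutative (centralizer ({t} : Set G)) ∧
      ∀ c ∈ centralizer ({t} : Set G), c ^ 2 = 1) : Concl G := by
  classical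
  haveI : Fact (Nat.Prime 2) := ⟨Nat.prime_two⟩
  have hns : ¬ Group.IsSolvable G := fun h =>
    hna ⟨⟨fun a b => IsSimpleGroup.comm_iff_isSolvable.2 h a b⟩⟩
  have heven : 2 ∣ Nat.card G := by
    by_contra h
    exact hns (Cfsg.Agent.S0205.result (Nat.odd_iff.2 (Nat.two_dvd_ne_zero.1 h)))
  obtain ⟨T⟩ : Nonempty (Sylow 2 G) := Sylow.nonempty
  have hT0 : (T : Subgroup G) ≠ ⊥ := T.ne_bot_of_dvd_card heven
  have hnn : ¬ (T : Subgroup G).Normal := by
    intro hn
    rcases hn.eq_bot_or_eq_top with h | h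
    · exact hT0 h
    · obtain ⟨k, hk⟩ := T.isPGroup'.exists_card_eq
      rw [h, Subgroup.card_top] at hk
      exact hns (Cfsg.Agent.S0144.result 2 2 k 0 Nat.prime_two Nat.prime_two (by simp [hk]))
  have hmin : (Nat.card G).minFac = 2 := (Nat.minFac_eq_two_iff _).2 heven
  have hnc : ¬ IsCyclic (T : Subgroup G) := by
    intro hcyc
    have hPle := IsCyclic.normalizer_le_centralizer hmin hcyc
    have hcompl := MonoidHom.ker_transferSylow_isComplement' T hPle
    rcases (MonoidHom.normal_ker (MonoidHom.transferSylow T hPle)).eq_bot_or_eq_top with h | h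
    · rw [h] at hcompl
      exact hnn (by rw [Subgroup.isComplement'_bot_left.1 hcompl]; infer_instance)
    · rw [h] at hcompl
      exact hT0 (Subgroup.isComplement'_top_left.1 hcompl)
  obtain ⟨F, hF, hFin, hcardF, ⟨φ⟩⟩ := Cfsg.Agent.S1230.result T hnc hnn hC
  obtain ⟨n, hn⟩ := T.isPGroup'.exists_card_eq
  have hFn : Fintype.card F = 2 ^ n := hcardF.trans hn
  have hlarge := CfsgLib.Perm.ZGroup.three_lt_of_simple_psl φ
  have hn2 : 2 ≤ n := by
    by_contra h
    interval_cases n <;> norm_num at hFn <;> omega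
  haveI : CharP F 2 := charP_of_card_eq_prime_pow (f := n) hFn
  have heven' : 2 ∣ 2 ^ n := dvd_pow_self 2 (by omega)
  have hg1 : Nat.gcd 2 (Fintype.card F - 1) = 1 :=
    Nat.coprime_two_left.2 ⟨(Fintype.card F - 2) / 2, by omega⟩
  rcases Nat.lt_or_ge n 5 with hn5 | hn5
  · interval_cases n
    · exact concl_of_four_field (by rw [hFn]; norm_num) φ
    · exact concl_of_card (by rw [hFn]; norm_num) φ
    · exact concl_of_card (by rw [hFn]; norm_num) φ
  have h32 : 32 ≤ 2 ^ n := le_trans (by norm_num) (Nat.pow_le_pow_right (show 0 < 2 by norm_num) hn5)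
  have hex : ∀ m, m = 2 ^ n - 1 ∨ m = 2 ^ n + 1 → ∀ d, d ∣ m → ∃ g : G, orderOf g = d := by
    intro m hm d hd
    obtain ⟨g, hg⟩ := exists_orderOf 2 φ (m := m) (by
      rw [hg1, Nat.div_one, Nat.div_one, hFn]
      exact Or.inr hm)
    have hg0 : orderOf g ≠ 0 := (orderOf_pos g).ne'
    exact ⟨g ^ (orderOf g / d), orderOf_pow_orderOf_div hg0 (hg ▸ hd)⟩
  have hnp : ∀ m, 3 ∣ m → 3 < m → ¬ m.Prime := fun m hm h hp => by
    have := (Nat.prime_dvd_prime_iff_eq Nat.prime_three hp).1 hm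
    omega
  have h3 : 3 ∣ 2 ^ n - 1 ∨ 3 ∣ 2 ^ n + 1 := by
    obtain ⟨k, hk⟩ : ∃ k, 2 ^ n = k := ⟨_, rfl⟩
    have h3' : ¬ 3 ∣ k := fun h => absurd (Nat.prime_three.dvd_of_dvd_pow (hk.symm ▸ h)) (by norm_num)
    rw [hk]
    rcases (show k % 3 = 0 ∨ k % 3 = 1 ∨ k % 3 = 2 by omega) with h | h | h
    · exact absurd (Nat.dvd_of_mod_eq_zero h) h3'
    · exact Or.inl (Nat.dvd_of_mod_eq_zero (by omega))
    · exact Or.inr (Nat.dvd_of_mod_eq_zero (by omega))
  -- the cofactor of three is prime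
  have hcof : ∀ c, c = 2 ^ n - 1 ∨ c = 2 ^ n + 1 → 3 ∣ c → (c / 3).Prime := by
    intro c hc h3c
    by_contra hp
    have := composite_eq h1 (hex c hc c dvd_rfl) (hex c hc _ (Nat.div_dvd_of_dvd h3c))
      (by omega) (by omega) (hnp c h3c (by omega)) hp
    omega
  rcases h3 with h3 | h3
  · -- `n` is even, so `2 ^ n - 1` factors
    exfalso
    obtain ⟨j, rfl⟩ : ∃ j, n = 2 * j := by
      rcases Nat.even_or_odd' n with ⟨j, rfl | rfl⟩
      · exact ⟨j, rfl⟩
      · exfalso
        rw [pow_succ, pow_mul] at h3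
        have : (2 ^ 2) ^ j % 3 = 1 := by rw [Nat.pow_mod]; norm_num
        omega
    obtain ⟨x, hx⟩ : ∃ x, x = 2 ^ j := ⟨_, rfl⟩
    have hxx : 2 ^ (2 * j) = x * x := by rw [hx, ← pow_add, ← two_mul]
    have hx8 : 8 ≤ x := hx ▸ le_trans (by norm_num) (Nat.pow_le_pow_right (show 0 < 2 by norm_num) (show 3 ≤ j by omega))
    have hp := hcof _ (Or.inl rfl) h3
    have hfac : (x - 1) * (x + 1) = 3 * ((2 ^ (2 * j) - 1) / 3) := by
      rw [Nat.mul_div_cancel' h3, hxx, mul_comm, ← Nat.sq_sub_sq, one_pow, pow_two]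
    rcases (Nat.Prime.dvd_mul hp).1 (Dvd.intro_left 3 hfac.symm) with hd | hd <;>
      · have h' := Nat.le_of_dvd (by omega) hd
        have hge : (x - 1) * (x + 1) ≤ 3 * (x + 1) :=
          hfac.le.trans (Nat.mul_le_mul_left 3 (le_trans h' (by omega)))
        have := Nat.le_of_mul_le_mul_right hge (by omega)
        omega
  · refine Or.inr (Or.inr (Or.inr (Or.inr ⟨F, hF, hFin, n, (2 ^ n + 1) / 3, ?_, hcof _ (Or.inr rfl) h3,
      (Nat.mul_div_cancel' h3).symm, hFn, ⟨φ⟩⟩)))
    by_contra hp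
    have := composite_eq h1 (hex _ (Or.inl rfl) _ dvd_rfl) (hex _ (Or.inr rfl) _ dvd_rfl)
      (by omega) (by omega) hp (hnp _ h3 (by omega))
    omega

end Composite

end CfsgLib.Recognition.OneComposite
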