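import Cfsg.Agent.Lib.Recognition.OneComposite.Transfer
import Cfsg.Agent.Lib.Recognition.OneComposite.Orders
import Cfsg.Agent.Lib.Recognition.CIT.Main

/-!
Simple groups with at most one composite element order.
-/

set_option autoImplicit false
set_option linter.unusedSectionVars false

open Subgroup

namespace CfsgLib.Recognition.OneComposite

universe u

variable {G : Type u} [Group G] [Finite G]

theorem four_dvd [IsSimpleGroup G] (hna : ¬ IsMulCommutative G) : 4 ∣ Nat.card G := by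
  classical
  haveI : Fact (Nat.Prime 2) := ⟨Nat.prime_two⟩
  have h2 := CfsgLib.Involution.SelfCentNoncyclic.two_dvd_card hna
  by_contra h4
  obtain ⟨S⟩ : Nonempty (Sylow 2 G) := inferInstance
  have hS : Nat.card ↥(S : Subgroup G) = 2 := by
    obtain ⟨k, hk⟩ := IsPGroup.iff_card.1 S.isPGroup'
    have h2' := S.dvd_card_of_dvd_card h2
    rw [hk] at h2' ⊢
    rcases Nat.lt_or_ge k 2 with hlt | hge
    · interval_cases k
      · norm_num at h2'
      · rfl
    · exact absurd ((pow_dvd_pow 2 hge).trans (hk ▸ Subgroup.card_subgroup_dvd_card _)) h4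
  have hle : normalizer ((S : Subgroup G) : Set G) ≤ centralizer ((S : Subgroup G) : Set G) := by
    intro m hm
    refine mem_centralizer_iff.2 fun y hy => ?_
    have huniq : ∀ z ∈ (S : Subgroup G), z ≠ 1 → ∀ w ∈ (S : Subgroup G), w ≠ 1 → z = w := by
      intro z hz hz1 w hw hw1
      obtain ⟨o, -, ho⟩ := (Nat.card_eq_two_iff' (1 : ↥(S : Subgroup G))).1 hS
      exact congrArg Subtype.val ((ho ⟨z, hz⟩ fun e => hz1 (congrArg Subtype.val e)).trans
        (ho ⟨w, hw⟩ fun e => hw1 (congrArg Subtype.val e)).symm)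
    rcases eq_or_ne y 1 with rfl | hy1
    · rw [one_mul, mul_one]
    · exact (mul_inv_eq_iff_eq_mul.1
        (huniq _ (conj_mem_of_normalizer hm hy) (fun e => hy1 (conj_eq_one_iff.1 e)) y hy hy1)).symm
  have hK := MonoidHom.ker_transferSylow_isComplement' S hle
  rcases IsSimpleGroup.eq_bot_or_eq_top_of_normal (MonoidHom.transferSylow S hle).ker inferInstance
    with e | e
  · have h1 := hK.card_mul
    rw [e, card_bot, one_mul, hS] at h1
    haveI : Fact (Nat.Prime 2) := ⟨Nat.prime_two⟩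
    haveI := isCyclic_of_prime_card h1.symm
    exact hna ⟨⟨fun a b => mul_comm' a b⟩⟩
  · have h1 := hK.card_mul
    rw [e, card_top, hS] at h1
    have h3 : 0 < Nat.card G := Nat.card_pos
    omega

theorem main [IsSimpleGroup G] (hna : ¬ IsMulCommutative G)
    (h1 : {n : ℕ | n ∈ Set.range (orderOf : G → ℕ) ∧ 1 < n ∧ ¬ n.Prime}.Subsingleton) :
    Concl G := by
  haveI : Fact (Nat.Prime 2) := ⟨Nat.prime_two⟩
  by_cases hmix : ∃ (t x : G) (r : ℕ), orderOf t = 2 ∧ orderOf x = r ∧ r.Prime ∧ r ≠ 2 ∧ t * x = x * t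
  · obtain ⟨t, x, q, ht, hx, hq, hq2, hc⟩ := hmix
    have ho : orderOf (t * x) = 2 * q := by
      rw [Commute.orderOf_mul_eq_mul_orderOf_of_coprime hc, ht, hx]
      rw [ht, hx]
      exact (Nat.coprime_primes Nat.prime_two hq).2 hq2.symm
    have h : Hyp G q := by
      refine ⟨hq, hq2, fun g hg => ?_⟩
      by_cases hp : (orderOf g).Prime
      · exact Or.inl hp
      refine Or.inr (composite_eq h1 ⟨g, rfl⟩ ⟨_, ho⟩ ?_ ?_ hp ?_)
      · rcases Nat.lt_or_ge 1 (orderOf g) with h' | h'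
        · exact h'
        · exact absurd (orderOf_eq_one_iff.1 (le_antisymm h' (orderOf_pos g))) hg
      · have := hq.two_le; omega
      · exact Nat.not_prime_mul (by norm_num) hq.one_lt.ne'
    obtain ⟨S⟩ : Nonempty (Sylow 2 G) := inferInstance
    obtain ⟨k, hk⟩ := IsPGroup.iff_card.1 S.isPGroup'
    have h4 : 2 ^ 2 ∣ Nat.card ↥(S : Subgroup G) := by
      rw [S.card_eq_multiplicity]
      exact pow_dvd_pow 2 ((Nat.Prime.pow_dvd_iff_le_factorization Nat.prime_two Nat.card_pos.ne').1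
        (four_dvd hna))
    rw [hk] at h4
    have hk2 : 2 ≤ k := (Nat.pow_dvd_pow_iff_le_right (by norm_num : 1 < 2)).1 h4
    rcases hk2.eq_or_lt with rfl | hk3
    · obtain ⟨F, _, _, hodd, ⟨e⟩⟩ := four_case h S (by rw [hk]; norm_num) ⟨_, ho⟩
      exact psl_odd h hodd e
    · exfalso
      refine Big.false (q := q) (S := S) ⟨h, ?_, ⟨_, ho⟩⟩
      rw [hk]
      exact le_trans (by norm_num : 8 ≤ 2 ^ 3) (Nat.pow_le_pow_right (by norm_num) hk3)
  -- involution centralisers are 2-groups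
  have hcit : CfsgLib.Recognition.CIT.IsCIT G := by
    intro t ht
    refine CfsgLib.Recognition.CIT.isPGroup_of_forall fun d hd hdo => ?_
    by_contra hd1
    have hne : orderOf d ≠ 1 := fun e => hd1 (orderOf_eq_one_iff.1 e)
    obtain ⟨r, hr, hrd⟩ := Nat.exists_prime_and_dvd hne
    have hr2 : r ≠ 2 := by
      rintro rfl
      exact hdo.not_two_dvd_nat hrd
    obtain ⟨m, hm⟩ := hrd
    have hm0 : 0 < m := by
      have := orderOf_pos d
      rw [hm] at this
      exact Nat.pos_of_mul_pos_left this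
    refine hmix ⟨t, d ^ m, r, ht, ?_, hr, hr2,
      ((show Commute d t from Subgroup.mem_centralizer_singleton_iff.1 hd).pow_left m).symm.eq⟩
    rw [orderOf_pow' d hm0.ne', hm, Nat.gcd_eq_right (dvd_mul_left m r), Nat.mul_div_cancel _ hm0]
  by_cases hfour : ∃ g : G, orderOf g = 4
  · exact cit_four h1 hfour (hcit.classification hna)
  refine cit_elem h1 hna fun t ht => ?_
  have hexp : ∀ c ∈ centralizer ({t} : Set G), c ^ 2 = 1 := by
    intro c hc
    obtain ⟨k, hk⟩ := hcit t ht ⟨c, hc⟩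
    have hk' : c ^ 2 ^ k = 1 := congrArg Subtype.val hk
    obtain ⟨j, -, hj⟩ := (Nat.dvd_prime_pow Nat.prime_two).1 (orderOf_dvd_of_pow_eq_one hk')
    rcases Nat.lt_or_ge j 2 with hlt | hge
    · apply orderOf_dvd_iff_pow_eq_one.1
      rw [hj]
      exact (pow_dvd_pow 2 (Nat.lt_succ_iff.1 hlt)).trans (pow_one 2).dvd
    · exfalso
      refine hfour ⟨c ^ 2 ^ (j - 2), ?_⟩
      rw [orderOf_pow' c (by positivity), hj, Nat.gcd_eq_right (pow_dvd_pow 2 (Nat.sub_le j 2))]
      rw [Nat.pow_div (Nat.sub_le j 2) (by norm_num), show j - (j - 2) = 2 by omega]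
  exact ⟨⟨⟨fun a b => Subtype.ext (comm_of_sq hexp a.2 b.2)⟩⟩, hexp⟩

end CfsgLib.Recognition.OneComposite
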