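import Cfsg.Agent.Lib.Recognition.OneComposite.Final

/-!
The transfer at the prime three, and the order two-rank at least three is excluded.
-/

set_option autoImplicit false
set_option linter.unusedSectionVars false

open Subgroup

namespace CfsgLib.Recognition.OneComposite

universe u

variable {G : Type u} [Group G] [Finite G]

theorem eq_three_of_nine_dvd {n : ℕ} (hn : n.Prime) (h : 9 ∣ 2 ^ n + 1) : n = 3 := by
  have h6 : 2 ^ n % 9 = 2 ^ (n % 6) % 9 := by
    conv_lhs => rw [← Nat.div_add_mod n 6, pow_add, pow_mul, Nat.mul_mod, Nat.pow_mod]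
    norm_num
  have h3 : n % 6 = 3 := by
    have : n % 6 < 6 := Nat.mod_lt _ (by norm_num)
    generalize n % 6 = r at h6 this
    interval_cases r <;> omega
  exact ((Nat.prime_dvd_prime_iff_eq Nat.prime_three hn).1 (by omega)).symm

/-- Rank at least three does not occur. -/
theorem Big.false [IsSimpleGroup G] {q : ℕ} {S : Sylow 2 G} (B : Big G q S) : False := by
  classical
  haveI : Fact (Nat.Prime 2) := ⟨Nat.prime_two⟩
  haveI : Fact (Nat.Prime 3) := ⟨Nat.prime_three⟩
  obtain ⟨n, p, c, t, rfl, hnp, hS, hp, hG, ht, ht1, hoc, hct, hcH, hCc, hfix⟩ := B.arith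
  have h8 := B.eight
  rw [hS] at h8
  have hn3 : 3 ≤ n := by
    by_contra hlt
    interval_cases n <;> norm_num at h8
  have hp3 : ¬ 3 ∣ p := by
    rcases hnp.eq_two_or_odd with rfl | hodd
    · omega
    intro hd
    have : 2 ^ n % 3 = 2 := by
      rw [Nat.pow_mod, show n = 2 * (n / 2) + 1 by omega, pow_succ, pow_mul]
      simp [Nat.mul_mod, Nat.pow_mod]
    omega
  have hsmall : ∀ k, 3 ^ k ∣ Nat.card G → k ≤ 3 ∧ (k = 3 → n = 3) := by
    intro k hk
    rw [hG] at hk
    have hcop : ∀ j, (3 ^ j).Coprime (2 ^ n * p) := fun j => Nat.Coprime.mul_right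
      (Nat.Coprime.pow _ _ (by norm_num)) (((Nat.Prime.coprime_iff_not_dvd Nat.prime_three).2 hp3).pow_left j)
    have hk' : 3 ^ k ∣ (2 ^ n + 1) * 3 := by
      refine (hcop k).dvd_of_dvd_mul_left ?_
      rw [show 2 ^ n * p * ((2 ^ n + 1) * 3) = (2 ^ n + 1) * (2 ^ n * (p * 3)) by ring]
      exact hk
    constructor
    · by_contra hlt
      have h81 : 81 ∣ (2 ^ n + 1) * 3 := (pow_dvd_pow 3 (show 4 ≤ k by omega)).trans hk'
      have h27 : 27 ∣ 2 ^ n + 1 := by omega
      rw [eq_three_of_nine_dvd hnp (dvd_trans (by norm_num) h27)] at h27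
      norm_num at h27
    · rintro rfl
      exact eq_three_of_nine_dvd hnp (by omega)
  have hs2 : ∀ s : G, s ∈ (S : Subgroup G) → s ^ 2 = 1 := fun s hs => B.sq hs
  have hto : orderOf t = 2 := orderOf_two_of_sq (B.hyp.sylow_sq S) ht ht1
  -- involutions commuting with `t` and normalising a 3-group through `c`
  have hkey : ∀ M : Subgroup G, IsPGroup 3 ↥M → c ∈ M → ∀ s : G, s ^ 2 = 1 → s * t = t * s →
      s ∈ normalizer (M : Set G) → s = 1 ∨ s = t := by
    intro M hM hcM s hs2' hst hsM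
    have hsS : s ∈ (S : Subgroup G) := B.mem_of_invol hs2' (B.centralizer_le ht ht1 (mem_C.2 hst))
    have h1 : s * c * s⁻¹ * c⁻¹ = 1 := by
      refine inter_eq_one S.isPGroup' (odd_card_of_isPGroup B.hyp hM) ?_
        (mul_mem (conj_mem_of_normalizer hsM hcM) (inv_mem hcM))
      rw [show s * c * s⁻¹ * c⁻¹ = s * (c * s⁻¹ * c⁻¹) by group]
      exact mul_mem hsS (conj_mem_of_normalizer hcH (inv_mem hsS))
    exact hfix s hsS (mul_inv_eq_iff_eq_mul.1 (mul_inv_eq_one.1 h1)).symm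
  -- the normaliser of such a group has a Sylow 2-subgroup of order two
  have hnpc : ∀ M : Subgroup G, IsPGroup 3 ↥M → c ∈ M → t ∈ normalizer (M : Set G) →
      (∀ x ∈ normalizer (M : Set G), Odd (orderOf x) → x ∈ cr (normalizer (M : Set G))) ∧
      (∀ i ∈ normalizer (M : Set G), orderOf i = 2 →
        i * t⁻¹ ∈ cr (normalizer (M : Set G))) := by
    intro M hM hcM htM
    set N := normalizer (M : Set G)
    have hp2 : IsPGroup 2 ↥(zpowers (⟨t, htM⟩ : ↥N)) :=
      IsPGroup.of_card (n := 1) (by rw [Nat.card_zpowers, Subgroup.orderOf_mk, hto, pow_one])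
    obtain ⟨T, hT⟩ := hp2.exists_le_sylow
    obtain ⟨U, hU⟩ := (T.isPGroup'.map N.subtype).exists_le_sylow
    have hTt : ∀ x ∈ (T : Subgroup ↥N), (x : G) = 1 ∨ (x : G) = t := fun x hx =>
      hkey M hM hcM x (B.hyp.sylow_sq U _ (hU ⟨x, hx, rfl⟩))
        (comm_of_sq (B.hyp.sylow_sq U) (hU ⟨x, hx, rfl⟩) (hU ⟨_, hT (mem_zpowers _), rfl⟩)) x.2
    have hle : normalizer ((T : Subgroup ↥N) : Set ↥N) ≤
        centralizer ((T : Subgroup ↥N) : Set ↥N) := by
      intro m hm
      refine mem_centralizer_iff.2 fun u hu => ?_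
      rcases hTt _ ((mem_normalizer_iff.1 hm u).1 hu) with e | e
      · rw [conj_eq_one_iff.1 (Subtype.ext e : m * u * m⁻¹ = 1), one_mul, mul_one]
      · rcases hTt u hu with e' | e'
        · rw [(Subtype.ext e' : u = 1), one_mul, mul_one]
        · exact (mul_inv_eq_iff_eq_mul.1 (Subtype.ext (e.trans e'.symm) : m * u * m⁻¹ = u)).symm
    obtain ⟨h1, h2⟩ := cr_of_npc T hle
    refine ⟨h1, fun i hi hio => ?_⟩
    have hip : IsPGroup 2 ↥(zpowers (⟨i, hi⟩ : ↥N)) :=
      IsPGroup.of_card (n := 1) (by rw [Nat.card_zpowers, Subgroup.orderOf_mk, hio, pow_one])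
    obtain ⟨T', hT'⟩ := hip.exists_le_sylow
    obtain ⟨z, hz⟩ := MulAction.exists_smul_eq ↥N T' T
    have hzi : z * ⟨i, hi⟩ * z⁻¹ ∈ (T : Subgroup ↥N) := by
      rw [← hz]
      exact ⟨_, hT' (mem_zpowers _), rfl⟩
    rcases hTt _ hzi with e | e
    · exfalso
      have : i = 1 := conj_eq_one_iff.1 (e : (z : G) * i * (z : G)⁻¹ = 1)
      rw [this, orderOf_one] at hio
      norm_num at hio
    · have e' : (z : G) * i * (z : G)⁻¹ = t := e
      have h3 := h2 i hi (z : G) z.2
      have ht' : t⁻¹ = (z : G) * i⁻¹ * (z : G)⁻¹ := by rw [← e']; group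
      rw [ht', show i * ((z : G) * i⁻¹ * (z : G)⁻¹) = i * z * i⁻¹ * (z : G)⁻¹ by group]
      exact h3
  -- the Sylow 3-subgroup of `C(c)`
  set C := centralizer ({c} : Set G) with hC
  obtain ⟨R₀⟩ : Nonempty (Sylow 3 ↥C) := inferInstance
  have hR9 : Nat.card ↥(R₀ : Subgroup ↥C) = 9 := by
    rw [R₀.card_eq_multiplicity, hCc, show 18 = 3 ^ 2 * 2 by norm_num,
      Nat.factorization_mul (by norm_num) (by norm_num), Finsupp.add_apply,
      Nat.prime_three.factorization_pow, Finsupp.single_eq_same,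
      Nat.factorization_eq_zero_of_not_dvd (show ¬ 3 ∣ 2 by norm_num)]
    norm_num
  haveI hR₀n : (R₀ : Subgroup ↥C).Normal := by
    refine normal_of_index_eq_two ?_
    have := Subgroup.card_mul_index (R₀ : Subgroup ↥C)
    rw [hR9, hCc] at this
    omega
  set R : Subgroup G := (R₀ : Subgroup ↥C).map C.subtype with hR
  have hR3 : IsPGroup 3 ↥R := R₀.isPGroup'.map _
  have hRcard : Nat.card ↥R = 9 := by rw [hR, card_map_of_injective C.subtype_injective, hR9]
  have hcR : c ∈ R := by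
    have hcp : IsPGroup 3 ↥(zpowers (⟨c, mem_C.2 rfl⟩ : ↥C)) :=
      IsPGroup.of_card (n := 1) (by rw [Nat.card_zpowers, Subgroup.orderOf_mk, hoc, pow_one])
    obtain ⟨R', hR'⟩ := hcp.exists_le_sylow
    haveI := Sylow.unique_of_normal R₀ hR₀n
    rw [Subsingleton.elim R' R₀] at hR'
    exact ⟨_, hR' (mem_zpowers _), rfl⟩
  have htR : t ∈ normalizer (R : Set G) := by
    refine mem_normalizer_iff_map_conj_eq.2 (eq_of_le_of_card_ge ?_ ?_)
    · rintro _ ⟨_, ⟨y, hy, rfl⟩, rfl⟩
      exact ⟨⟨t, mem_C.2 hct.symm⟩ * y * ⟨t, mem_C.2 hct.symm⟩⁻¹, hR₀n.conj_mem y hy _, rfl⟩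
    · exact (card_map_of_injective (MulAut.conj t).injective).ge
  -- a Sylow 3-subgroup through `R` normalised by `t`
  obtain ⟨P, hRP, htP⟩ : ∃ P : Sylow 3 G, R ≤ (P : Subgroup G) ∧
      t ∈ normalizer ((P : Subgroup G) : Set G) := by
    set N := normalizer (R : Set G)
    set K := cr N
    obtain ⟨P', hP'⟩ := hR3.exists_le_sylow
    obtain ⟨hodd, -⟩ := hnpc R hR3 hcR htR
    obtain ⟨k, hk⟩ := IsPGroup.iff_card.1 P'.isPGroup'
    have hk3 := (hsmall k (hk ▸ Subgroup.card_subgroup_dvd_card _)).1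
    have hP'N : (P' : Subgroup G) ≤ N := by
      have hk2 : 2 ≤ k := by
        by_contra hlt
        have := Nat.le_of_dvd (by positivity) (hk ▸ hRcard ▸ card_dvd_of_le hP')
        interval_cases k <;> norm_num at this
      rcases (show k = 2 ∨ k = 3 by omega) with rfl | rfl
      · rw [← eq_of_le_of_card_ge hP' (by rw [hk, hRcard]; norm_num)]
        exact le_normalizer
      · have hidx : (R.subgroupOf (P' : Subgroup G)).index = 3 := by
          have h1 := Subgroup.card_mul_index (R.subgroupOf (P' : Subgroup G))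
          rw [Nat.card_congr (subgroupOfEquivOfLe hP').toEquiv, hRcard, hk] at h1
          omega
        haveI : (R.subgroupOf (P' : Subgroup G)).Normal := Subgroup.normal_of_index_eq_minFac_card (by
          rw [hidx, hk, Nat.Prime.pow_minFac Nat.prime_three (by norm_num)])
        exact (normal_subgroupOf_iff_le_normalizer hP').1 this
    have hP'K : (P' : Subgroup G) ≤ K := fun x hx =>
      hodd x (hP'N hx) (odd_orderOf_of_isPGroup B.hyp P'.isPGroup' hx)
    have htK : zpowers t ≤ normalizer (K : Set G) :=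
      zpowers_le.2 (normalizer_le_normalizer_cr N (le_normalizer htR))
    have hcop : (Nat.card ↥(zpowers t)).Coprime (Nat.card ↥K) := by
      rw [Nat.card_zpowers, hto]; exact Nat.coprime_two_left.2 (odd_card_cr N)
    obtain ⟨P'', hP'', hP''t⟩ := CfsgLib.Coprime.exists_le_invariant_sylow htK hcop
      (Or.inl (CfsgLib.Coprime.isSolvable_zpowers t)) (hP'.trans hP'K) hR3 (zpowers_le.2 htR)
    obtain ⟨P, hP⟩ := (P''.isPGroup'.map K.subtype).exists_le_sylow
    have hcardle : Nat.card ↥(P : Subgroup G) ≤ Nat.card ↥((P'' : Subgroup ↥K).map K.subtype) := by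
      rw [show Nat.card ↥(P : Subgroup G) = Nat.card ↥(P' : Subgroup G) by
        rw [P.card_eq_multiplicity, P'.card_eq_multiplicity],
        card_map_of_injective K.subtype_injective, hk, P''.card_eq_multiplicity]
      exact Nat.pow_le_pow_right (by norm_num)
        ((Nat.Prime.pow_dvd_iff_le_factorization Nat.prime_three Nat.card_pos.ne').1
          (hk ▸ card_dvd_of_le hP'K))
    rw [eq_of_le_of_card_ge hP hcardle] at hP'' hP''t
    exact ⟨P, hP'', hP''t (mem_zpowers t)⟩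
  -- the normaliser of `P`
  obtain ⟨hodd, hinv⟩ := hnpc (P : Subgroup G) P.isPGroup' (hRP hcR) htP
  set N := normalizer ((P : Subgroup G) : Set G) with hN
  obtain ⟨k, hk⟩ := IsPGroup.iff_card.1 P.isPGroup'
  obtain ⟨hk3, hk3'⟩ := hsmall k (hk ▸ Subgroup.card_subgroup_dvd_card _)
  have hk2 : 2 ≤ k := by
    by_contra hlt
    have := Nat.le_of_dvd (by positivity) (hk ▸ hRcard ▸ card_dvd_of_le hRP)
    interval_cases k <;> norm_num at this
  have hoddP : ∀ x ∈ N, Odd (orderOf x) → x ∈ (P : Subgroup G) := by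
    intro x hx hxo
    rcases eq_or_ne x 1 with rfl | hx1
    · exact one_mem _
    obtain ⟨hr, hr2⟩ := B.hyp.orderOf_odd hxo hx1
    by_cases hr3 : orderOf x = 3
    · have h2 : IsPGroup 3 ↥((P : Subgroup G) ⊔ zpowers x) :=
        IsPGroup.to_sup_of_normal_left' P.isPGroup'
          (IsPGroup.of_card (n := 1) (by rw [Nat.card_zpowers, hr3, pow_one])) (zpowers_le.2 hx)
      exact P.is_maximal' h2 le_sup_left ▸ mem_sup_right (mem_zpowers x)
    exfalso
    haveI := Fact.mk hr
    letI : MulAction ↥(zpowers x) ↥(P : Subgroup G) :=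
      MulAction.compHom _ (CfsgLib.Coprime.conjHom (zpowers_le.2 hx : zpowers x ≤ N))
    have hxp : IsPGroup (orderOf x) ↥(zpowers x) :=
      IsPGroup.of_card (n := 1) (by rw [Nat.card_zpowers, pow_one])
    have h1 := hxp.card_modEq_card_fixedPoints ↥(P : Subgroup G)
    have h2 : Nat.card ↥(MulAction.fixedPoints ↥(zpowers x) ↥(P : Subgroup G)) = 1 := by
      rw [Nat.card_eq_one_iff_unique]
      refine ⟨⟨fun y z => Subtype.ext ?_⟩, ⟨⟨1, fun g => Subtype.ext ?_⟩⟩⟩
      · have key : ∀ y : MulAction.fixedPoints ↥(zpowers x) ↥(P : Subgroup G), y.1 = 1 := by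
          intro y
          by_contra hy1
          have hy := congrArg Subtype.val (y.2 ⟨x, mem_zpowers x⟩)
          have hxy : x * (y.1 : G) = (y.1 : G) * x := mul_inv_eq_iff_eq_mul.1 hy
          have hy1' : (y.1 : G) ≠ 1 := fun e => hy1 (Subtype.ext e)
          have hyo : orderOf (y.1 : G) = 3 :=
            orderOf_eq_prime (B.hyp.pow_q P.isPGroup' y.1.2) hy1'
          exact hr3 (B.hyp.eq_of_commute rfl hyo hr Nat.prime_three hr2 (by norm_num) hxy)
        rw [key y, key z]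
      · show (g : G) * 1 * (g : G)⁻¹ = 1
        group
    rw [h2, hk] at h1
    have h3 : orderOf x ∣ 3 ^ k - 1 :=
      (Nat.modEq_iff_dvd' (Nat.one_le_pow _ _ (by norm_num))).1 h1.symm
    rcases (show k = 2 ∨ k = 3 by omega) with rfl | rfl
    · exact hr2 ((Nat.prime_dvd_prime_iff_eq hr Nat.prime_two).1
        (hr.dvd_of_dvd_pow (show orderOf x ∣ 2 ^ 3 by norm_num at h3 ⊢; exact h3)))
    · have h13 : orderOf x ∣ 13 :=
        ((Nat.coprime_primes hr Nat.prime_two).2 hr2).dvd_of_dvd_mul_left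
          (show orderOf x ∣ 2 * 13 by norm_num at h3 ⊢; exact h3)
      rcases (Nat.dvd_prime (by norm_num)).1 h13 with e | e
      · exact hr.ne_one e
      · have hd := orderOf_dvd_natCard x
        rw [e, hG] at hd
        have hn := hk3' rfl
        subst hn
        have : p = 7 := by norm_num at hp; omega
        subst this
        norm_num at hd
  have hcrP : ∀ x ∈ cr N, x ∈ (P : Subgroup G) := fun x hx => hoddP x (cr_le N hx)
    (Odd.of_dvd_nat (odd_card_cr N) (Subgroup.orderOf_dvd_natCard _ hx))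
  have hdec : ∀ m ∈ N, m ∉ (P : Subgroup G) → m * t⁻¹ ∈ (P : Subgroup G) := by
    intro m hm hmP
    have hm1 : m ≠ 1 := fun e => hmP (e ▸ one_mem _)
    rcases B.hyp.ord m hm1 with hpr | h6
    · have h2 : orderOf m = 2 := by
        rcases hpr.eq_two_or_odd' with e | e
        · exact e
        · exact absurd (hoddP m hm e) hmP
      exact hcrP _ (hinv m hm h2)
    · have h6' : m ^ 6 = 1 := by rw [← pow_orderOf_eq_one m, h6]
      have h3o : orderOf (m ^ 3) = 2 := by
        rw [orderOf_pow' m (by norm_num), h6]; norm_num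
      have h4o : Odd (orderOf (m ^ 4)) := by
        rw [orderOf_pow' m (by norm_num), h6]; norm_num
      have e : m = m ^ 4 * m ^ 3 := by
        rw [← pow_add, show 4 + 3 = 6 + 1 by norm_num, pow_add, h6', one_mul, pow_one]
      rw [e, mul_assoc]
      exact mul_mem (hoddP _ (pow_mem hm 4) h4o) (hcrP _ (hinv _ (pow_mem hm 3) h3o))
  have htP' : t ∉ (P : Subgroup G) := fun h => ht1 (orderOf_eq_one_iff.1 (by
    have := odd_orderOf_of_isPGroup B.hyp P.isPGroup' h
    rw [hto] at this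
    exact absurd this (by decide)))
  -- `c` is outside the derived subgroup of `P`
  have hPcenter : ∀ x y : ↥(P : Subgroup G), x * y * x⁻¹ * y⁻¹ ∈ center ↥(P : Subgroup G) := by
    intro x y
    set Z := center ↥(P : Subgroup G)
    have hcom : ∀ a b : ↥(P : Subgroup G) ⧸ Z, a * b = b * a := by
      haveI : Nontrivial ↥(P : Subgroup G) := Finite.one_lt_card_iff_nontrivial.1 (by
        rw [hk]; exact Nat.one_lt_pow (by omega) (by norm_num))
      haveI := P.isPGroup'.center_nontrivial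
      obtain ⟨i, hi⟩ := IsPGroup.iff_card.1 (P.isPGroup'.to_quotient Z)
      have hcq := Subgroup.card_eq_card_quotient_mul_card_subgroup Z
      obtain ⟨j, hj⟩ := IsPGroup.iff_card.1 (P.isPGroup'.to_subgroup Z)
      have hj1 : 1 ≤ j := by
        by_contra hlt
        have := Finite.one_lt_card (α := ↥Z)
        rw [hj, show j = 0 by omega] at this
        norm_num at this
      rw [hi, hj, hk, ← pow_add] at hcq
      have hsum := Nat.pow_right_injective (le_refl 2 |>.trans (by norm_num)) hcq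
      rcases (show i = 0 ∨ i = 1 ∨ i = 2 by omega) with rfl | rfl | rfl
      · intro a b
        haveI := (Nat.card_eq_one_iff_unique.1 (by rw [hi, pow_zero])).1
        exact Subsingleton.elim _ _
      · haveI := isCyclic_of_prime_card (by rw [hi, pow_one] : Nat.card (↥(P : Subgroup G) ⧸ Z) = 3)
        exact fun a b => mul_comm' a b
      · exact IsPGroup.commutative_of_card_eq_prime_sq hi
    refine (QuotientGroup.eq_one_iff _).1 ?_
    simp only [QuotientGroup.mk_mul, QuotientGroup.mk_inv]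
    rw [hcom (x : ↥(P : Subgroup G) ⧸ Z)]
    group
  have hcd : (⟨c, hRP hcR⟩ : ↥(P : Subgroup G)) ∉ _root_.commutator ↥(P : Subgroup G) := by
    intro hc
    have hle : _root_.commutator ↥(P : Subgroup G) ≤ center ↥(P : Subgroup G) := by
      rw [_root_.commutator_def, commutator_le]
      exact fun x _ y _ => hPcenter x y
    have hPC : (P : Subgroup G) ≤ C := fun y hy => mem_C.2
      (congrArg Subtype.val (mem_center_iff.1 (hle hc) ⟨y, hy⟩))
    have hd := card_dvd_of_le hPC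
    rw [hk, hCc] at hd
    have hk2' : k = 2 := by
      rcases (show k = 2 ∨ k = 3 by omega) with rfl | rfl
      · rfl
      · norm_num at hd
    subst hk2'
    have hab := IsPGroup.commutative_of_card_eq_prime_sq hk
    have : _root_.commutator ↥(P : Subgroup G) = ⊥ := by
      rw [_root_.commutator_def, commutator_eq_bot_iff_le_centralizer]
      exact fun x _ => mem_centralizer_iff.2 fun y _ => hab y x
    rw [this, mem_bot] at hc
    have hc1 : c = 1 := congrArg Subtype.val hc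
    rw [hc1, orderOf_one] at hoc
    norm_num at hoc
  -- the homomorphism on `N`
  let π : ↥(P : Subgroup G) →* Abelianization ↥(P : Subgroup G) := Abelianization.of
  have hconjP : ∀ x : ↥(P : Subgroup G), t * (x : G) * t⁻¹ ∈ (P : Subgroup G) := fun x =>
    conj_mem_of_normalizer htP x.2
  let ψ : ↥(P : Subgroup G) →* Abelianization ↥(P : Subgroup G) := MonoidHom.mk'
    (fun x => π x * π ⟨t * x * t⁻¹, hconjP x⟩) (fun x y => by
      rw [map_mul, show (⟨t * ((x * y : ↥(P : Subgroup G)) : G) * t⁻¹, hconjP _⟩ : ↥(P : Subgroup G)) =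
        ⟨t * x * t⁻¹, hconjP x⟩ * ⟨t * y * t⁻¹, hconjP y⟩ from Subtype.ext (by simp [mul_assoc]),
        map_mul, mul_mul_mul_comm])
  have htt : t * t = 1 := by rw [← pow_two, B.sq ht]
  have hψt : ∀ x : ↥(P : Subgroup G), ψ ⟨t * x * t⁻¹, hconjP x⟩ = ψ x := by
    intro x
    show π _ * π ⟨t * (t * x * t⁻¹) * t⁻¹, _⟩ = π x * π _
    rw [show (⟨t * (t * x * t⁻¹) * t⁻¹, hconjP ⟨t * x * t⁻¹, hconjP x⟩⟩ : ↥(P : Subgroup G)) = x from
      Subtype.ext (by
        calc t * (t * x * t⁻¹) * t⁻¹ = (t * t) * x * (t * t)⁻¹ := by group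
          _ = x := by rw [htt]; group), mul_comm]
  let f : ↥N → Abelianization ↥(P : Subgroup G) := fun m =>
    if h : (m : G) ∈ (P : Subgroup G) then ψ ⟨m, h⟩ else
      ψ ⟨(m : G) * t⁻¹, hdec m m.2 h⟩
  have hfP : ∀ (m : ↥N) (y : G) (hy : y ∈ (P : Subgroup G)), (m : G) = y → f m = ψ ⟨y, hy⟩ := by
    rintro m y hy rfl
    simp only [f, dif_pos hy]
  have hft : ∀ (m : ↥N) (y : G) (hy : y ∈ (P : Subgroup G)), (m : G) = y * t → f m = ψ ⟨y, hy⟩ := by
    intro m y hy e
    have hm : (m : G) ∉ (P : Subgroup G) := fun h => htP' (by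
      rw [e] at h
      exact ((P : Subgroup G).mul_mem_cancel_left hy).1 h)
    simp only [f, dif_neg hm]
    exact congrArg ψ (Subtype.ext (show (m : G) * t⁻¹ = y by rw [e, mul_inv_cancel_right]))
  have hcases : ∀ m : ↥N, ∃ y, ∃ hy : y ∈ (P : Subgroup G),
      ((m : G) = y ∨ (m : G) = y * t) ∧ f m = ψ ⟨y, hy⟩ := by
    intro m
    by_cases h : (m : G) ∈ (P : Subgroup G)
    · exact ⟨m, h, Or.inl rfl, hfP m m h rfl⟩
    · exact ⟨_, hdec m m.2 h, Or.inr (by group), hft m _ _ (by group)⟩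
  let F : ↥N →* Abelianization ↥(P : Subgroup G) := MonoidHom.mk' f (fun m m' => by
    obtain ⟨y, hy, hm, e⟩ := hcases m
    obtain ⟨y', hy', hm', e'⟩ := hcases m'
    rw [e, e']
    have hy'' : t * y' * t⁻¹ ∈ (P : Subgroup G) := hconjP ⟨y', hy'⟩
    have htr : ∀ z : G, y * t * (y' * z) = y * (t * y' * t⁻¹) * (t * z) := fun z => by group
    rcases hm with hm | hm <;> rcases hm' with hm' | hm'
    · rw [hfP (m * m') (y * y') (mul_mem hy hy') (by rw [Subgroup.coe_mul, hm, hm']), ← map_mul]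
      rfl
    · rw [hft (m * m') (y * y') (mul_mem hy hy')
        (by rw [Subgroup.coe_mul, hm, hm', mul_assoc]), ← map_mul]
      rfl
    · rw [hft (m * m') (y * (t * y' * t⁻¹)) (mul_mem hy hy'')
        (by rw [Subgroup.coe_mul, hm, hm']; group), ← hψt ⟨y', hy'⟩, ← map_mul]
      rfl
    · rw [hfP (m * m') (y * (t * y' * t⁻¹)) (mul_mem hy hy'')
        (by rw [Subgroup.coe_mul, hm, hm', htr, htt, mul_one]), ← hψt ⟨y', hy'⟩, ← map_mul]
      rfl)
  have hexp : ∀ a : Abelianization ↥(P : Subgroup G), a ^ 3 = 1 := by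
    intro a
    obtain ⟨x, rfl⟩ : ∃ x, Abelianization.of x = a := QuotientGroup.mk_surjective a
    rw [← map_pow, show x ^ 3 = 1 from Subtype.ext (B.hyp.pow_q P.isPGroup' x.2), map_one]
  have hcN : c ∈ N := le_normalizer (hRP hcR)
  have hFc : F ⟨c, hcN⟩ ≠ 1 := by
    intro e
    have e1 : π ⟨c, hRP hcR⟩ * π ⟨t * c * t⁻¹, hconjP ⟨c, hRP hcR⟩⟩ = 1 :=
      (hfP ⟨c, hcN⟩ c (hRP hcR) rfl).symm.trans e
    rw [show (⟨t * c * t⁻¹, hconjP ⟨c, hRP hcR⟩⟩ : ↥(P : Subgroup G)) = ⟨c, hRP hcR⟩ from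
      Subtype.ext (show t * c * t⁻¹ = c by rw [← hct]; group)] at e1
    refine hcd ?_
    rw [← Abelianization.ker_of, MonoidHom.mem_ker]
    have h3 := hexp (π ⟨c, hRP hcR⟩)
    rw [pow_succ, pow_two, e1, one_mul] at h3
    exact h3
  -- a character of order three
  obtain ⟨φ, hφ⟩ : ∃ φ : ↥N →* Multiplicative (ZMod 3), φ ≠ 1 := by
    have hA3 : IsPGroup 3 ↥F.range := fun a => ⟨1, Subtype.ext (by
      rw [SubgroupClass.coe_pow, pow_one]; exact hexp a)⟩
    obtain ⟨i, hi⟩ := IsPGroup.iff_card.1 hA3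
    have hi0 : i ≠ 0 := fun e => hFc (by
      rw [e, pow_zero] at hi
      have : F ⟨c, hcN⟩ ∈ F.range := ⟨_, rfl⟩
      rwa [Subgroup.card_eq_one.1 hi, mem_bot] at this)
    obtain ⟨M, hM⟩ := Sylow.exists_subgroup_card_pow_prime 3 (G := ↥F.range) (n := i - 1)
      (hi ▸ pow_dvd_pow 3 (Nat.sub_le i 1))
    haveI : M.Normal := inferInstance
    have hq : Nat.card (↥F.range ⧸ M) = 3 := by
      have h1 := Subgroup.card_eq_card_quotient_mul_card_subgroup M
      rw [hi, hM, show 3 ^ i = 3 * 3 ^ (i - 1) by rw [← pow_succ']; congr 1; omega] at h1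
      exact (Nat.eq_of_mul_eq_mul_right (by positivity) h1).symm
    let e := mulEquivOfPrimeCardEq hq
      (show Nat.card (Multiplicative (ZMod 3)) = 3 by simp [Nat.card_zmod])
    refine ⟨(e.toMonoidHom.comp (QuotientGroup.mk' M)).comp F.rangeRestrict, fun h1 => ?_⟩
    have hMtop : ∀ a : ↥F.range, a ∈ M := by
      intro a
      obtain ⟨m, rfl⟩ := F.rangeRestrict_surjective a
      have h2 := DFunLike.congr_fun h1 m
      exact (QuotientGroup.eq_one_iff _).1 (e.injective (h2.trans (map_one e).symm))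
    have : M = ⊤ := eq_top_iff.2 fun a _ => hMtop a
    rw [this, card_top, hi] at hM
    have := Nat.pow_right_injective (by norm_num : 2 ≤ 3) hM
    omega
  obtain ⟨x, hxP, hx⟩ : ∃ x : ↥N, (x : G) ∈ (P : Subgroup G) ∧ φ x ≠ 1 := by
    by_contra hno
    push Not at hno
    refine hφ (MonoidHom.ext fun m => ?_)
    have hφt : φ ⟨t, htP⟩ = 1 := by
      have h2 : φ ⟨t, htP⟩ ^ 2 = 1 := by
        rw [← map_pow, show (⟨t, htP⟩ : ↥N) ^ 2 = 1 from Subtype.ext (B.sq ht), map_one]
      have h3 : φ ⟨t, htP⟩ ^ 3 = 1 := CfsgLib.PGroup.HallWielandt.pow_eq_one_of_dvd _ dvd_rfl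
      rwa [pow_succ, h2, one_mul] at h3
    by_cases h : (m : G) ∈ (P : Subgroup G)
    · exact hno m h
    · have e : m = ⟨(m : G) * t⁻¹, le_normalizer (hdec m m.2 h)⟩ * ⟨t, htP⟩ :=
        Subtype.ext (by simp)
      rw [e, map_mul, hφt, mul_one]
      exact hno _ (hdec m m.2 h)
  have hW : Cfsg.IsWeaklyClosed (P : Subgroup G) (P : Subgroup G) :=
    ⟨le_rfl, fun g hg => eq_of_le_of_card_ge hg (card_map_of_injective (MulAut.conj g).injective).ge⟩
  have hcomm : ∀ u ∈ (P : Subgroup G), ∀ z ∈ (P : Subgroup G),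
      (fun y : G => y⁻¹ * z⁻¹ * y * z)^[3 - 1] u = 1 := by
    intro u hu z hz
    have hc2 := mem_center_iff.1 (hPcenter (⟨u, hu⟩⁻¹) (⟨z, hz⟩⁻¹)) ⟨z, hz⟩
    have hz2 : z * (u⁻¹ * z⁻¹ * u * z) = u⁻¹ * z⁻¹ * u * z * z := by
      simpa [Subgroup.coe_mul, mul_assoc] using congrArg Subtype.val hc2
    show (u⁻¹ * z⁻¹ * u * z)⁻¹ * z⁻¹ * (u⁻¹ * z⁻¹ * u * z) * z = 1
    calc (u⁻¹ * z⁻¹ * u * z)⁻¹ * z⁻¹ * (u⁻¹ * z⁻¹ * u * z) * z
        = (z * (u⁻¹ * z⁻¹ * u * z))⁻¹ * ((u⁻¹ * z⁻¹ * u * z) * z) := by group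
      _ = 1 := by rw [hz2]; group
  have hT := CfsgLib.PGroup.HallWielandt.transfer_eq P hW hcomm rfl φ (x : G) hxP
  rw [CfsgLib.PGroup.HallWielandt.ext1_of_mem φ x.2] at hT
  set τ := MonoidHom.transfer φ
  rcases IsSimpleGroup.eq_bot_or_eq_top_of_normal τ.ker inferInstance with e | e
  · have hinj : Function.Injective τ := (MonoidHom.ker_eq_bot_iff τ).1 e
    refine ht1 (hinj ?_)
    rw [map_one]
    have h2 : τ t ^ 2 = 1 := by rw [← map_pow, B.sq ht, map_one]
    have h3 : τ t ^ 3 = 1 := CfsgLib.PGroup.HallWielandt.pow_eq_one_of_dvd _ dvd_rfl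
    rwa [pow_succ, h2, one_mul] at h3
  · refine hx ?_
    rw [← hT]
    exact (MonoidHom.mem_ker (f := τ)).1 (e ▸ mem_top _)

end CfsgLib.Recognition.OneComposite
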